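import Cfsg.Agent.StdRank2.UFour.Mover
import Cfsg.Agent.StdEven.CoreQuot
import Cfsg.Agent.StdEven.StepFour

/-!
# The mover in `X = N_G(O)/O` from the mover in `G`

`exists_mover`: from `StepFour.Data A t T J W`, an element of `N_G(T)` moving `t` (`Data.exists_normalizer`) and a
2-subgroup `Y ≤ ⟨t⟩ A` with image containing `Q`, normalised by `N_G(T)`.
-/

set_option autoImplicit false
set_option linter.unusedSectionVars false

namespace Cfsg.Agent.StdRank2.UFour.MoverG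

open Subgroup
open Cfsg.Agent.StdEven Cfsg.Agent.StdEven.Syl Cfsg.Agent.StdEven.CoreQuot Cfsg.Agent.StdEven.StepFour

variable {F : Type*} [Field F] [CharP F 2] {B : Bar F} {G : Type*} [Group G] [Finite G]
variable {A : Subgroup G} {t : G} {T J W Y : Subgroup G}

/-- an element of `w K` commuting with `X_a` is in `X_z`. -/
theorem cent_w {H : Type*} [Group H] {E : WEnv B H} {v : B.V}
    (h : ∀ s, E.w v * E.xa s = E.xa s * E.w v) : ∃ x, E.w v = E.xz x := by
  have h1 : ∀ s, B.ma s v = v := by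
    intro s
    apply E.w_injective
    rw [← E.conj_ma, ← h]; group
  have h2 : v.2.2 = 0 := by
    have h3 := congrArg (fun p => p.2.1) (h1 1)
    change v.2.1 + 1 * (v.2.2 : F) = v.2.1 at h3
    have h4 : (v.2.2 : F) = 0 := by linear_combination h3
    exact Subtype.ext h4
  have h5 : v.2.1 = 0 := by
    apply Seeding.SeedEnv.tr_nondeg (B := B)
    intro s
    have h3 := congrArg Prod.fst (h1 s)
    change v.1 + B.tr (s * B.s v.2.1) + B.nm s * v.2.2 = v.1 at h3
    rw [h2, mul_zero, add_zero] at h3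
    have h4 : B.tr (s * B.s v.2.1) = 0 := left_eq_add.1 h3.symm
    rw [← B.tr_s, map_mul, B.invol, mul_comm]
    exact h4
  refine ⟨v.1, ?_⟩
  rw [← E.w_z]
  congr 1
  exact Prod.ext rfl (Prod.ext h5 h2)

/-- `N_G(Y) ≤ N_G(O)`, if the image of `Y` contains `Q`. -/
theorem normalizer_le (h : Hyp A t T) {E : WEnv B (XQ A t)} (hEt : E.t = h.tX) (htY : t ∈ Y)
    (hO : ∀ o ∈ core A t, ∀ y ∈ Y, o * y = y * o) (hQ : E.Q ≤ im A t Y) :
    normalizer (Y : Set G) ≤ NO A t := by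
  apply h.normalizer_le htY hO
  intro x hx hxo
  have h1 : x * E.t = E.t * x := by
    rw [hEt]
    exact hx _ (pr_mem_im (n := ⟨t, h.t_mem⟩) htY)
  obtain ⟨v, hv⟩ := E.cent_w h1 (fun g hg => hx g (hQ hg))
  apply eq_one_of_sq_of_odd _ hxo
  rcases hv with hv | hv
  · rw [hv, E.w_sq]
  · rw [hv]
    calc E.t * E.w v * (E.t * E.w v) = E.t * (E.w v * E.t) * E.w v := by group
      _ = (E.t * E.t) * (E.w v * E.w v) := by rw [← E.t_w]; group
      _ = 1 := by rw [E.t_sq, E.w_sq, one_mul]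

/-- **The mover.** -/
theorem exists_mover (h : Hyp A t T) (D : Data A t T J W) {E : WEnv B (XQ A t)} (hEt : E.t = h.tX)
    (hNO : normalizer (T : Set G) ≤ NO A t)
    (hW : ∀ (w : G) (hw : w ∈ W) (hn : w ∈ NO A t), ∃ v, pr A t ⟨w, hn⟩ = E.w v)
    (ha : ∀ s, E.xa s ∈ im A t T)
    {g : G} (hg : g ∈ normalizer (T : Set G)) {k : ℕ} (hk : g ^ 2 ^ k = 1) (hgt : g * t ≠ t * g) :
    ∃ (n : ↥(NO A t)) (c : B.K), (n : G) ∈ normalizer (T : Set G) ∧ c ≠ 0 ∧
      pr A t n * E.t * (pr A t n)⁻¹ = E.xz c * E.t ∧ pr A t n * E.xz c * (pr A t n)⁻¹ = E.xz c := by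
  have hWT : W ≤ T := D.W_J.trans D.J_le
  obtain ⟨i, v, hv, hv1, h1, h2⟩ := Mover.power (t := t) h.tt (W := W) (fun w hw => D.isT.cent w (hWT hw))
    (fun i => D.orb h.ht (D.normalizer_T_le (pow_mem hg i))) hk hgt
  set m := g ^ i with hm
  have hmT : m ∈ normalizer (T : Set G) := pow_mem hg i
  have hmN : m ∈ NO A t := hNO hmT
  have hvT : v ∈ T := hWT hv
  have hvN : v ∈ NO A t := h.T_le hvT
  -- `v` is central in `T`
  have hcen : ∀ x ∈ T, v * x = x * v := by
    intro x hx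
    have h3 : m⁻¹ * x * m ∈ T := conj_inv_mem_of_mem_normalizer hmT hx
    have h4 := D.isT.cent _ h3
    have h5 := D.isT.cent _ hx
    have h6 : x * (m * t * m⁻¹) = m * t * m⁻¹ * x := by
      calc x * (m * t * m⁻¹) = m * (m⁻¹ * x * m * t) * m⁻¹ := by group
        _ = m * (t * (m⁻¹ * x * m)) * m⁻¹ := by rw [h4]
        _ = m * t * m⁻¹ * x := by group
    rw [h1, ← mul_assoc, mul_assoc v, ← h5, ← mul_assoc v] at h6
    exact (mul_right_cancel h6).symm
  obtain ⟨w, hw⟩ := hW v hv hvN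
  obtain ⟨c, hc⟩ := cent_w (E := E) (v := w) (by
    intro s
    obtain ⟨x, hx, hxs⟩ := mem_im.mp (ha s)
    rw [← hw, ← hxs, ← map_mul, ← map_mul]
    congr 1
    exact Subtype.ext (hcen x hx))
  rw [hc] at hw
  refine ⟨⟨m, hmN⟩, c, hmT, ?_, ?_, ?_⟩
  · rintro rfl
    rw [E.xz_zero] at hw
    have h3 : (⟨v, hvN⟩ : NO A t) = 1 := by
      apply h.pr_inj (Y := T) h.isT.syl.two hvT (one_mem T)
      rw [hw, map_one]
    exact hv1 (congrArg Subtype.val h3)
  · rw [← hw, hEt, h.tX_eq, ← map_mul, ← map_inv, ← map_mul, ← map_mul]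
    congr 1
    exact Subtype.ext h1
  · rw [← hw, ← map_mul, ← map_inv, ← map_mul]
    congr 1
    exact Subtype.ext h2

end Cfsg.Agent.StdRank2.UFour.MoverG
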