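import Cfsg.Agent.StdRank2.UFour.SeedOdd

/-!
# The seed for `U₄(q)`

`U4In E`: the two extra facts: `(nb xb(1))³ = 1` and `P = ⟨U, nb, C_T(Z)⟩` is normal in `C(⟨t⟩ Z)`.
`exists_seed`: an element of `N(⟨t⟩ Z)` moving `t` to `z t` gives a `Seed` whose group commutes with `nb`.
-/

set_option autoImplicit false
set_option linter.unusedSectionVars false

namespace Cfsg.Agent.StdRank2.UFour.SeedU4

open Subgroup
open Cfsg.Agent.StdEven.Syl
open Cfsg.Agent.StdRank2.UFour.Seeding Cfsg.Agent.StdRank2.UFour.SeedMove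
open Cfsg.Agent.StdRank2.UFour.SeedPre Cfsg.Agent.StdRank2.UFour.SeedOdd

variable {F : Type*} [Field F] [CharP F 2] {B : Bar F} {G : Type*} [Group G] (E : Env B G)

/-- `Q₁ = X_z X_c X_a`. -/
def Q1 : Subgroup G where
  carrier := {g | ∃ x y s, g = E.xz x * E.xc y * E.xa s}
  mul_mem' := by
    rintro _ _ ⟨x, y, s, rfl⟩ ⟨x', y', s', rfl⟩
    refine ⟨x + x' + B.tr (s * B.s y'), y + y', s + s', ?_⟩
    have h1 : E.xa s * E.xc y' = E.xz (B.tr (s * B.s y')) * E.xc y' * E.xa s :=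
      mul_inv_eq_iff_eq_mul.1 (E.a_c s y')
    calc E.xz x * E.xc y * E.xa s * (E.xz x' * E.xc y' * E.xa s')
        = E.xz x * E.xc y * (E.xa s * E.xz x') * E.xc y' * E.xa s' := by group
      _ = E.xz x * (E.xc y * E.xz x') * (E.xa s * E.xc y') * E.xa s' := by rw [← E.z_a]; group
      _ = E.xz x * E.xz x' * (E.xc y * E.xz (B.tr (s * B.s y'))) * E.xc y' * E.xa s * E.xa s' := by
          rw [← E.z_c, h1]; group
      _ = _ := by rw [← E.z_c, E.xz_add, E.xz_add, E.xc_add, E.xa_add]; group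
  one_mem' := ⟨0, 0, 0, by rw [E.xz_zero, E.xc_zero, E.xa_zero]; group⟩
  inv_mem' := by
    rintro _ ⟨x, y, s, rfl⟩
    refine ⟨x + B.tr (s * B.s y), y, s, ?_⟩
    have h1 : E.xa s * E.xc y = E.xz (B.tr (s * B.s y)) * E.xc y * E.xa s :=
      mul_inv_eq_iff_eq_mul.1 (E.a_c s y)
    have iz : (E.xz x)⁻¹ = E.xz x := WEnv.inv_of_sq (E.xz_sq x)
    have ic : (E.xc y)⁻¹ = E.xc y := WEnv.inv_of_sq (E.xc_sq y)
    have ia : (E.xa s)⁻¹ = E.xa s := WEnv.inv_of_sq (E.xa_sq s)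
    rw [mul_inv_rev, mul_inv_rev, iz, ic, ia]
    calc E.xa s * (E.xc y * E.xz x) = E.xa s * (E.xz x * E.xc y) := by rw [← E.z_c]
      _ = (E.xa s * E.xz x) * E.xc y := by group
      _ = E.xz x * (E.xa s * E.xc y) := by rw [← E.z_a]; group
      _ = _ := by rw [h1, E.xz_add]; group

variable {E}

theorem mem_Q1 {g : G} : g ∈ Q1 E ↔ ∃ x y s, g = E.xz x * E.xc y * E.xa s := Iff.rfl

theorem z_mem (x : B.K) : E.xz x ∈ Q1 E := ⟨x, 0, 0, by rw [E.xc_zero, E.xa_zero]; group⟩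
theorem c_mem (y : F) : E.xc y ∈ Q1 E := ⟨0, y, 0, by rw [E.xz_zero, E.xa_zero]; group⟩
theorem a_mem' (s : F) : E.xa s ∈ Q1 E := ⟨0, 0, s, by rw [E.xz_zero, E.xc_zero]; group⟩

theorem Q1_inj {x x' : B.K} {y y' s s' : F}
    (h : E.xz x * E.xc y * E.xa s = E.xz x' * E.xc y' * E.xa s') : x = x' ∧ y = y' ∧ s = s' := by
  have h1 : s = s' := a_coord (mul_mem (E.z_mem x) (E.c_mem y)) (mul_mem (E.z_mem x') (E.c_mem y')) h
  subst h1
  have h2 : E.w (x, y, 0) = E.w (x', y', 0) := by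
    unfold WEnv.w
    simp only [E.xb_zero, mul_one]
    exact mul_right_cancel h
  have h3 := E.w_injective h2
  exact ⟨congrArg Prod.fst h3, congrArg (fun p => p.2.1) h3, rfl⟩

/-- conjugation of `Q₁` by an element normalising the root groups modulo lower ones. -/
theorem conj_Q1 {g : G} (hz : ∀ x, g * E.xz x * g⁻¹ ∈ Q1 E) (hc : ∀ x, g * E.xc x * g⁻¹ ∈ Q1 E)
    (ha : ∀ x, g * E.xa x * g⁻¹ ∈ Q1 E) {k : G} (hk : k ∈ Q1 E) : g * k * g⁻¹ ∈ Q1 E := by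
  obtain ⟨x, y, s, rfl⟩ := hk
  have e : g * (E.xz x * E.xc y * E.xa s) * g⁻¹ =
      (g * E.xz x * g⁻¹) * (g * E.xc y * g⁻¹) * (g * E.xa s * g⁻¹) := by group
  rw [e]
  exact mul_mem (mul_mem (hz x) (hc y)) (ha s)

theorem comm_z {g : G} (h : ∀ x, E.xz x * g = g * E.xz x) (x : B.K) : g * E.xz x * g⁻¹ = E.xz x := by
  rw [← h]; group

theorem Q_z {g : G} (hg : g ∈ E.Q) (x : B.K) : g * E.xz x * g⁻¹ = E.xz x := by
  rw [← E.z_Q x g hg]; group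

theorem Q_c {g : G} (hg : g ∈ E.Q) (x : F) : g * E.xc x * g⁻¹ = E.xc x := by
  rw [← E.c_Q x g hg]; group

/-- conjugation of `X_a` by an element of `W`. -/
theorem w_a (v : B.V) (s : F) : E.w v * E.xa s * (E.w v)⁻¹ =
    E.xz (B.tr (s * B.s v.2.1) + B.nm s * v.2.2) * E.xc (s * v.2.2) * E.xa s := by
  have h2 : E.xa s * E.w v = E.w (B.ma s v) * E.xa s := mul_inv_eq_iff_eq_mul.1 (E.conj_ma s v)
  rw [E.w_inv, mul_assoc, h2, ← mul_assoc, ← E.w_add]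
  congr 1
  have e : v + B.ma s v = (B.tr (s * B.s v.2.1) + B.nm s * v.2.2, s * v.2.2, 0) := by
    unfold Bar.ma
    refine Prod.ext ?_ (Prod.ext ?_ ?_)
    · change v.1 + (v.1 + B.tr (s * B.s v.2.1) + B.nm s * v.2.2) = _
      have := B.K_add_self v.1
      linear_combination this
    · change v.2.1 + (v.2.1 + s * v.2.2) = s * v.2.2
      have := Bar.add_self v.2.1
      linear_combination this
    · change v.2.2 + v.2.2 = 0
      exact B.K_add_self _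
  rw [e]
  unfold WEnv.w
  simp only [E.xb_zero, mul_one]

theorem mem_Q {q : G} (hq : q ∈ E.Q) : ∃ v, q = E.w v := by
  obtain ⟨x, y, z, h⟩ := E.Q_le q hq
  exact ⟨(x, y, z), h⟩

theorem U_Q1 {u : G} (hu : u ∈ UU E.toWEnv) {k : G} (hk : k ∈ Q1 E) : u * k * u⁻¹ ∈ Q1 E := by
  have hq : ∀ q ∈ E.Q, ∀ k ∈ Q1 E, q * k * q⁻¹ ∈ Q1 E := by
    intro q hq k hk
    apply conj_Q1 _ _ _ hk
    · intro x; rw [Q_z hq]; exact z_mem x
    · intro x; rw [Q_c hq]; exact c_mem x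
    · intro s
      obtain ⟨v, rfl⟩ := mem_Q hq
      rw [w_a]
      exact ⟨_, _, _, rfl⟩
  obtain ⟨q, hq', s, rfl⟩ := hu
  have e : q * E.xa s * k * (q * E.xa s)⁻¹ = q * (E.xa s * k * (E.xa s)⁻¹) * q⁻¹ := by group
  rw [e]
  exact hq q hq' _ (mul_mem (mul_mem (a_mem' s) hk) (inv_mem (a_mem' s)))

theorem nb_Q1 {k : G} (hk : k ∈ Q1 E) : E.nb * k * E.nb⁻¹ ∈ Q1 E := by
  apply conj_Q1 _ _ _ hk
  · intro x; rw [E.nb_z]; exact z_mem x
  · intro x; rw [E.nb_c]; exact a_mem' x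
  · intro x; rw [E.nb_a]; exact c_mem x

theorem T_Q1 {t : G} (ht : t ∈ E.T) {k : G} (hk : k ∈ Q1 E) : t * k * t⁻¹ ∈ Q1 E := by
  obtain ⟨μ, ν, h1, h2, h3, h4⟩ := E.T_act t ht
  apply conj_Q1 _ _ _ hk
  · intro x; rw [h4]; exact z_mem _
  · intro x; rw [h2]; exact c_mem _
  · intro x; rw [h1]; exact a_mem' _

variable (E) in
/-- the torus centralising `Z`. -/
def Hp : Subgroup G where
  carrier := {k | k ∈ E.T ∧ ∀ x, k * E.xz x * k⁻¹ = E.xz x}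
  mul_mem' := by
    rintro a b ⟨ha, ha'⟩ ⟨hb, hb'⟩
    refine ⟨mul_mem ha hb, fun x => ?_⟩
    have e : a * b * E.xz x * (a * b)⁻¹ = a * (b * E.xz x * b⁻¹) * a⁻¹ := by group
    rw [e, hb', ha']
  one_mem' := ⟨one_mem _, fun x => by group⟩
  inv_mem' := by
    rintro a ⟨ha, ha'⟩
    refine ⟨inv_mem ha, fun x => ?_⟩
    conv_lhs => rw [← ha' x]
    group

theorem mem_Hp {k : G} : k ∈ Hp E ↔ k ∈ E.T ∧ ∀ x, k * E.xz x * k⁻¹ = E.xz x := Iff.rfl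

theorem xc_inj {x y : F} (h : E.xc x = E.xc y) : x = y := by
  have h1 : E.w (0, x, 0) = E.w (0, y, 0) := by rw [E.w_c, E.w_c, h]
  exact congrArg (fun p => p.2.1) (E.w_injective h1)

theorem xb_inj {x y : B.K} (h : E.xb x = E.xb y) : x = y := by
  have h1 : E.w (0, 0, x) = E.w (0, 0, y) := by rw [E.w_b, E.w_b, h]
  exact congrArg (fun p => p.2.2) (E.w_injective h1)

theorem xa_inj {x y : F} (h : E.xa x = E.xa y) : x = y :=
  a_coord (one_mem E.Q) (one_mem E.Q) (by rw [one_mul, one_mul, h])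

/-- the weights of an element of `Hp`. -/
theorem Hp_wt {k : G} (hk : k ∈ Hp E) : ∃ μ : Fˣ, (∀ x, k * E.xa x * k⁻¹ = E.xa (μ * x)) ∧
    (∀ x, k * E.xc x * k⁻¹ = E.xc ((B.s μ)⁻¹ * x)) ∧
    (∀ x, k * E.xb x * k⁻¹ = E.xb ((B.nm μ)⁻¹ * x)) := by
  obtain ⟨μ, ν, h1, h2, h3, h4⟩ := E.T_act k hk.1
  have h5 : B.nm (μ : F) * (ν : B.K) = 1 := by
    have h6 := h4 1
    rw [hk.2, mul_one] at h6
    exact (SeedEnv.xz_inj h6).symm
  have hN : B.nm (μ : F) ≠ 0 := fun h => μ.ne_zero (B.nm_eq_zero.1 h)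
  have hν : (ν : B.K) = (B.nm (μ : F))⁻¹ := eq_inv_of_mul_eq_one_right h5
  have hs : B.s (μ : F) ≠ 0 := (map_ne_zero_iff B.s B.s.injective).2 μ.ne_zero
  refine ⟨μ, h1, fun x => ?_, fun x => ?_⟩
  · rw [h2, hν]
    congr 1
    have e : (((B.nm (μ : F))⁻¹ : B.K) : F) = ((μ : F) * B.s μ)⁻¹ := by
      rw [← B.coe_nm]; rfl
    rw [e, mul_inv, ← mul_assoc, mul_inv_cancel₀ μ.ne_zero, one_mul]
  · rw [h3, hν]

/-- the element of `Hp` with a given weight. -/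
theorem exists_Hp (μ : Fˣ) : ∃ k ∈ Hp E, (∀ x, k * E.xa x * k⁻¹ = E.xa (μ * x)) ∧
    (∀ x, k * E.xc x * k⁻¹ = E.xc ((B.s μ)⁻¹ * x)) ∧
    (∀ x, k * E.xb x * k⁻¹ = E.xb ((B.nm μ)⁻¹ * x)) := by
  have hN : B.nm (μ : F) ≠ 0 := fun h => μ.ne_zero (B.nm_eq_zero.1 h)
  let ν : B.Kˣ := (Units.mk0 _ hN)⁻¹
  have hν : (ν : B.K) = (B.nm (μ : F))⁻¹ := by simp [ν]
  have hk : E.h μ ν ∈ Hp E := by
    refine ⟨E.h_mem μ ν, fun x => ?_⟩
    rw [E.h_z, hν, mul_inv_cancel₀ hN, one_mul]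
  have hs : B.s (μ : F) ≠ 0 := (map_ne_zero_iff B.s B.s.injective).2 μ.ne_zero
  refine ⟨_, hk, E.h_a μ ν, fun x => ?_, fun x => ?_⟩
  · rw [E.h_c, hν]
    congr 1
    have e : (((B.nm (μ : F))⁻¹ : B.K) : F) = ((μ : F) * B.s μ)⁻¹ := by
      rw [← B.coe_nm]; rfl
    rw [e, mul_inv, ← mul_assoc, mul_inv_cancel₀ μ.ne_zero, one_mul]
  · rw [E.h_b, hν]

/-- `Hp` is faithful on `X_a`. -/
theorem Hp_faith {k : G} (hk : k ∈ Hp E) (h : ∀ s, k * E.xa s * k⁻¹ = E.xa s) : k = 1 := by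
  obtain ⟨μ, h1, h2, h3⟩ := Hp_wt hk
  have hμ : (μ : F) = 1 := by
    have h4 := h 1
    rw [h1, mul_one] at h4
    exact xa_inj h4
  have h5 : ∀ v, k * E.w v * k⁻¹ = E.w v := by
    intro v
    have e : k * E.w v * k⁻¹ = (k * E.xz v.1 * k⁻¹) * (k * E.xc v.2.1 * k⁻¹) * (k * E.xb v.2.2 * k⁻¹) := by
      unfold WEnv.w; group
    rw [e, hk.2, h2, h3, hμ, map_one, B.nm_one, inv_one, inv_one, one_mul, one_mul]
    rfl
  have h6 : ∀ g ∈ E.Q, k * g = g * k := by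
    intro g hg
    obtain ⟨v, rfl⟩ := mem_Q hg
    exact mul_inv_eq_iff_eq_mul.1 (h5 v)
  obtain ⟨v, hv⟩ := E.cent_w (E.T_t k hk.1).symm h6
  have h7 : k * k = 1 := by
    rcases hv with hv | hv
    · rw [hv, E.w_sq]
    · rw [hv]
      calc E.t * E.w v * (E.t * E.w v) = E.t * (E.w v * E.t) * E.w v := by group
        _ = (E.t * E.t) * (E.w v * E.w v) := by rw [← E.t_w]; group
        _ = 1 := by rw [E.t_sq, E.w_sq, one_mul]
  obtain ⟨m, ⟨r, rfl⟩, hm⟩ := E.T_odd k hk.1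
  rw [pow_succ, pow_mul, pow_two, h7, one_pow, one_mul] at hm
  exact hm

theorem b_not : E.xb 1 ∉ Q1 E := by
  rintro ⟨x, y, s, h⟩
  have h1 : E.w (0, 0, 1) * E.xa 0 = E.w (x, y, 0) * E.xa s := by
    rw [E.w_b, E.xa_zero, mul_one, h]
    unfold WEnv.w
    simp only [E.xb_zero, mul_one]
  have h2 := a_coord (E.w_mem_Q _) (E.w_mem_Q _) h1
  rw [← h2] at h1
  have h3 := E.w_injective (mul_right_cancel h1)
  exact one_ne_zero (congrArg (fun p => p.2.2) h3)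

theorem cent_w' {v : B.V} (h : ∀ s, E.w v * E.xa s = E.xa s * E.w v) : ∃ x, E.w v = E.xz x := by
  have h1 : ∀ s, B.ma s v = v := by
    intro s
    apply E.w_injective
    rw [← E.conj_ma, ← h]; group
  have h2 : v.2.2 = 0 := by
    have h3 := congrArg (fun p => p.2.1) (h1 1)
    change v.2.1 + 1 * (v.2.2 : F) = v.2.1 at h3
    have h4 : (v.2.2 : F) = 0 := by linear_combination h3
    exact Subtype.ext h4
  have h5 : v.2.1 = 0 := by
    apply SeedEnv.tr_nondeg (B := B)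
    intro s
    have h3 := congrArg Prod.fst (h1 s)
    change v.1 + B.tr (s * B.s v.2.1) + B.nm s * v.2.2 = v.1 at h3
    rw [h2, mul_zero, add_zero] at h3
    have h4 : B.tr (s * B.s v.2.1) = 0 := left_eq_add.1 h3.symm
    rw [← B.tr_s, map_mul, B.invol, mul_comm]
    exact h4
  refine ⟨v.1, ?_⟩
  rw [← E.w_z]
  congr 1
  exact Prod.ext rfl (Prod.ext h5 h2)

theorem cent_U {g : G} (hg : g ∈ UU E.toWEnv) (h : ∀ x ∈ Q1 E, g * x = x * g) : ∃ x, g = E.xz x := by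
  obtain ⟨q, hq, s, rfl⟩ := hg
  have hs : s = 0 := by
    apply SeedEnv.tr_nondeg (B := B)
    intro y
    have h1 := SeedEnv.conj_c_form (E := E.toWEnv) hq s y
    rw [h _ (c_mem y), mul_inv_cancel_right] at h1
    have h2 : E.xz (B.tr (s * B.s y)) = E.xz 0 := by rw [E.xz_zero]; exact right_eq_mul.1 h1
    exact SeedEnv.xz_inj h2
  subst hs
  rw [E.xa_zero, mul_one] at h ⊢
  obtain ⟨v, rfl⟩ := mem_Q hq
  exact cent_w' fun s => h _ (a_mem' s)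

theorem D_char {g : G} (hg : g ∈ Q1 E) (h : ∀ u ∈ UU E.toWEnv, ∃ x, g * u * g⁻¹ = E.xz x * u) :
    ∃ x y, g = E.xz x * E.xc y := by
  obtain ⟨x, y, s, rfl⟩ := hg
  obtain ⟨z, hz⟩ := h _ (Q_le E.toWEnv (E.b_mem 1))
  have h1 : E.xz x * E.xc y * E.xa s * E.xb 1 * (E.xz x * E.xc y * E.xa s)⁻¹ = E.w (B.ma s (0, 0, 1)) := by
    have e : E.xz x * E.xc y * E.xa s * E.xb 1 * (E.xz x * E.xc y * E.xa s)⁻¹ =
        (E.xz x * E.xc y) * (E.xa s * E.xb 1 * (E.xa s)⁻¹) * (E.xz x * E.xc y)⁻¹ := by group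
    have e2 : E.xz x * E.xc y = E.w (x, y, 0) := by
      unfold WEnv.w; simp only [E.xb_zero, mul_one]
    rw [e, ← E.w_b, E.conj_ma, e2, E.w_comm, mul_inv_cancel_right]
  rw [h1, ← E.w_b, ← E.w_z, ← E.w_add] at hz
  have h2 := congrArg (fun p => p.2.1) (E.w_injective hz)
  change (0 : F) + s * ((1 : B.K) : F) = 0 + 0 at h2
  have hs : s = 0 := by
    have : ((1 : B.K) : F) = 1 := rfl
    rw [this] at h2
    linear_combination h2
  exact ⟨x, y, by rw [hs, E.xa_zero, mul_one]⟩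

/-! ### Coordinates -/

variable (E) in
open Classical in
/-- the a-coordinate. -/
noncomputable def pa (g : G) : F :=
  if h : ∃ x y s, g = E.xz x * E.xc y * E.xa s then h.choose_spec.choose_spec.choose else 0

variable (E) in
open Classical in
/-- the c-coordinate. -/
noncomputable def pc (g : G) : F :=
  if h : ∃ x y s, g = E.xz x * E.xc y * E.xa s then h.choose_spec.choose else 0

theorem pa_eq {x : B.K} {y s : F} : pa E (E.xz x * E.xc y * E.xa s) = s := by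
  have h : ∃ x' y' s', E.xz x * E.xc y * E.xa s = E.xz x' * E.xc y' * E.xa s' := ⟨x, y, s, rfl⟩
  unfold pa
  rw [dif_pos h]
  exact (Q1_inj h.choose_spec.choose_spec.choose_spec).2.2.symm

theorem pc_eq {x : B.K} {y s : F} : pc E (E.xz x * E.xc y * E.xa s) = y := by
  have h : ∃ x' y' s', E.xz x * E.xc y * E.xa s = E.xz x' * E.xc y' * E.xa s' := ⟨x, y, s, rfl⟩
  unfold pc
  rw [dif_pos h]
  exact (Q1_inj h.choose_spec.choose_spec.choose_spec).2.1.symm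

theorem mul_form (x x' : B.K) (y y' s s' : F) :
    E.xz x * E.xc y * E.xa s * (E.xz x' * E.xc y' * E.xa s') =
      E.xz (x + x' + B.tr (s * B.s y')) * E.xc (y + y') * E.xa (s + s') := by
  have h1 : E.xa s * E.xc y' = E.xz (B.tr (s * B.s y')) * E.xc y' * E.xa s :=
    mul_inv_eq_iff_eq_mul.1 (E.a_c s y')
  calc E.xz x * E.xc y * E.xa s * (E.xz x' * E.xc y' * E.xa s')
      = E.xz x * E.xc y * (E.xa s * E.xz x') * E.xc y' * E.xa s' := by group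
    _ = E.xz x * (E.xc y * E.xz x') * (E.xa s * E.xc y') * E.xa s' := by rw [← E.z_a]; group
    _ = E.xz x * E.xz x' * (E.xc y * E.xz (B.tr (s * B.s y'))) * E.xc y' * E.xa s * E.xa s' := by
        rw [← E.z_c, h1]; group
    _ = _ := by rw [← E.z_c, E.xz_add, E.xz_add, E.xc_add, E.xa_add]; group

/-! ### The group is a 2-group generated by commutators -/

theorem U_two : IsPGroup 2 (UU E.toWEnv) := by
  rintro ⟨g, hg⟩
  refine ⟨2, Subtype.ext ?_⟩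
  change g ^ 2 ^ 2 = 1
  obtain ⟨q, hq, s, rfl⟩ := hg
  have h1 : q * E.xa s * (q * E.xa s) = q * (E.xa s * q * (E.xa s)⁻¹) := by
    calc q * E.xa s * (q * E.xa s) = q * (E.xa s * q * (E.xa s)⁻¹) * (E.xa s * E.xa s) := by group
      _ = _ := by rw [E.xa_sq, mul_one]
  have h2 : q * (E.xa s * q * (E.xa s)⁻¹) ∈ E.Q := mul_mem hq (E.xa_Q s q hq)
  obtain ⟨v, hv⟩ := mem_Q h2
  have e : ∀ g : G, g ^ 2 ^ 2 = (g * g) * (g * g) := fun g => by
    rw [show 2 ^ 2 = 2 * 2 from rfl, pow_mul, pow_two, pow_two]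
  rw [e, h1, hv, E.w_sq]

theorem exists_mu (E : Env B G) : ∃ μ : Fˣ, (μ : F) + 1 ≠ 0 ∧ (B.s (μ : F))⁻¹ + 1 ≠ 0 ∧
    (B.nm (μ : F))⁻¹ + 1 ≠ 0 := by
  have h2 : ∀ a : F, a + a = 0 := fun a => CharTwo.add_self_eq_zero a
  have hl0 : ((E.lam : B.K) : F) ≠ 0 := fun h => E.lam.ne_zero (Subtype.ext h)
  have hl1 : ((E.lam : B.K) : F) ≠ 1 := fun h => E.lam_ne (Subtype.ext h)
  refine ⟨Units.mk0 _ hl0, ?_, ?_, ?_⟩
  · rw [Units.val_mk0]
    intro h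
    exact hl1 (by linear_combination h - h2 1)
  · rw [Units.val_mk0, B.s_K]
    intro h
    have h3 : ((E.lam : B.K) : F)⁻¹ = 1 := by linear_combination h - h2 1
    exact hl1 (inv_eq_one.1 h3)
  · rw [Units.val_mk0, B.nm_K]
    intro h
    have h3 : ((E.lam : B.K) * E.lam)⁻¹ = 1 := by linear_combination h - B.K_add_self 1
    have h4 : (E.lam : B.K) * E.lam = 1 := inv_eq_one.1 h3
    have h5 : ((E.lam : B.K) + 1) * ((E.lam : B.K) + 1) = 0 := by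
      linear_combination h4 + B.K_add_self (E.lam : B.K) + B.K_add_self 1
    rcases mul_self_eq_zero.1 h5 with h6
    exact E.lam_ne (by linear_combination h6 - B.K_add_self 1)

theorem U_gen : UU E.toWEnv ≤ closure {g | ∃ k ∈ Hp E, ∃ u ∈ UU E.toWEnv, g = k * u * k⁻¹ * u⁻¹} := by
  set C := closure {g | ∃ k ∈ Hp E, ∃ u ∈ UU E.toWEnv, g = k * u * k⁻¹ * u⁻¹} with hC
  obtain ⟨μ, n1, n2, n3⟩ := exists_mu E
  obtain ⟨k, hk, ha, hc, hb⟩ := exists_Hp (E := E) μ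
  have ca : ∀ s, E.xa s ∈ C := by
    intro s
    refine subset_closure ⟨k, hk, E.xa (((μ : F) + 1)⁻¹ * s), a_mem E.toWEnv _, ?_⟩
    rw [ha, WEnv.inv_of_sq (E.xa_sq _), ← E.xa_add]
    congr 1
    have e : ((μ : F) + 1) * ((μ : F) + 1)⁻¹ = 1 := mul_inv_cancel₀ n1
    linear_combination -s * e
  have cc : ∀ s, E.xc s ∈ C := by
    intro s
    refine subset_closure ⟨k, hk, E.xc (((B.s (μ : F))⁻¹ + 1)⁻¹ * s),
      Q_le E.toWEnv (E.c_mem _), ?_⟩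
    rw [hc, WEnv.inv_of_sq (E.xc_sq _), ← E.xc_add]
    congr 1
    have e : ((B.s (μ : F))⁻¹ + 1) * ((B.s (μ : F))⁻¹ + 1)⁻¹ = 1 := mul_inv_cancel₀ n2
    linear_combination -s * e
  have cb : ∀ s, E.xb s ∈ C := by
    intro s
    refine subset_closure ⟨k, hk, E.xb (((B.nm (μ : F))⁻¹ + 1)⁻¹ * s),
      Q_le E.toWEnv (E.b_mem _), ?_⟩
    rw [hb, WEnv.inv_of_sq (E.xb_sq _), ← E.xb_add]
    congr 1
    have e : ((B.nm (μ : F))⁻¹ + 1) * ((B.nm (μ : F))⁻¹ + 1)⁻¹ = 1 := mul_inv_cancel₀ n3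
    linear_combination -s * e
  have cz : ∀ x, E.xz x ∈ C := by
    intro x
    obtain ⟨s, hs⟩ := B.tr_surj x
    have h1 := E.a_c s 1
    rw [map_one, mul_one, hs] at h1
    have h2 : E.xz x = E.xa s * E.xc 1 * (E.xa s)⁻¹ * (E.xc 1)⁻¹ := by rw [h1]; group
    rw [h2]
    exact mul_mem (mul_mem (mul_mem (ca s) (cc 1)) (inv_mem (ca s))) (inv_mem (cc 1))
  rintro _ ⟨q, hq, s, rfl⟩
  obtain ⟨v, rfl⟩ := mem_Q hq
  exact mul_mem (mul_mem (mul_mem (cz _) (cc _)) (cb _)) (ca s)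

/-! ### The `Pre` structure -/

variable (E) in
/-- The extra relation. -/
def Braid : Prop := (E.nb * E.xb 1) ^ 3 = 1

theorem braid_rel (hb : Braid E) : E.nb * E.xb 1 * E.nb = E.xb 1 * E.nb * E.xb 1 := by
  unfold Braid at hb
  have h1 : E.nb⁻¹ = E.nb := WEnv.inv_of_sq E.nb_sq
  have h2 : (E.xb 1)⁻¹ = E.xb 1 := WEnv.inv_of_sq (E.xb_sq 1)
  have h3 : E.nb * E.xb 1 * E.nb * (E.xb 1 * E.nb * E.xb 1) = 1 := by
    rw [← hb]; simp only [pow_succ, pow_zero, one_mul, mul_assoc]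
  rw [eq_inv_of_mul_eq_one_left h3, mul_inv_rev, mul_inv_rev, h1, h2, mul_assoc]

theorem sqrt_K [Finite F] (x : B.K) : ∃ y : B.K, y * y = x := by
  have : Finite B.K := Finite.of_injective (fun x : B.K => (x : F)) Subtype.val_injective
  have := Fintype.ofFinite B.K
  have h2 : ringChar B.K = 2 := by
    have : CharP B.K 2 := (CharP.subring' F 2 B.K.toSubring : CharP B.K.toSubring 2)
    exact ringChar.eq B.K 2 ▸ rfl
  obtain ⟨s, hs⟩ := FiniteField.isSquare_of_char_two (F := B.K) h2 x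
  exact ⟨s, hs.symm⟩

theorem rank1 [Finite F] (hb : Braid E) (x : B.K) : E.xb x = 1 ∨
    ∃ u ∈ UU E.toWEnv, ∃ k ∈ Hp E, ∃ u' ∈ UU E.toWEnv, E.nb * E.xb x * E.nb = u * k * E.nb * u' := by
  by_cases hx : x = 0
  · left; rw [hx, E.xb_zero]
  right
  obtain ⟨y, hy⟩ := sqrt_K x⁻¹
  have hy0 : y ≠ 0 := by
    rintro rfl
    rw [mul_zero] at hy
    exact inv_ne_zero hx hy.symm
  have hyF : (y : F) ≠ 0 := fun h => hy0 (Subtype.ext h)
  obtain ⟨k, hk, ha, hc, hbk⟩ := exists_Hp (E := E) (Units.mk0 (y : F) hyF)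
  have h1 : k * E.xb 1 * k⁻¹ = E.xb x := by
    rw [hbk, Units.val_mk0, B.nm_K, hy, inv_inv, mul_one]
  have hn : E.nb⁻¹ = E.nb := WEnv.inv_of_sq E.nb_sq
  -- `k' = nb k nb⁻¹`
  have hk' : E.nb * k * E.nb⁻¹ ∈ Hp E := by
    refine ⟨(E.nb_T k).1 hk.1, fun z => ?_⟩
    have h2 : E.nb⁻¹ * E.xz z * E.nb = E.xz z := by
      have := E.nb_z z
      rw [hn] at this ⊢
      exact this
    calc E.nb * k * E.nb⁻¹ * E.xz z * (E.nb * k * E.nb⁻¹)⁻¹
        = E.nb * (k * (E.nb⁻¹ * E.xz z * E.nb) * k⁻¹) * E.nb⁻¹ := by group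
      _ = _ := by rw [h2, hk.2, E.nb_z]
  have hkT := hk.1
  have hk'T := hk'.1
  obtain ⟨μ', ν', -, -, hb', -⟩ := E.T_act _ hk'T
  have h3 : (E.nb * k * E.nb⁻¹) * E.xb 1 * (E.nb * k * E.nb⁻¹)⁻¹ = E.xb ((ν' : B.K) * 1) := hb' 1
  have hk2 : E.nb * (E.nb * k * E.nb⁻¹)⁻¹ = k⁻¹ * E.nb := by
    rw [mul_inv_rev, mul_inv_rev, inv_inv]
    calc E.nb * (E.nb * (k⁻¹ * E.nb⁻¹)) = (E.nb * E.nb) * k⁻¹ * E.nb⁻¹ := by group
      _ = k⁻¹ * E.nb := by rw [E.nb_sq, hn, one_mul]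
  refine ⟨E.xb ((ν' : B.K) * 1), Q_le E.toWEnv (E.b_mem _), (E.nb * k * E.nb⁻¹) * k⁻¹,
    mul_mem hk' (inv_mem hk), E.xb ((ν' : B.K) * 1), Q_le E.toWEnv (E.b_mem _), ?_⟩
  rw [← h3, ← h1]
  calc E.nb * (k * E.xb 1 * k⁻¹) * E.nb
      = (E.nb * k * E.nb⁻¹) * (E.nb * E.xb 1 * E.nb) * (E.nb⁻¹ * k⁻¹ * E.nb) := by group
    _ = (E.nb * k * E.nb⁻¹) * (E.nb * E.xb 1 * E.nb) * (E.nb * k * E.nb⁻¹)⁻¹ := by
        rw [mul_inv_rev, mul_inv_rev, inv_inv, hn]; simp only [mul_assoc]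
    _ = (E.nb * k * E.nb⁻¹) * (E.xb 1 * E.nb * E.xb 1) * (E.nb * k * E.nb⁻¹)⁻¹ := by rw [braid_rel hb]
    _ = (E.nb * k * E.nb⁻¹) * E.xb 1 * (E.nb * (E.nb * k * E.nb⁻¹)⁻¹) *
          ((E.nb * k * E.nb⁻¹) * E.xb 1 * (E.nb * k * E.nb⁻¹)⁻¹) := by group
    _ = _ := by rw [hk2]; group


/-- **The primitive data for `U₄(q)`.** -/
noncomputable def pre [Finite F] (hb : Braid E) : Pre E.toWEnv PUnit.{1} where
  Q1 := Q1 E
  Hp := Hp E
  nb := E.nb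
  Xβ := {r | ∃ x, r = E.xb x}
  chi := fun μ => μ / B.s μ
  xv := fun _ => 1
  pa := pa E
  pv := fun _ => PUnit.unit
  pc := pc E
  chi_eq := fun μ _ => Or.inr rfl
  V_gen := ⟨PUnit.unit, fun _ => ⟨0, rfl⟩⟩
  nb_sq := E.nb_sq
  t_nb := E.t_nb
  nb_z := E.nb_z
  nb_c := E.nb_c
  nb_T := fun g => (E.nb_T g).1
  nb_Q1 := fun _ hg => nb_Q1 hg
  nb_gen := by
    have h1 : E.nb = E.xb 1 * (E.nb * E.xb 1 * E.nb⁻¹) * E.xb 1 := by
      have hn : E.nb⁻¹ = E.nb := WEnv.inv_of_sq E.nb_sq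
      have h2 := E.xb_sq 1
      rw [hn, braid_rel hb]
      calc E.nb = (E.xb 1 * E.xb 1) * E.nb * (E.xb 1 * E.xb 1) := by rw [h2]; group
        _ = _ := by group
    have h2 : E.xb 1 ∈ closure ((UU E.toWEnv : Set G) ∪ {g | ∃ u ∈ UU E.toWEnv, g = E.nb * u * E.nb⁻¹}) :=
      subset_closure (Or.inl (Q_le E.toWEnv (E.b_mem 1)))
    have h3 : E.nb * E.xb 1 * E.nb⁻¹ ∈
        closure ((UU E.toWEnv : Set G) ∪ {g | ∃ u ∈ UU E.toWEnv, g = E.nb * u * E.nb⁻¹}) :=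
      subset_closure (Or.inr ⟨_, Q_le E.toWEnv (E.b_mem 1), rfl⟩)
    have h4 := mul_mem (mul_mem h2 h3) h2
    rw [← h1] at h4
    exact h4
  Hp_T := fun _ hk => hk.1
  Hp_z := fun _ hk => hk.2
  nb_Hp := by
    intro k hk
    have hn : E.nb⁻¹ = E.nb := WEnv.inv_of_sq E.nb_sq
    refine ⟨(E.nb_T k).1 hk.1, fun z => ?_⟩
    have h2 : E.nb⁻¹ * E.xz z * E.nb = E.xz z := by
      have := E.nb_z z
      rw [hn] at this ⊢
      exact this
    calc E.nb * k * E.nb⁻¹ * E.xz z * (E.nb * k * E.nb⁻¹)⁻¹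
        = E.nb * (k * (E.nb⁻¹ * E.xz z * E.nb) * k⁻¹) * E.nb⁻¹ := by group
      _ = _ := by rw [h2, hk.2, E.nb_z]
  Hp_act := by
    intro k hk
    obtain ⟨μ, h1, h2, -⟩ := Hp_wt hk
    exact ⟨μ, μ.ne_zero, h1, h2, fun v => ⟨0, by rw [E.xz_zero]; group⟩⟩
  Hp_onto := by
    intro μ hμ
    obtain ⟨k, hk, h1, h2, -⟩ := exists_Hp (E := E) (Units.mk0 μ hμ)
    exact ⟨k, hk, h1, h2, fun v => ⟨0, by rw [E.xz_zero]; group⟩⟩
  Hp_faith := fun _ hk h => Hp_faith hk h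
  Q1_le := by
    rintro _ ⟨x, y, s, rfl⟩
    exact ⟨_, mul_mem (E.z_mem x) (E.c_mem y), s, rfl⟩
  U_Q1 := fun _ hu _ hg => U_Q1 hu hg
  Hp_Q1 := fun _ hk _ hg => T_Q1 hk.1 hg
  b_not := b_not
  a_mem := a_mem'
  c_mem := c_mem
  v_mem := fun _ => one_mem _
  v_Q := fun _ => one_mem _
  U_split := by
    rintro _ ⟨q, hq, s, rfl⟩
    obtain ⟨v, rfl⟩ := mem_Q hq
    refine ⟨E.xz v.1 * E.xc v.2.1 * (E.w (0, 0, v.2.2) * E.xa s * (E.w (0, 0, v.2.2))⁻¹), ?_,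
      E.xb v.2.2, ⟨_, rfl⟩, ?_⟩
    · rw [w_a]
      exact mul_mem (mul_mem (z_mem _) (c_mem _)) ⟨_, _, _, rfl⟩
    · rw [E.w_b]
      unfold WEnv.w
      group
  Xβ_U := by
    rintro _ ⟨x, rfl⟩
    exact Q_le E.toWEnv (E.b_mem x)
  rank1 := by
    rintro _ ⟨x, rfl⟩
    exact rank1 hb x
  U_two := U_two
  U_gen := U_gen
  D_char := fun _ hg h => D_char hg h
  cent_U := fun _ hg h => cent_U hg h
  cent_t := by
    intro c hc h
    obtain ⟨x, y, s, h1⟩ := E.cent_Q c hc (fun x => h _ (z_mem x))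
      (fun x => ⟨0, by rw [E.xz_zero, one_mul, h _ (a_mem' x), mul_inv_cancel_right]⟩)
      (fun x => ⟨0, by rw [E.xz_zero, one_mul, h _ (c_mem x), mul_inv_cancel_right]⟩)
    exact ⟨_, ⟨x, y, s, rfl⟩, h1⟩
  pa_mul := by
    rintro _ ⟨x, y, s, rfl⟩ _ ⟨x', y', s', rfl⟩
    rw [mul_form, pa_eq, pa_eq, pa_eq]
  pv_mul := fun _ _ _ _ => rfl
  pc_mul := by
    rintro _ ⟨x, y, s, rfl⟩ _ ⟨x', y', s', rfl⟩
    rw [mul_form, pc_eq, pc_eq, pc_eq]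
  ker := by
    rintro _ ⟨x, y, s, rfl⟩ h1 - h2
    rw [pa_eq] at h1
    rw [pc_eq] at h2
    exact ⟨x, by rw [h1, h2, E.xc_zero, E.xa_zero, mul_one, mul_one]⟩
  pa_z := by
    intro x
    have : E.xz x = E.xz x * E.xc 0 * E.xa 0 := by rw [E.xc_zero, E.xa_zero]; group
    rw [this, pa_eq]
  pv_z := fun _ => rfl
  pc_z := by
    intro x
    have : E.xz x = E.xz x * E.xc 0 * E.xa 0 := by rw [E.xc_zero, E.xa_zero]; group
    rw [this, pc_eq]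
  pa_a := by
    intro s
    have : E.xa s = E.xz 0 * E.xc 0 * E.xa s := by rw [E.xc_zero, E.xz_zero]; group
    rw [this, pa_eq]
  pv_a := fun _ => rfl
  pc_a := by
    intro s
    have : E.xa s = E.xz 0 * E.xc 0 * E.xa s := by rw [E.xc_zero, E.xz_zero]; group
    rw [this, pc_eq]
  pa_v := by
    intro _
    have : (1 : G) = E.xz 0 * E.xc 0 * E.xa 0 := by rw [E.xc_zero, E.xz_zero, E.xa_zero]; group
    rw [this, pa_eq]
  pv_v := fun _ => rfl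
  pc_v := by
    intro _
    have : (1 : G) = E.xz 0 * E.xc 0 * E.xa 0 := by rw [E.xc_zero, E.xz_zero, E.xa_zero]; group
    rw [this, pc_eq]
  pa_c := by
    intro s
    have : E.xc s = E.xz 0 * E.xc s * E.xa 0 := by rw [E.xa_zero, E.xz_zero]; group
    rw [this, pa_eq]
  pv_c := fun _ => rfl
  pc_c := by
    intro s
    have : E.xc s = E.xz 0 * E.xc s * E.xa 0 := by rw [E.xa_zero, E.xz_zero]; group
    rw [this, pc_eq]

variable (E) in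
/-- `P = ⟨U, U^{nb}, C_T(Z)⟩`. -/
def P : Subgroup G :=
  closure ((UU E.toWEnv : Set G) ∪ {g | ∃ u ∈ UU E.toWEnv, g = E.nb * u * E.nb⁻¹} ∪ Hp E)

theorem P_eq [Finite F] (hb : Braid E) : (pre hb).P = P E := rfl

/-- the elements of `N` centralising `⟨t⟩ Z` and trivial on `X_a` modulo `W` are in `⟨t⟩ U`. -/
theorem hcent [Finite F] [Finite G] (hb : Braid E) {m : G} (hm : m ∈ (pre hb).toSeedEnv.N)
    (hmt : m * E.t = E.t * m) (hmz : ∀ x, m * E.xz x = E.xz x * m)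
    (hma : ∀ g ∈ (pre hb).toSeedEnv.Q1, (pre hb).toSeedEnv.pa (m * g * m⁻¹) = (pre hb).toSeedEnv.pa g)
    (hmc : ∀ y, ∃ x, m * E.xc y * m⁻¹ = E.xz x * E.xc y) :
    m ∈ P E ∨ E.t * m ∈ P E := by
  have hmz' : ∀ x, m * E.xz x * m⁻¹ = E.xz x := fun x => mul_inv_eq_iff_eq_mul.2 (hmz x)
  -- action on `X_a`
  have ha : ∀ s, ∃ y z, m * E.xa s * m⁻¹ = E.xz z * E.xc y * E.xa s := by
    intro s
    have h1 := SeedEnv.N_Q1 hm ((pre hb).toSeedEnv.a_mem s)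
    obtain ⟨x, y, s', h2⟩ := h1
    have h3 := hma _ ((pre hb).toSeedEnv.a_mem s)
    rw [(pre hb).toSeedEnv.pa_a, h2] at h3
    have h4 : s' = s := by
      rw [← h3]
      exact (pa_eq (E := E)).symm
    rw [h4] at h2
    exact ⟨y, x, h2⟩
  -- `m` normalises `Q`
  have hQ : ∀ q ∈ E.Q, m * q * m⁻¹ ∈ E.Q := by
    intro q hq
    have h1 : m * q * m⁻¹ ∈ UU E.toWEnv := SeedEnv.N_U hm (Q_le E.toWEnv hq)
    obtain ⟨r, hr, s, h2⟩ := h1
    have h3 : ∀ y, m * q * m⁻¹ * E.xc y = E.xc y * (m * q * m⁻¹) := by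
      intro y
      obtain ⟨x, hx⟩ := hmc y
      have h4 : m⁻¹ * E.xc y * m = E.xz x * E.xc y := by
        have h5 : E.xc y = E.xz x * (m * E.xc y * m⁻¹) := by
          rw [hx, ← mul_assoc, E.xz_sq, one_mul]
        calc m⁻¹ * E.xc y * m = m⁻¹ * (E.xz x * (m * E.xc y * m⁻¹)) * m := by rw [← h5]
          _ = m⁻¹ * (E.xz x * m) * E.xc y := by group
          _ = _ := by rw [← hmz]; group
      have h5 : q * (E.xz x * E.xc y) = (E.xz x * E.xc y) * q := by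
        rw [← mul_assoc, ← E.z_Q x q hq, mul_assoc, ← E.c_Q y q hq, mul_assoc]
      rw [← h4] at h5
      calc m * q * m⁻¹ * E.xc y = m * (q * (m⁻¹ * E.xc y * m)) * m⁻¹ := by group
        _ = _ := by rw [h5]; group
    have hs : s = 0 := by
      apply SeedEnv.tr_nondeg (B := B)
      intro y
      have h4 := SeedEnv.conj_c_form (E := E.toWEnv) hr s y
      rw [← h2, h3 y, mul_inv_cancel_right] at h4
      have h5 : E.xz (B.tr (s * B.s y)) = E.xz 0 := by rw [E.xz_zero]; exact right_eq_mul.1 h4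
      exact SeedEnv.xz_inj h5
    rw [h2, hs, E.xa_zero, mul_one]
    exact hr
  have hb' : ∀ x, ∃ y z, m * E.xb x * m⁻¹ = E.xz z * E.xc y * E.xb x := by
    intro x
    obtain ⟨v, hv⟩ := mem_Q (hQ _ (E.b_mem x))
    -- compare `[x_a(1), x_b(x)]`
    obtain ⟨y, z, h1⟩ := ha 1
    have e1 : E.xz z * E.xc y = E.w (z, y, 0) := by
      unfold WEnv.w; simp only [E.xb_zero, mul_one]
    have h2 : m * (E.xa 1 * E.xb x * (E.xa 1)⁻¹) * m⁻¹ = E.w (B.ma 1 v) := by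
      calc m * (E.xa 1 * E.xb x * (E.xa 1)⁻¹) * m⁻¹
          = (m * E.xa 1 * m⁻¹) * (m * E.xb x * m⁻¹) * (m * E.xa 1 * m⁻¹)⁻¹ := by group
        _ = E.w (z, y, 0) * (E.xa 1 * E.w v * (E.xa 1)⁻¹) * (E.w (z, y, 0))⁻¹ := by
            rw [h1, hv, e1]; group
        _ = _ := by rw [E.conj_ma, E.w_comm, mul_inv_cancel_right]
    rw [← E.w_b, E.conj_ma] at h2
    have e2 : B.ma 1 (0, 0, x) = (B.nm 1 * x, ((x : B.K) : F), x) := by
      unfold Bar.ma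
      refine Prod.ext ?_ (Prod.ext ?_ ?_)
      · simp [B.tr_zero]
      · simp
      · rfl
    obtain ⟨x1, hx1⟩ := hmc ((x : B.K) : F)
    have h3 : m * E.w (B.nm 1 * x, ((x : B.K) : F), x) * m⁻¹ =
        E.w ((B.nm 1 * x, 0, 0) + (x1, ((x : B.K) : F), 0) + v) := by
      have e3 : m * E.w (B.nm 1 * x, ((x : B.K) : F), x) * m⁻¹ =
        (m * E.xz (B.nm 1 * x) * m⁻¹) * (m * E.xc ((x : B.K) : F) * m⁻¹) * (m * E.xb x * m⁻¹) := by
        unfold WEnv.w; group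
      rw [e3, hmz', hx1, hv, E.w_add, E.w_add, E.w_z]
      congr 2
      unfold WEnv.w; simp only [E.xb_zero, mul_one]
    rw [e2, h3] at h2
    have h4 := congrArg (fun p => p.2.1) (E.w_injective h2)
    change (0 : F) + ((x : B.K) : F) + v.2.1 = v.2.1 + 1 * ((v.2.2 : B.K) : F) at h4
    have h5 : v.2.2 = x := by
      apply Subtype.ext
      linear_combination -h4
    refine ⟨v.2.1, v.1, ?_⟩
    rw [hv]
    unfold WEnv.w
    rw [h5]
  obtain ⟨x, y, z, s, h1⟩ := E.cent_U m hmt (fun x => ⟨x, hmz' x⟩)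
    (fun y => by
      obtain ⟨x, hx⟩ := hmc y
      exact ⟨y, x, hx⟩) ha hb'
  have hu : E.xz x * E.xc y * E.xb z * E.xa s ∈ P E :=
    subset_closure (Or.inl (Or.inl ⟨_, E.w_mem_Q (x, y, z), s, rfl⟩))
  rcases h1 with h1 | h1
  · left; rw [h1]; exact hu
  · right
    rw [h1, ← mul_assoc, E.t_sq, one_mul]
    exact hu

/-- **The seed for `U₄(q)`.** `hP`: `P` is normal in `C(⟨t⟩ Z)`. -/
theorem exists_seed [Finite F] [Finite G] (hb : Braid E)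
    (hP : ∀ c, c * E.t = E.t * c → (∀ x, c * E.xz x = E.xz x * c) → ∀ g ∈ P E, c * g * c⁻¹ ∈ P E)
    {n : G} (hn : n ∈ normalizer (TZ E.toWEnv : Set G)) {c : B.K} (hc : c ≠ 0)
    (ht : n * E.t * n⁻¹ = E.xz c * E.t) :
    ∃ Sd : Seed E.toWEnv, (∀ y ∈ Sd.Y, ∀ g ∈ P E, y * g = g * y) ∧
      ∀ y ∈ Sd.Y, E.nb * y = y * E.nb := by
  have hnP := normP_of_odd (pre hb).toSeedEnv (fun g hg hgt hgz => by
    obtain ⟨k, hk, hgk⟩ := hg
    exact odd_mem (pre hb).toSeedEnv hP (fun m hm hmt hmz hma hmc => hcent hb hm hmt hmz hma hmc)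
      hk hgk hgt hgz) hn
  obtain ⟨Sd, h1⟩ := SeedEnd.exists_seed' (pre hb).toSeedEnv hnP hc ht
  exact ⟨Sd, h1, fun y hy => (h1 y hy _ (pre hb).nb_mem).symm⟩

end Cfsg.Agent.StdRank2.UFour.SeedU4
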