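import Cfsg.Agent.StdRank2.UFour.Field
import Mathlib.GroupTheory.PGroup
import Mathlib.GroupTheory.Subgroup.Centralizer

/-!
# Environment for the growth of the Sylow 2-subgroup of `U₄(q)`, `U₅(q)`, `q` even

`WEnv B G`: root groups `xa, xc : F → G`, `xb, xz : K → G` (`K` the fixed field), `W = xz K · xc F · xb K`
the hermitian matrices, `Q` a subgroup of `G` with `W ≤ Z(Q)` (`U₄`: `Q = W`; `U₅`: `Q` of order `q^8`),
a torus `T`, a Weyl element `na`, an involution `t` commuting with everything, and `cent_W`: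
`C_{C(t)}(Q) = ⟨t⟩ W` (no cores).

`Seed`: a group `Y` moving `t`, `[Y, t] = X_z`.

`WGrown` is the output of the `W`-level growth. `Env` adds what is special to `U₄` and `Grown` is
the final output for `U₄`.
-/

set_option autoImplicit false
set_option linter.unusedSectionVars false

namespace Cfsg.Agent.StdRank2.UFour

open Subgroup

variable {F : Type*} [Field F] [CharP F 2] (B : Bar F) (G : Type*) [Group G]

/-- The environment of the `W`-level growth. -/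
structure WEnv where
  xa : F → G
  xc : F → G
  xb : B.K → G
  xz : B.K → G
  h : Fˣ → B.Kˣ → G
  T : Subgroup G
  Q : Subgroup G
  na : G
  t : G
  lam : B.Kˣ
  lam_ne : (lam : B.K) ≠ 1
  xa_add : ∀ x y, xa (x + y) = xa x * xa y
  xc_add : ∀ x y, xc (x + y) = xc x * xc y
  xb_add : ∀ x y, xb (x + y) = xb x * xb y
  xz_add : ∀ x y, xz (x + y) = xz x * xz y
  z_c : ∀ x y, xz x * xc y = xc y * xz x
  z_b : ∀ x y, xz x * xb y = xb y * xz x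
  z_a : ∀ x y, xz x * xa y = xa y * xz x
  c_b : ∀ x y, xc x * xb y = xb y * xc x
  a_c : ∀ s x, xa s * xc x * (xa s)⁻¹ = xz (B.tr (s * B.s x)) * xc x
  a_b : ∀ s x, xa s * xb x * (xa s)⁻¹ = xz (B.nm s * x) * xc (s * x) * xb x
  w_inj : ∀ x y z, xz x * xc y * xb z = 1 → x = 0 ∧ y = 0 ∧ z = 0
  t_sq : t * t = 1
  t_a : ∀ x, t * xa x = xa x * t
  t_c : ∀ x, t * xc x = xc x * t
  t_b : ∀ x, t * xb x = xb x * t
  t_z : ∀ x, t * xz x = xz x * t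
  t_na : t * na = na * t
  t_not : ∀ s x y z, t ≠ xz x * xc y * xb z * xa s
  h_mem : ∀ μ ν, h μ ν ∈ T
  h_a : ∀ μ ν x, h μ ν * xa x * (h μ ν)⁻¹ = xa (μ * x)
  h_c : ∀ μ ν x, h μ ν * xc x * (h μ ν)⁻¹ = xc (μ * ((ν : B.K) : F) * x)
  h_b : ∀ μ ν x, h μ ν * xb x * (h μ ν)⁻¹ = xb (ν * x)
  h_z : ∀ μ ν x, h μ ν * xz x * (h μ ν)⁻¹ = xz (B.nm μ * ν * x)
  T_comm : ∀ g ∈ T, ∀ k ∈ T, g * k = k * g
  T_odd : ∀ g ∈ T, ∃ m, Odd m ∧ g ^ m = 1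
  T_t : ∀ g ∈ T, t * g = g * t
  T_Q : ∀ g ∈ T, ∀ x, x ∈ Q ↔ g * x * g⁻¹ ∈ Q
  T_act : ∀ g ∈ T, ∃ μ : Fˣ, ∃ ν : B.Kˣ, (∀ x, g * xa x * g⁻¹ = xa (μ * x)) ∧
    (∀ x, g * xc x * g⁻¹ = xc (μ * ((ν : B.K) : F) * x)) ∧
    (∀ x, g * xb x * g⁻¹ = xb (ν * x)) ∧ (∀ x, g * xz x * g⁻¹ = xz (B.nm μ * ν * x))
  na_z : ∀ x, na * xz x * na⁻¹ = xb x
  na_b : ∀ x, na * xb x * na⁻¹ = xz x
  na_c : ∀ x, na * xc x * na⁻¹ = xc (B.s x)
  na_sq : na * na = 1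
  na_T : ∀ g, g ∈ T ↔ na * g * na⁻¹ ∈ T
  na_Q : ∀ g, g ∈ Q ↔ na * g * na⁻¹ ∈ Q
  na_h : ∀ ν, na * h 1 ν = h 1 ν * na
  xa_Q : ∀ s g, g ∈ Q → xa s * g * (xa s)⁻¹ ∈ Q
  z_Q : ∀ x, ∀ g ∈ Q, xz x * g = g * xz x
  c_Q : ∀ x, ∀ g ∈ Q, xc x * g = g * xc x
  b_Q : ∀ x, ∀ g ∈ Q, xb x * g = g * xb x
  t_Q : ∀ g ∈ Q, t * g = g * t
  z_mem : ∀ x, xz x ∈ Q
  c_mem : ∀ x, xc x ∈ Q
  b_mem : ∀ x, xb x ∈ Q
  cent_W : ∀ c, c * t = t * c → (∀ g ∈ Q, c * g = g * c) →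
    ∃ x y z, c = xz x * xc y * xb z ∨ c = t * (xz x * xc y * xb z)

/-- The environment for `U₄(q)`. -/
structure Env extends WEnv B G where
  nb : G
  t_nb : t * nb = nb * t
  nb_a : ∀ x, nb * xa x * nb⁻¹ = xc x
  nb_c : ∀ x, nb * xc x * nb⁻¹ = xa x
  nb_z : ∀ x, nb * xz x * nb⁻¹ = xz x
  nb_sq : nb * nb = 1
  nb_T : ∀ g, g ∈ T ↔ nb * g * nb⁻¹ ∈ T
  Q_le : ∀ g ∈ Q, ∃ x y z, g = xz x * xc y * xb z
  cent_Q : ∀ c, c * t = t * c → (∀ x, c * xz x = xz x * c) →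
    (∀ x, ∃ z, c * xa x * c⁻¹ = xz z * xa x) → (∀ x, ∃ z, c * xc x * c⁻¹ = xz z * xc x) →
    ∃ x y s, c = xz x * xc y * xa s ∨ c = t * (xz x * xc y * xa s)
  cent_U : ∀ c, c * t = t * c → (∀ x, ∃ y, c * xz x * c⁻¹ = xz y) →
    (∀ x, ∃ y z, c * xc x * c⁻¹ = xz z * xc y) →
    (∀ x, ∃ y z, c * xa x * c⁻¹ = xz z * xc y * xa x) →
    (∀ x, ∃ y z, c * xb x * c⁻¹ = xz z * xc y * xb x) →
    ∃ x y z s, c = xz x * xc y * xb z * xa s ∨ c = t * (xz x * xc y * xb z * xa s)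

variable {B G}

/-- The input: a group moving `t`. -/
structure Seed (E : WEnv B G) where
  Y : Subgroup G
  t_mem : E.t ∈ Y
  z_mem : ∀ x, E.xz x ∈ Y
  Q_comm : ∀ y ∈ Y, ∀ g ∈ E.Q, y * g = g * y
  a_comm : ∀ y ∈ Y, ∀ s, y * E.xa s = E.xa s * y
  conj_t : ∀ y ∈ Y, ∃ c, y * E.t * y⁻¹ = E.xz c * E.t
  onto : ∀ c, ∃ y ∈ Y, y * E.t * y⁻¹ = E.xz c * E.t
  cent : ∀ y ∈ Y, y * E.t = E.t * y → ∃ x, y = E.xz x ∨ y = E.t * E.xz x
  conj_T : ∀ g ∈ E.T, ∀ y ∈ Y, g * y * g⁻¹ ∈ Y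

/-- A grown root group `R` over the root group `x : M → G`: `R` is elementary abelian, normalised by
the torus, contains `x M`, `[R, t] = x M`, `C_R(t) = x M`. -/
structure Root {M : Type*} (E : WEnv B G) (x : M → G) (R : Subgroup G) : Prop where
  mem : ∀ c, x c ∈ R
  sq : ∀ g ∈ R, g * g = 1
  conj_t : ∀ g ∈ R, ∃ c, g * E.t * g⁻¹ = x c * E.t
  onto : ∀ c, ∃ g ∈ R, g * E.t * g⁻¹ = x c * E.t
  cent : ∀ g ∈ R, g * E.t = E.t * g → ∃ c, g = x c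
  conj_T : ∀ k ∈ E.T, ∀ g ∈ R, k * g * k⁻¹ ∈ R

/-- The output of the `W`-level growth. -/
structure WGrown (E : WEnv B G) where
  Z : Subgroup G
  C : Subgroup G
  Bb : Subgroup G
  rootZ : Root E E.xz Z
  rootC : Root E E.xc C
  rootB : Root E E.xb Bb
  Z_C : ∀ g ∈ Z, ∀ k ∈ C, g * k = k * g
  Z_B : ∀ g ∈ Z, ∀ k ∈ Bb, g * k = k * g
  C_B : ∀ g ∈ C, ∀ k ∈ Bb, g * k = k * g
  Z_Q : ∀ g ∈ Z, ∀ k ∈ E.Q, g * k = k * g
  C_Q : ∀ g ∈ C, ∀ k ∈ E.Q, g * k = k * g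
  B_Q : ∀ g ∈ Bb, ∀ k ∈ E.Q, g * k = k * g
  na_Z : ∀ g ∈ Z, E.na * g * E.na⁻¹ ∈ Bb
  na_B : ∀ g ∈ Bb, E.na * g * E.na⁻¹ ∈ Z
  na_C : ∀ g ∈ C, E.na * g * E.na⁻¹ ∈ C
  Z_a : ∀ g ∈ Z, ∀ s, g * E.xa s = E.xa s * g
  a_C : ∀ s, ∀ g ∈ C, ∃ r ∈ Z, E.xa s * g * (E.xa s)⁻¹ = r * g
  a_B : ∀ s, ∀ g ∈ Bb, ∃ r ∈ Z, ∃ c ∈ C, E.xa s * g * (E.xa s)⁻¹ = r * c * g

/-- The output for `U₄(q)`: all four grown root groups. -/
structure Grown (E : Env B G) extends WGrown E.toWEnv where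
  A : Subgroup G
  rootA : Root E.toWEnv E.xa A
  Z_A : ∀ g ∈ Z, ∀ k ∈ A, g * k = k * g
  A_C : ∀ a ∈ A, ∀ c ∈ C, ∃ r ∈ Z, a * c * a⁻¹ = r * c
  A_B : ∀ a ∈ A, ∀ g ∈ Bb, ∃ r ∈ Z, ∃ c ∈ C, a * g * a⁻¹ = r * c * g
  nb_Z : ∀ g ∈ Z, E.nb * g * E.nb⁻¹ ∈ Z
  nb_A : ∀ g ∈ A, E.nb * g * E.nb⁻¹ ∈ C
  nb_C : ∀ g ∈ C, E.nb * g * E.nb⁻¹ ∈ A

namespace WEnv

variable (E : WEnv B G)

/-! ### General lemmas -/

theorem conj_eq_iff {g x y : G} : g * x * g⁻¹ = y ↔ g * x = y * g := mul_inv_eq_iff_eq_mul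

theorem inv_of_sq {x : G} (h : x * x = 1) : x⁻¹ = x := inv_eq_of_mul_eq_one_right h

theorem hom_zero {M : Type*} [AddGroup M] {f : M → G} (h : ∀ x y, f (x + y) = f x * f y) :
    f 0 = 1 := by
  have := h 0 0
  rw [add_zero] at this
  exact left_eq_mul.1 this

theorem xa_zero : E.xa 0 = 1 := hom_zero E.xa_add
theorem xc_zero : E.xc 0 = 1 := hom_zero E.xc_add
theorem xb_zero : E.xb 0 = 1 := hom_zero E.xb_add
theorem xz_zero : E.xz 0 = 1 := hom_zero E.xz_add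

theorem xa_sq (x : F) : E.xa x * E.xa x = 1 := by rw [← E.xa_add, Bar.add_self, xa_zero]
theorem xc_sq (x : F) : E.xc x * E.xc x = 1 := by rw [← E.xc_add, Bar.add_self, xc_zero]
theorem xb_sq (x : B.K) : E.xb x * E.xb x = 1 := by rw [← E.xb_add, B.K_add_self, xb_zero]
theorem xz_sq (x : B.K) : E.xz x * E.xz x = 1 := by rw [← E.xz_add, B.K_add_self, xz_zero]

theorem t_inv : E.t⁻¹ = E.t := inv_of_sq E.t_sq

/-! ### The group `W` -/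

/-- the elements of `W`. -/
def w (v : B.V) : G := E.xz v.1 * E.xc v.2.1 * E.xb v.2.2

theorem w_add (u v : B.V) : E.w (u + v) = E.w u * E.w v := by
  unfold w
  simp only [Prod.fst_add, Prod.snd_add, E.xz_add, E.xc_add, E.xb_add]
  have h1 := E.z_c
  have h2 := E.z_b
  have h3 := E.c_b
  calc E.xz u.1 * E.xz v.1 * (E.xc u.2.1 * E.xc v.2.1) * (E.xb u.2.2 * E.xb v.2.2)
      = E.xz u.1 * (E.xz v.1 * E.xc u.2.1) * (E.xc v.2.1 * E.xb u.2.2) * E.xb v.2.2 := by group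
    _ = E.xz u.1 * (E.xc u.2.1 * E.xz v.1) * (E.xb u.2.2 * E.xc v.2.1) * E.xb v.2.2 := by
        rw [h1, h3]
    _ = E.xz u.1 * E.xc u.2.1 * (E.xz v.1 * E.xb u.2.2) * E.xc v.2.1 * E.xb v.2.2 := by group
    _ = E.xz u.1 * E.xc u.2.1 * (E.xb u.2.2 * E.xz v.1) * E.xc v.2.1 * E.xb v.2.2 := by rw [h2]
    _ = _ := by group

theorem w_zero : E.w 0 = 1 := hom_zero E.w_add

theorem V_add_self (v : B.V) : v + v = 0 :=
  Prod.ext (B.K_add_self _) (Prod.ext (Bar.add_self _) (B.K_add_self _))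

theorem w_sq (v : B.V) : E.w v * E.w v = 1 := by rw [← E.w_add, V_add_self, w_zero]

theorem w_inv (v : B.V) : (E.w v)⁻¹ = E.w v := inv_of_sq (E.w_sq v)

theorem w_comm (u v : B.V) : E.w u * E.w v = E.w v * E.w u := by
  rw [← E.w_add, add_comm, E.w_add]

theorem w_eq_one {v : B.V} (h : E.w v = 1) : v = 0 := by
  obtain ⟨h1, h2, h3⟩ := E.w_inj _ _ _ h
  exact Prod.ext h1 (Prod.ext h2 h3)

theorem w_injective {u v : B.V} (h : E.w u = E.w v) : u = v := by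
  have h1 : E.w (u + v) = 1 := by rw [E.w_add, h, E.w_sq]
  have h2 := E.w_eq_one h1
  calc u = u + (v + v) := by rw [V_add_self, add_zero]
    _ = (u + v) + v := by rw [add_assoc]
    _ = v := by rw [h2, zero_add]

theorem w_z (x : B.K) : E.w (x, 0, 0) = E.xz x := by
  simp [w, E.xc_zero, E.xb_zero]

theorem w_c (x : F) : E.w (0, x, 0) = E.xc x := by
  simp [w, E.xz_zero, E.xb_zero]

theorem w_b (x : B.K) : E.w (0, 0, x) = E.xb x := by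
  simp [w, E.xz_zero, E.xc_zero]

theorem t_w (v : B.V) : E.t * E.w v = E.w v * E.t := by
  unfold w
  calc E.t * (E.xz v.1 * E.xc v.2.1 * E.xb v.2.2)
      = E.t * E.xz v.1 * E.xc v.2.1 * E.xb v.2.2 := by group
    _ = E.xz v.1 * (E.t * E.xc v.2.1) * E.xb v.2.2 := by rw [E.t_z]; group
    _ = E.xz v.1 * E.xc v.2.1 * (E.t * E.xb v.2.2) := by rw [E.t_c]; group
    _ = _ := by rw [E.t_b]; group

theorem t_not_w (v : B.V) : E.t ≠ E.w v := by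
  intro h
  apply E.t_not 0 v.1 v.2.1 v.2.2
  rw [E.xa_zero, mul_one]
  exact h

/-- conjugation of `W` from the conjugation of the root elements. -/
theorem conj_w {g : G} {f : B.V → B.V} (hz : ∀ x, g * E.xz x * g⁻¹ = E.w (f (x, 0, 0)))
    (hc : ∀ x, g * E.xc x * g⁻¹ = E.w (f (0, x, 0)))
    (hb : ∀ x, g * E.xb x * g⁻¹ = E.w (f (0, 0, x)))
    (hf : ∀ u v, f (u + v) = f u + f v) (v : B.V) : g * E.w v * g⁻¹ = E.w (f v) := by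
  have e : v = (v.1, 0, 0) + (0, v.2.1, 0) + (0, 0, v.2.2) := by
    refine Prod.ext ?_ (Prod.ext ?_ ?_) <;> simp
  calc g * E.w v * g⁻¹
      = (g * E.xz v.1 * g⁻¹) * (g * E.xc v.2.1 * g⁻¹) * (g * E.xb v.2.2 * g⁻¹) := by
        unfold w; group
    _ = E.w (f (v.1, 0, 0)) * E.w (f (0, v.2.1, 0)) * E.w (f (0, 0, v.2.2)) := by
        rw [hz, hc, hb]
    _ = E.w (f v) := by
        rw [← E.w_add, ← E.w_add, ← hf, ← hf, ← e]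

theorem conj_ma (s : F) (v : B.V) : E.xa s * E.w v * (E.xa s)⁻¹ = E.w (B.ma s v) := by
  apply E.conj_w (f := B.ma s) _ _ _ (B.ma_add s)
  · intro x
    have e : B.ma s (x, 0, 0) = (x, 0, 0) := by
      unfold Bar.ma; refine Prod.ext ?_ (Prod.ext ?_ ?_) <;> simp [B.tr_zero]
    rw [e, w_z, conj_eq_iff, E.z_a]
  · intro x
    have e : B.ma s (0, x, 0) = (B.tr (s * B.s x), x, 0) := by
      unfold Bar.ma; refine Prod.ext ?_ (Prod.ext ?_ ?_) <;> simp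
    rw [e, E.a_c]
    simp [w, E.xb_zero]
  · intro x
    have e : B.ma s (0, 0, x) = (B.nm s * x, s * x, x) := by
      unfold Bar.ma; refine Prod.ext ?_ (Prod.ext ?_ ?_) <;> simp [B.tr_zero]
    rw [e, E.a_b]
    rfl

theorem mh_add (μ : Fˣ) (ν : B.Kˣ) (u v : B.V) : B.mh μ ν (u + v) = B.mh μ ν u + B.mh μ ν v := by
  unfold Bar.mh
  refine Prod.ext ?_ (Prod.ext ?_ ?_) <;> simp [mul_add]

theorem mn_add (u v : B.V) : B.mn (u + v) = B.mn u + B.mn v := by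
  unfold Bar.mn
  refine Prod.ext ?_ (Prod.ext ?_ ?_) <;> simp

theorem conj_mh (μ : Fˣ) (ν : B.Kˣ) (v : B.V) :
    E.h μ ν * E.w v * (E.h μ ν)⁻¹ = E.w (B.mh μ ν v) := by
  apply E.conj_w (f := B.mh μ ν) _ _ _ (mh_add μ ν)
  · intro x
    have e : B.mh μ ν (x, 0, 0) = (B.nm μ * ν * x, 0, 0) := by
      unfold Bar.mh; refine Prod.ext ?_ (Prod.ext ?_ ?_) <;> simp
    rw [e, w_z, E.h_z]
  · intro x
    have e : B.mh μ ν (0, x, 0) = (0, μ * ((ν : B.K) : F) * x, 0) := by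
      unfold Bar.mh; refine Prod.ext ?_ (Prod.ext ?_ ?_) <;> simp
    rw [e, w_c, E.h_c]
  · intro x
    have e : B.mh μ ν (0, 0, x) = (0, 0, ν * x) := by
      unfold Bar.mh; refine Prod.ext ?_ (Prod.ext ?_ ?_) <;> simp
    rw [e, w_b, E.h_b]

theorem conj_mn (v : B.V) : E.na * E.w v * E.na⁻¹ = E.w (B.mn v) := by
  apply E.conj_w (f := B.mn) _ _ _ mn_add
  · intro x
    have e : B.mn (x, 0, 0) = (0, 0, x) := by
      unfold Bar.mn; refine Prod.ext ?_ (Prod.ext ?_ ?_) <;> simp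
    rw [e, w_b, E.na_z]
  · intro x
    have e : B.mn (0, x, 0) = (0, B.s x, 0) := by
      unfold Bar.mn; refine Prod.ext ?_ (Prod.ext ?_ ?_) <;> simp
    rw [e, w_c, E.na_c]
  · intro x
    have e : B.mn (0, 0, x) = (x, 0, 0) := by
      unfold Bar.mn; refine Prod.ext ?_ (Prod.ext ?_ ?_) <;> simp
    rw [e, w_z, E.na_b]

theorem cent_w {c : G} (h : c * E.t = E.t * c) (hw : ∀ g ∈ E.Q, c * g = g * c) :
    ∃ v, c = E.w v ∨ c = E.t * E.w v := by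
  obtain ⟨x, y, z, h1⟩ := E.cent_W c h hw
  exact ⟨(x, y, z), h1⟩

theorem w_mem_Q (v : B.V) : E.w v ∈ E.Q :=
  E.Q.mul_mem (E.Q.mul_mem (E.z_mem _) (E.c_mem _)) (E.b_mem _)

theorem w_Q (v : B.V) {g : G} (hg : g ∈ E.Q) : E.w v * g = g * E.w v := by
  unfold w
  rw [mul_assoc, E.b_Q _ g hg, ← mul_assoc, mul_assoc (E.xz _), E.c_Q _ g hg, ← mul_assoc,
    E.z_Q _ g hg]
  group

/-- an element of `T` acts on `W` like some `h μ ν`. -/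
theorem conj_T_w {g : G} (hg : g ∈ E.T) : ∃ μ ν, ∀ v, g * E.w v * g⁻¹ = E.w (B.mh μ ν v) := by
  obtain ⟨μ, ν, -, hc, hb, hz⟩ := E.T_act g hg
  refine ⟨μ, ν, fun v => ?_⟩
  unfold w Bar.mh
  have e : g * (E.xz v.1 * E.xc v.2.1 * E.xb v.2.2) * g⁻¹ =
      (g * E.xz v.1 * g⁻¹) * (g * E.xc v.2.1 * g⁻¹) * (g * E.xb v.2.2 * g⁻¹) := by group
  rw [e, hc, hb, hz]

end WEnv

end Cfsg.Agent.StdRank2.UFour
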