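import Cfsg.Agent.StdRank2.UFour.SeedEnd

/-!
# The seed, part 4: the group `P = ⟨U, n_b, Hp⟩` from its rank one relations

`Pre E V`: `U = Q X_a`, `Q₁ ⊴ ⟨U, nb, Hp⟩`, `U = Q₁ Xβ`, for `r ∈ Xβ`, `r ≠ 1`: `nb r nb ∈ U Hp nb U`.
`Pre.toSeedEnv`: then `P = U Hp ∪ U Hp nb U` and all fields of `SeedEnv` hold.
-/

set_option autoImplicit false
set_option linter.unusedSectionVars false

namespace Cfsg.Agent.StdRank2.UFour.SeedPre

open Subgroup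
open Cfsg.Agent.StdEven.Syl
open Cfsg.Agent.StdRank2.UFour.Seeding Cfsg.Agent.StdRank2.UFour.SeedMove

variable {F : Type*} [Field F] [CharP F 2] {B : Bar F} {G : Type*} [Group G]

/-- the group `Q X_a`. -/
def UU (E : WEnv B G) : Subgroup G where
  carrier := {g | ∃ q ∈ E.Q, ∃ s, g = q * E.xa s}
  mul_mem' := by
    rintro _ _ ⟨q, hq, s, rfl⟩ ⟨r, hr, x, rfl⟩
    refine ⟨q * (E.xa s * r * (E.xa s)⁻¹), mul_mem hq (E.xa_Q s r hr), s + x, ?_⟩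
    rw [E.xa_add]; group
  one_mem' := ⟨1, one_mem _, 0, by rw [E.xa_zero, mul_one]⟩
  inv_mem' := by
    rintro _ ⟨q, hq, s, rfl⟩
    have h1 : (E.xa s)⁻¹ = E.xa s := WEnv.inv_of_sq (E.xa_sq s)
    refine ⟨E.xa s * q⁻¹ * (E.xa s)⁻¹, E.xa_Q s _ (inv_mem hq), s, ?_⟩
    rw [mul_inv_rev, inv_mul_cancel_right]
    exact congrArg (· * q⁻¹) h1

theorem mem_UU {E : WEnv B G} {g : G} : g ∈ UU E ↔ ∃ q ∈ E.Q, ∃ s, g = q * E.xa s := Iff.rfl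

theorem Q_le (E : WEnv B G) : E.Q ≤ UU E := fun q hq => ⟨q, hq, 0, by rw [E.xa_zero, mul_one]⟩

theorem a_mem (E : WEnv B G) (s : F) : E.xa s ∈ UU E := ⟨1, one_mem _, s, (one_mul _).symm⟩

theorem a_Q {E : WEnv B G} {s : F} (h : E.xa s ∈ E.Q) : s = 0 := by
  apply SeedEnv.tr_nondeg (B := B)
  intro y
  have h1 := E.a_c s y
  rw [← E.c_Q y _ h, mul_inv_cancel_right] at h1
  have h2 : E.xz (B.tr (s * B.s y)) = E.xz 0 := by rw [E.xz_zero]; exact right_eq_mul.1 h1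
  exact SeedEnv.xz_inj h2

theorem a_coord {E : WEnv B G} {q q' : G} (hq : q ∈ E.Q) (hq' : q' ∈ E.Q) {s s' : F}
    (h : q * E.xa s = q' * E.xa s') : s = s' := by
  have h1 : E.xa (s + s') ∈ E.Q := by
    have h2 : E.xa (s + s') = q⁻¹ * q' := by
      have h3 : E.xa s = q⁻¹ * q' * E.xa s' := by rw [mul_assoc, ← h]; group
      rw [E.xa_add, h3, mul_assoc, E.xa_sq, mul_one]
    rw [h2]; exact mul_mem (inv_mem hq) hq'
  have h2 := a_Q h1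
  have h3 : s' + s' = 0 := CharTwo.add_self_eq_zero s'
  linear_combination h2 - h3

theorem Q_conj {E : WEnv B G} {u q : G} (hu : u ∈ UU E) (hq : q ∈ E.Q) : u * q * u⁻¹ ∈ E.Q := by
  obtain ⟨r, hr, s, rfl⟩ := hu
  have e : r * E.xa s * q * (r * E.xa s)⁻¹ = r * (E.xa s * q * (E.xa s)⁻¹) * r⁻¹ := by group
  rw [e]
  exact mul_mem (mul_mem hr (E.xa_Q s q hq)) (inv_mem hr)

/-- The a-coordinate is invariant under conjugation by `U`. -/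
theorem a_conj {E : WEnv B G} {u : G} (hu : u ∈ UU E) (s : F) : ∃ q ∈ E.Q, u * E.xa s * u⁻¹ = q * E.xa s := by
  obtain ⟨r, hr, x, rfl⟩ := hu
  refine ⟨r * (E.xa s * r⁻¹ * (E.xa s)⁻¹), mul_mem hr (E.xa_Q s _ (inv_mem hr)), ?_⟩
  have h1 : E.xa x * E.xa s * (E.xa x)⁻¹ = E.xa s := by
    rw [← E.xa_add, add_comm, E.xa_add]; group
  calc r * E.xa x * E.xa s * (r * E.xa x)⁻¹ = r * (E.xa x * E.xa s * (E.xa x)⁻¹) * r⁻¹ := by group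
    _ = _ := by rw [h1]; group

/-- The primitive data. -/
structure Pre (E : WEnv B G) (V : Type*) [AddCommGroup V] [Module F V] where
  Q1 : Subgroup G
  Hp : Subgroup G
  nb : G
  Xβ : Set G
  chi : F → F
  xv : V → G
  pa : G → F
  pv : G → V
  pc : G → F
  chi_eq : ∀ μ, μ ≠ 0 → chi μ = B.s μ / μ ∨ chi μ = μ / B.s μ
  V_gen : ∃ e : V, ∀ w, ∃ a : F, w = a • e
  -- `nb`
  nb_sq : nb * nb = 1
  t_nb : E.t * nb = nb * E.t
  nb_z : ∀ x, nb * E.xz x * nb⁻¹ = E.xz x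
  nb_c : ∀ x, nb * E.xc x * nb⁻¹ = E.xa x
  nb_T : ∀ g, g ∈ E.T → nb * g * nb⁻¹ ∈ E.T
  nb_Q1 : ∀ g ∈ Q1, nb * g * nb⁻¹ ∈ Q1
  nb_gen : nb ∈ closure ((UU E : Set G) ∪ {g | ∃ u ∈ UU E, g = nb * u * nb⁻¹})
  -- `Hp`
  Hp_T : Hp ≤ E.T
  Hp_z : ∀ k ∈ Hp, ∀ x, k * E.xz x * k⁻¹ = E.xz x
  nb_Hp : ∀ k ∈ Hp, nb * k * nb⁻¹ ∈ Hp
  Hp_act : ∀ k ∈ Hp, ∃ μ, μ ≠ 0 ∧ Wt E xv chi k μ
  Hp_onto : ∀ μ, μ ≠ 0 → ∃ k ∈ Hp, Wt E xv chi k μ
  Hp_faith : ∀ k ∈ Hp, (∀ s, k * E.xa s * k⁻¹ = E.xa s) → k = 1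
  -- `Q₁`
  Q1_le : Q1 ≤ UU E
  U_Q1 : ∀ u ∈ UU E, ∀ g ∈ Q1, u * g * u⁻¹ ∈ Q1
  Hp_Q1 : ∀ k ∈ Hp, ∀ g ∈ Q1, k * g * k⁻¹ ∈ Q1
  b_not : E.xb 1 ∉ Q1
  a_mem : ∀ s, E.xa s ∈ Q1
  c_mem : ∀ y, E.xc y ∈ Q1
  v_mem : ∀ v, xv v ∈ Q1
  v_Q : ∀ v, xv v ∈ E.Q
  U_split : ∀ g ∈ UU E, ∃ g1 ∈ Q1, ∃ r ∈ Xβ, g = g1 * r
  Xβ_U : ∀ r ∈ Xβ, r ∈ UU E
  rank1 : ∀ r ∈ Xβ, r = 1 ∨ ∃ u ∈ UU E, ∃ k ∈ Hp, ∃ u' ∈ UU E, nb * r * nb = u * k * nb * u'
  U_two : IsPGroup 2 (UU E)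
  U_gen : UU E ≤ closure {g | ∃ k ∈ Hp, ∃ u ∈ UU E, g = k * u * k⁻¹ * u⁻¹}
  D_char : ∀ g ∈ Q1, (∀ u ∈ UU E, ∃ x, g * u * g⁻¹ = E.xz x * u) → ∃ x y, g = E.xz x * E.xc y
  cent_U : ∀ g ∈ UU E, (∀ x ∈ Q1, g * x = x * g) → ∃ x, g = E.xz x
  cent_t : ∀ c, c * E.t = E.t * c → (∀ g ∈ Q1, c * g = g * c) → ∃ g ∈ Q1, c = g ∨ c = E.t * g
  -- coordinates
  pa_mul : ∀ g ∈ Q1, ∀ k ∈ Q1, pa (g * k) = pa g + pa k
  pv_mul : ∀ g ∈ Q1, ∀ k ∈ Q1, pv (g * k) = pv g + pv k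
  pc_mul : ∀ g ∈ Q1, ∀ k ∈ Q1, pc (g * k) = pc g + pc k
  ker : ∀ g ∈ Q1, pa g = 0 → pv g = 0 → pc g = 0 → ∃ x, g = E.xz x
  pa_z : ∀ x, pa (E.xz x) = 0
  pv_z : ∀ x, pv (E.xz x) = 0
  pc_z : ∀ x, pc (E.xz x) = 0
  pa_a : ∀ s, pa (E.xa s) = s
  pv_a : ∀ s, pv (E.xa s) = 0
  pc_a : ∀ s, pc (E.xa s) = 0
  pa_v : ∀ v, pa (xv v) = 0
  pv_v : ∀ v, pv (xv v) = v
  pc_v : ∀ v, pc (xv v) = 0
  pa_c : ∀ y, pa (E.xc y) = 0
  pv_c : ∀ y, pv (E.xc y) = 0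
  pc_c : ∀ y, pc (E.xc y) = y

namespace Pre

variable {E : WEnv B G} {V : Type*} [AddCommGroup V] [Module F V] (S : Pre E V)

/-- The generators of `P`. -/
def genP : Set G := (UU E : Set G) ∪ {g | ∃ u ∈ UU E, g = S.nb * u * S.nb⁻¹} ∪ S.Hp

/-- The group `P`. -/
def P : Subgroup G := closure S.genP

theorem nb_inv : S.nb⁻¹ = S.nb := WEnv.inv_of_sq S.nb_sq

theorem U_le : UU E ≤ S.P := fun _ hu => subset_closure (Or.inl (Or.inl hu))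

theorem nU_le {u : G} (hu : u ∈ UU E) : S.nb * u * S.nb⁻¹ ∈ S.P :=
  subset_closure (Or.inl (Or.inr ⟨u, hu, rfl⟩))

theorem Hp_le : S.Hp ≤ S.P := fun _ hu => subset_closure (Or.inr hu)

theorem nb_mem : S.nb ∈ S.P :=
  (closure_mono (fun _ hg => Or.inl hg) : closure ((UU E : Set G) ∪
    {g | ∃ u ∈ UU E, g = S.nb * u * S.nb⁻¹}) ≤ S.P) S.nb_gen

theorem T_U {k : G} (hk : k ∈ E.T) {u : G} (hu : u ∈ UU E) : k * u * k⁻¹ ∈ UU E := by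
  obtain ⟨q, hq, s, rfl⟩ := hu
  obtain ⟨μ, ν, ha, -, -, -⟩ := E.T_act k hk
  refine ⟨k * q * k⁻¹, (E.T_Q k hk q).1 hq, μ * s, ?_⟩
  rw [← ha]; group

theorem T_P {k : G} (hk : k ∈ E.T) {g : G} (hg : g ∈ S.P) : k * g * k⁻¹ ∈ S.P := by
  have h1 : S.P ≤ S.P.comap (MulAut.conj k).toMonoidHom := by
    unfold P
    rw [Subgroup.closure_le]
    rintro g ((hg | ⟨u, hu, rfl⟩) | hg)
    · exact S.U_le (T_U hk hg)
    · have hk' : S.nb⁻¹ * k * S.nb ∈ E.T := by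
        have := S.nb_T k hk
        rwa [S.nb_inv] at this ⊢
      have h2 := S.nU_le (T_U hk' hu)
      have e : S.nb * (S.nb⁻¹ * k * S.nb * u * (S.nb⁻¹ * k * S.nb)⁻¹) * S.nb⁻¹ =
          k * (S.nb * u * S.nb⁻¹) * k⁻¹ := by group
      rw [e] at h2
      exact h2
    · have h2 : k * g * k⁻¹ = g := by
        rw [E.T_comm k hk g (S.Hp_T hg), mul_inv_cancel_right]
      change k * g * k⁻¹ ∈ S.P
      rw [h2]
      exact S.Hp_le hg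
  exact h1 hg

theorem P_t {g : G} (hg : g ∈ S.P) : E.t * g = g * E.t := by
  have hU : ∀ u ∈ UU E, E.t * u = u * E.t := by
    rintro _ ⟨q, hq, s, rfl⟩
    rw [← mul_assoc, E.t_Q q hq, mul_assoc, E.t_a, mul_assoc]
  have h1 : S.P ≤ centralizer ({E.t} : Set G) := by
    unfold P
    rw [Subgroup.closure_le]
    rintro g ((hg | ⟨u, hu, rfl⟩) | hg)
    · exact mem_centralizer_singleton_iff.2 (hU g hg).symm
    · refine mem_centralizer_singleton_iff.2 ?_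
      have h2 := S.t_nb
      have h3 : E.t * S.nb⁻¹ = S.nb⁻¹ * E.t := by rw [S.nb_inv, h2]
      calc S.nb * u * S.nb⁻¹ * E.t = S.nb * (u * E.t) * S.nb⁻¹ := by
            rw [mul_assoc, ← h3]; group
        _ = E.t * (S.nb * u * S.nb⁻¹) := by rw [← hU u hu, ← mul_assoc, ← h2]; group
    · exact mem_centralizer_singleton_iff.2 (E.T_t g (S.Hp_T hg)).symm
  exact (mem_centralizer_singleton_iff.1 (h1 hg)).symm

theorem P_z {g : G} (hg : g ∈ S.P) (x : B.K) : E.xz x * g = g * E.xz x := by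
  have hU : ∀ u ∈ UU E, E.xz x * u = u * E.xz x := by
    rintro _ ⟨q, hq, s, rfl⟩
    rw [← mul_assoc, E.z_Q x q hq, mul_assoc, E.z_a, mul_assoc]
  have h1 : S.P ≤ centralizer ({E.xz x} : Set G) := by
    unfold P
    rw [Subgroup.closure_le]
    rintro g ((hg | ⟨u, hu, rfl⟩) | hg)
    · exact mem_centralizer_singleton_iff.2 (hU g hg).symm
    · refine mem_centralizer_singleton_iff.2 ?_
      have h2 : S.nb * E.xz x = E.xz x * S.nb := mul_inv_eq_iff_eq_mul.1 (S.nb_z x)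
      have h3 : E.xz x * S.nb⁻¹ = S.nb⁻¹ * E.xz x := by rw [S.nb_inv, h2]
      calc S.nb * u * S.nb⁻¹ * E.xz x = S.nb * (u * E.xz x) * S.nb⁻¹ := by
            rw [mul_assoc, ← h3]; group
        _ = E.xz x * (S.nb * u * S.nb⁻¹) := by rw [← hU u hu, ← mul_assoc, h2]; group
    · exact mem_centralizer_singleton_iff.2 (mul_inv_eq_iff_eq_mul.1 (S.Hp_z g hg x))
  exact (mem_centralizer_singleton_iff.1 (h1 hg)).symm

/-- `k` moved through `nb`. -/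
theorem nb_k {k : G} (hk : k ∈ S.Hp) : ∃ k' ∈ S.Hp, S.nb * k = k' * S.nb :=
  ⟨_, S.nb_Hp k hk, by group⟩

/-- **Bruhat decomposition of `P`.** -/
theorem bruhat {g : G} (hg : g ∈ S.P) :
    (∃ u ∈ UU E, ∃ k ∈ S.Hp, g = u * k) ∨
      ∃ u ∈ UU E, ∃ k ∈ S.Hp, ∃ u' ∈ UU E, g = u * k * S.nb * u' := by
  -- the set is closed under left multiplication by `U`, `Hp`, `nb`
  let X : G → Prop := fun g => (∃ u ∈ UU E, ∃ k ∈ S.Hp, g = u * k) ∨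
      ∃ u ∈ UU E, ∃ k ∈ S.Hp, ∃ u' ∈ UU E, g = u * k * S.nb * u'
  have hU : ∀ u ∈ UU E, ∀ g, X g → X (u * g) := by
    rintro u hu _ (⟨v, hv, k, hk, rfl⟩ | ⟨v, hv, k, hk, v', hv', rfl⟩)
    · exact Or.inl ⟨u * v, mul_mem hu hv, k, hk, by group⟩
    · exact Or.inr ⟨u * v, mul_mem hu hv, k, hk, v', hv', by group⟩
  have hH : ∀ l ∈ S.Hp, ∀ g, X g → X (l * g) := by
    rintro l hl _ (⟨v, hv, k, hk, rfl⟩ | ⟨v, hv, k, hk, v', hv', rfl⟩)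
    · exact Or.inl ⟨l * v * l⁻¹, T_U (S.Hp_T hl) hv, l * k, mul_mem hl hk, by group⟩
    · exact Or.inr ⟨l * v * l⁻¹, T_U (S.Hp_T hl) hv, l * k, mul_mem hl hk, v', hv', by group⟩
  have hn : ∀ g, X g → X (S.nb * g) := by
    rintro _ (⟨v, hv, k, hk, rfl⟩ | ⟨v, hv, k, hk, v', hv', rfl⟩)
    · obtain ⟨k', hk', e⟩ := S.nb_k hk
      have hk1 : k⁻¹ ∈ E.T := inv_mem (S.Hp_T hk)
      refine Or.inr ⟨1, one_mem _, k', hk', k⁻¹ * v * k⁻¹⁻¹, T_U hk1 hv, ?_⟩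
      rw [one_mul, ← e]; group
    · obtain ⟨k', hk', e⟩ := S.nb_k hk
      have hk1 : k⁻¹ ∈ E.T := inv_mem (S.Hp_T hk)
      obtain ⟨g1, hg1, r, hr, e2⟩ := S.U_split _ (T_U hk1 hv)
      have e3 : S.nb * (v * k * S.nb * v') = k' * ((S.nb * g1 * S.nb⁻¹) * ((S.nb * r * S.nb) * v')) := by
        calc S.nb * (v * k * S.nb * v') = (S.nb * k) * (k⁻¹ * v * k⁻¹⁻¹) * S.nb * v' := by group
          _ = _ := by rw [e, e2]; group
      rw [e3]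
      apply hH _ hk'
      apply hU _ (S.Q1_le (S.nb_Q1 g1 hg1))
      rcases S.rank1 r hr with h1 | ⟨a, ha, l, hl, b, hb, h1⟩
      · rw [h1, mul_one, S.nb_sq, one_mul]
        exact Or.inl ⟨v', hv', 1, one_mem _, (mul_one _).symm⟩
      · rw [h1]
        exact Or.inr ⟨a, ha, l, hl, b * v', mul_mem hb hv', by group⟩
  have hninv : S.nb⁻¹ = S.nb := S.nb_inv
  have h1 : X 1 := Or.inl ⟨1, one_mem _, 1, one_mem _, by group⟩
  -- left multiplication by generators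
  refine Subgroup.closure_induction_left (p := fun g _ => X g) h1 ?_ ?_ hg
  · rintro x ((hx | ⟨u, hu, rfl⟩) | hx) y hy hXy
    · exact hU x hx _ hXy
    · rw [mul_assoc, mul_assoc, hninv]
      exact hn _ (hU u hu _ (hn _ hXy))
    · exact hH x hx _ hXy
  · rintro x ((hx | ⟨u, hu, rfl⟩) | hx) y hy hXy
    · exact hU _ (inv_mem hx) _ hXy
    · have e : (S.nb * u * S.nb⁻¹)⁻¹ * y = S.nb * (u⁻¹ * (S.nb * y)) := by
        rw [mul_inv_rev, mul_inv_rev, inv_inv, hninv]; group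
      rw [e]
      exact hn _ (hU _ (inv_mem hu) _ (hn _ hXy))
    · exact hH _ (inv_mem hx) _ hXy

/-- `nb` is not in `U Hp`. -/
theorem nb_not {u k : G} (hu : u ∈ UU E) (hk : k ∈ S.Hp) : S.nb ≠ u * k := by
  intro h
  -- `nb x_c(1) nb⁻¹ = x_a(1)`
  have h1 := S.nb_c 1
  rw [h] at h1
  obtain ⟨μ, hμ, hw⟩ := S.Hp_act k hk
  have h2 : u * k * E.xc 1 * (u * k)⁻¹ = u * (k * E.xc 1 * k⁻¹) * u⁻¹ := by group
  rw [h2, hw.c] at h1
  have h3 : E.xa 1 ∈ E.Q := by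
    rw [← h1]; exact Q_conj hu (E.c_mem _)
  exact one_ne_zero (a_Q h3)

theorem U_inf {g : G} (hg : g ∈ UU E) (h : S.nb⁻¹ * g * S.nb ∈ UU E) : g ∈ S.Q1 := by
  obtain ⟨g1, hg1, r, hr, rfl⟩ := S.U_split g hg
  rcases S.rank1 r hr with h1 | ⟨a, ha, l, hl, b, hb, h1⟩
  · rw [h1, mul_one]; exact hg1
  · exfalso
    have h2 : S.nb * r * S.nb ∈ UU E := by
      have h3 : S.nb * r * S.nb = (S.nb * g1 * S.nb⁻¹)⁻¹ * (S.nb⁻¹ * (g1 * r) * S.nb) := by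
        rw [S.nb_inv]
        have : S.nb * g1 * S.nb * (S.nb * (g1⁻¹ * (g1 * r)) * S.nb) =
          S.nb * g1 * (S.nb * S.nb) * (g1⁻¹ * (g1 * r)) * S.nb := by group
        calc S.nb * r * S.nb = S.nb * g1⁻¹ * (S.nb * S.nb) * (g1 * r) * S.nb := by
              rw [S.nb_sq]; group
          _ = (S.nb * g1 * S.nb⁻¹)⁻¹ * (S.nb * (g1 * r) * S.nb) := by
              rw [mul_inv_rev, mul_inv_rev, inv_inv, S.nb_inv]; group
          _ = _ := by rw [S.nb_inv]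
      rw [h3]
      exact mul_mem (inv_mem (S.Q1_le (S.nb_Q1 g1 hg1))) h
    rw [h1] at h2
    -- `nb ∈ U Hp`
    have hl' : l⁻¹ ∈ E.T := inv_mem (S.Hp_T hl)
    have h4 : S.nb = (l⁻¹ * (a⁻¹ * (a * l * S.nb * b) * b⁻¹) * l⁻¹⁻¹) * l⁻¹ := by group
    exact S.nb_not (T_U hl' (mul_mem (mul_mem (inv_mem ha) h2) (inv_mem hb))) (inv_mem hl) h4

theorem borel {g : G} (hg : g ∈ S.P) (h : ∀ u ∈ UU E, g * u * g⁻¹ ∈ UU E) [Finite G] :
    ∃ u ∈ UU E, ∃ k ∈ S.Hp, g = u * k := by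
  rcases S.bruhat hg with h1 | ⟨u, hu, k, hk, u', hu', rfl⟩
  · exact h1
  · exfalso
    -- `nb` normalises `U`
    have h2 : S.nb * E.xb 1 * S.nb⁻¹ ∈ UU E := by
      have hv : u'⁻¹ * E.xb 1 * u'⁻¹⁻¹ ∈ UU E :=
        mul_mem (mul_mem (inv_mem hu') (Q_le E (E.b_mem 1))) (inv_mem (inv_mem hu'))
      have h3 := h _ hv
      have hk' : k⁻¹ ∈ E.T := inv_mem (S.Hp_T hk)
      have h4 : k⁻¹ * (u⁻¹ * (u * k * S.nb * u' * (u'⁻¹ * E.xb 1 * u'⁻¹⁻¹) * (u * k * S.nb * u')⁻¹) * u) *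
          k⁻¹⁻¹ ∈ UU E := T_U hk' (mul_mem (mul_mem (inv_mem hu) h3) hu)
      have e : k⁻¹ * (u⁻¹ * (u * k * S.nb * u' * (u'⁻¹ * E.xb 1 * u'⁻¹⁻¹) * (u * k * S.nb * u')⁻¹) * u) *
          k⁻¹⁻¹ = S.nb * E.xb 1 * S.nb⁻¹ := by group
      rwa [e] at h4
    apply S.b_not
    apply S.U_inf (Q_le E (E.b_mem 1))
    rw [S.nb_inv] at h2 ⊢
    exact h2

theorem U_syl [Finite G] : IsSyl (UU E) S.P := by
  have : Fact (Nat.Prime 2) := ⟨Nat.prime_two⟩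
  refine ⟨S.U_le, S.U_two, fun X hX hXP hUX => ?_⟩
  by_contra hne
  have hlt : UU E < X := lt_of_le_of_ne hUX (Ne.symm hne)
  -- the normaliser condition
  have hnil : Group.IsNilpotent X := hX.isNilpotent
  have hlt' : (UU E).subgroupOf X < ⊤ := by
    rw [lt_top_iff_ne_top]
    intro h
    rw [Subgroup.subgroupOf_eq_top] at h
    exact absurd h (not_le_of_gt hlt)
  have h1 := normalizerCondition_of_isNilpotent _ hlt'
  obtain ⟨g, hg, hgU⟩ := SetLike.exists_of_lt h1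
  have hgn : ∀ u ∈ UU E, (g : G) * u * (g : G)⁻¹ ∈ UU E := by
    intro u hu
    have h2 : (⟨u, hUX hu⟩ : X) ∈ (UU E).subgroupOf X := mem_subgroupOf.2 hu
    have h3 := (mem_normalizer_iff.1 hg _).1 h2
    exact mem_subgroupOf.1 h3
  obtain ⟨u, hu, k, hk, e⟩ := S.borel (hXP g.2) hgn
  apply hgU
  rw [mem_subgroupOf]
  have hkX : k ∈ X := by
    have : k = u⁻¹ * g := by rw [e]; group
    rw [this]; exact mul_mem (inv_mem (hUX hu)) g.2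
  obtain ⟨m, hm, hkm⟩ := E.T_odd k (S.Hp_T hk)
  obtain ⟨r, hr⟩ := hX ⟨k, hkX⟩
  have hr' : k ^ 2 ^ r = 1 := congrArg Subtype.val hr
  have hk1 : k = 1 := by
    have h2 : orderOf k ∣ Nat.gcd m (2 ^ r) :=
      Nat.dvd_gcd (orderOf_dvd_of_pow_eq_one hkm) (orderOf_dvd_of_pow_eq_one hr')
    have h3 : Nat.gcd m (2 ^ r) = 1 := Nat.Coprime.pow_right r (Nat.coprime_two_right.2 hm)
    rw [h3, Nat.dvd_one, orderOf_eq_one_iff] at h2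
    exact h2
  rw [e, hk1, mul_one]
  exact hu

theorem P_odd : S.P ≤ closure {g | g ∈ S.P ∧ ∃ m, Odd m ∧ g ^ m = 1} := by
  set C := closure {g | g ∈ S.P ∧ ∃ m, Odd m ∧ g ^ m = 1} with hC
  have conj_pow_one : ∀ (a b : G) (m : ℕ), b ^ m = 1 → (a * b * a⁻¹) ^ m = 1 := by
    intro a b m h
    rw [conj_pow, h, mul_one, mul_inv_cancel]
  have hU0 : ∀ n ∈ S.P, ∀ u ∈ UU E, n * u * n⁻¹ ∈ C := by
    intro n hnP u hu
    have h1 : UU E ≤ C.comap (MulAut.conj n).toMonoidHom := by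
      refine S.U_gen.trans ?_
      rw [Subgroup.closure_le]
      rintro _ ⟨k, hk, v, hv, rfl⟩
      change n * (k * v * k⁻¹ * v⁻¹) * n⁻¹ ∈ C
      obtain ⟨m, hm, hkm⟩ := E.T_odd k (S.Hp_T hk)
      have e : n * (k * v * k⁻¹ * v⁻¹) * n⁻¹ = (n * k * n⁻¹) * ((n * v) * k⁻¹ * (n * v)⁻¹) := by group
      rw [e]
      refine mul_mem (subset_closure ⟨mul_mem (mul_mem hnP (S.Hp_le hk)) (inv_mem hnP), m, hm, ?_⟩)
        (subset_closure ⟨mul_mem (mul_mem (mul_mem hnP (S.U_le hv)) (inv_mem (S.Hp_le hk)))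
          (inv_mem (mul_mem hnP (S.U_le hv))), m, hm, ?_⟩)
      · exact conj_pow_one _ _ _ hkm
      · exact conj_pow_one _ _ _ (by rw [inv_pow, hkm, inv_one])
    exact h1 hu
  unfold P
  rw [Subgroup.closure_le]
  rintro g ((hg | ⟨u, hu, rfl⟩) | hg)
  · have := hU0 1 (one_mem _) g hg
    rwa [one_mul, inv_one, mul_one] at this
  · exact hU0 _ S.nb_mem u hu
  · obtain ⟨m, hm, hkm⟩ := E.T_odd g (S.Hp_T hg)
    exact subset_closure ⟨S.Hp_le hg, m, hm, hkm⟩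

theorem Q1_P {p : G} (hp : p ∈ S.P) {g : G} (hg : g ∈ S.Q1) [Finite G] : p * g * p⁻¹ ∈ S.Q1 := by
  have h1 : S.P ≤ normalizer (S.Q1 : Set G) := by
    unfold P
    rw [Subgroup.closure_le]
    have hn : S.nb ∈ normalizer (S.Q1 : Set G) := mem_normalizer_of_conj_le S.nb_Q1
    rintro x ((hx | ⟨u, hu, rfl⟩) | hx)
    · exact mem_normalizer_of_conj_le (S.U_Q1 x hx)
    · exact mul_mem (mul_mem hn (mem_normalizer_of_conj_le (S.U_Q1 u hu))) (inv_mem hn)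
    · exact mem_normalizer_of_conj_le (S.Hp_Q1 x hx)
  exact conj_mem_of_mem_normalizer (h1 hp) hg

theorem cent_Q1 {g : G} (hg : g ∈ S.P) (h : ∀ x ∈ S.Q1, g * x = x * g) : ∃ x, g = E.xz x := by
  rcases S.bruhat hg with ⟨u, hu, k, hk, rfl⟩ | ⟨u, hu, k, hk, u', hu', rfl⟩
  · obtain ⟨μ, hμ, hw⟩ := S.Hp_act k hk
    have hk1 : ∀ s, E.xa (μ * s) = E.xa s := by
      intro s
      have h1 := h _ (S.a_mem s)
      have h2 : u * (k * E.xa s * k⁻¹) * u⁻¹ = E.xa s := by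
        calc u * (k * E.xa s * k⁻¹) * u⁻¹ = (u * k * E.xa s) * (u * k)⁻¹ := by group
          _ = _ := by rw [h1]; group
      rw [hw.a] at h2
      obtain ⟨q, hq, h3⟩ := a_conj hu (μ * s)
      rw [h3] at h2
      have h4 := a_coord hq (one_mem E.Q) (h2.trans (one_mul _).symm)
      rw [h4]
    have hkk : k = 1 := S.Hp_faith k hk (fun s => by rw [hw.a, hk1])
    rw [hkk, mul_one] at h ⊢
    exact S.cent_U u hu h
  · exfalso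
    obtain ⟨μ, hμ, hw⟩ := S.Hp_act k hk
    have h1 := h _ (S.c_mem 1)
    have h2 : u * k * S.nb * (u' * E.xc 1 * u'⁻¹) * (u * k * S.nb)⁻¹ = E.xc 1 := by
      calc u * k * S.nb * (u' * E.xc 1 * u'⁻¹) * (u * k * S.nb)⁻¹ =
          (u * k * S.nb * u' * E.xc 1) * (u * k * S.nb * u')⁻¹ := by group
        _ = _ := by rw [h1]; group
    obtain ⟨q, hq, s, rfl⟩ := hu'
    rw [SeedEnv.conj_c_form hq] at h2
    have h3 : u * k * S.nb * (E.xz (B.tr (s * B.s 1)) * E.xc 1) * (u * k * S.nb)⁻¹ =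
        u * ((k * (S.nb * E.xz (B.tr (s * B.s 1)) * S.nb⁻¹) * k⁻¹) *
          (k * (S.nb * E.xc 1 * S.nb⁻¹) * k⁻¹)) * u⁻¹ := by group
    rw [h3, S.nb_z, S.nb_c, S.Hp_z k hk, hw.a] at h2
    have h4 : E.xz (B.tr (s * B.s 1)) * E.xa (μ * 1) = u⁻¹ * E.xc 1 * u⁻¹⁻¹ := by
      rw [← h2]; group
    have h5 : E.xz (B.tr (s * B.s 1)) * E.xa (μ * 1) ∈ E.Q := by
      rw [h4]; exact Q_conj (inv_mem hu) (E.c_mem 1)
    have h6 : E.xa (μ * 1) ∈ E.Q := by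
      have := mul_mem (inv_mem (E.z_mem (B.tr (s * B.s 1)))) h5
      rwa [inv_mul_cancel_left] at this
    have h7 := a_Q h6
    rw [mul_one] at h7
    exact hμ h7

/-- **The `SeedEnv` of the primitive data.** -/
def toSeedEnv [Finite G] : SeedEnv E V where
  P := S.P
  Q1 := S.Q1
  U := UU E
  Hp := S.Hp
  nb := S.nb
  chi := S.chi
  xv := S.xv
  pa := S.pa
  pv := S.pv
  pc := S.pc
  chi_eq := S.chi_eq
  V_gen := S.V_gen
  P_odd := S.P_odd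
  P_t := fun _ hg => S.P_t hg
  P_z := fun _ hg x => S.P_z hg x
  T_P := fun _ hk _ hg => S.T_P hk hg
  cent_P := by
    intro c hc h
    have hQ : ∀ g ∈ S.Q1, c * g = g * c := fun g hg => h g (S.U_le (S.Q1_le hg))
    obtain ⟨g, hg, h1⟩ := S.cent_t c hc hQ
    have h2 : ∀ x ∈ S.Q1, g * x = x * g := by
      intro x hx
      rcases h1 with h1 | h1
      · rw [← h1]; exact hQ x hx
      · have h3 : g = E.t * c := by rw [h1, ← mul_assoc, E.t_sq, one_mul]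
        rw [h3, mul_assoc, hQ x hx, ← mul_assoc, S.P_t (S.U_le (S.Q1_le hx)), mul_assoc]
    obtain ⟨x, hx⟩ := S.cent_U g (S.Q1_le hg) h2
    exact ⟨x, by rw [← hx]; exact h1⟩
  U_syl := S.U_syl
  nb_mem := S.nb_mem
  U_inf := fun _ hg h => S.U_inf hg h
  Q1_le := S.Q1_le
  Q1_P := fun _ hp _ hg => S.Q1_P hp hg
  T_U := fun _ hk _ hu => T_U hk hu
  U_form := fun _ hg => hg
  Q_le := Q_le E
  a_mem := S.a_mem
  c_mem := S.c_mem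
  v_mem := S.v_mem
  v_Q := S.v_Q
  D_char := S.D_char
  cent_Q1 := fun _ hg h => S.cent_Q1 hg h
  Hp_T := S.Hp_T
  Hp_P := S.Hp_le
  Hp_act := S.Hp_act
  Hp_onto := S.Hp_onto
  borel := fun _ hg h => S.borel hg h
  pa_mul := S.pa_mul
  pv_mul := S.pv_mul
  pc_mul := S.pc_mul
  ker := S.ker
  pa_z := S.pa_z
  pv_z := S.pv_z
  pc_z := S.pc_z
  pa_a := S.pa_a
  pv_a := S.pv_a
  pc_a := S.pc_a
  pa_v := S.pa_v
  pv_v := S.pv_v
  pc_v := S.pc_v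
  pa_c := S.pa_c
  pv_c := S.pv_c
  pc_c := S.pc_c

end Pre

end Cfsg.Agent.StdRank2.UFour.SeedPre
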