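import Cfsg.Agent.StdRank2.UFour.GrowRoot

/-!
# `Ŵ` is elementary abelian; the output `WGrown`
-/

set_option autoImplicit false
set_option linter.unusedSectionVars false

namespace Cfsg.Agent.StdRank2.UFour

open Subgroup

variable {F : Type*} [Field F] [CharP F 2] {B : Bar F} {G : Type*} [Group G]

namespace Seed

open WEnv

variable {E : WEnv B G} (S : Seed E)

/-- `[xa s, y]`. -/
def dd (E : WEnv B G) (y : G) (s : F) : G := E.xa s * y * (E.xa s)⁻¹ * y⁻¹

theorem dd_mem {y : G} (hy : y ∈ E.Wh) (s : F) : dd E y s ∈ E.Wh :=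
  E.Wh.mul_mem ((E.nm_xa s).Wh hy) (E.Wh.inv_mem hy)

theorem dd_D {y : G} {v : B.V} (h : E.D y v) (s : F) : E.D (dd E y s) (B.ma s v + v) :=
  ((E.nm_xa s).D h).mul h.inv

theorem xa_conj_dd (y : G) (s : F) : (E.xa s * dd E y s * (E.xa s)⁻¹) * dd E y s = 1 := by
  have h := inv_of_sq (E.xa_sq s)
  unfold dd
  rw [h]
  calc E.xa s * (E.xa s * y * E.xa s * y⁻¹) * E.xa s * (E.xa s * y * E.xa s * y⁻¹)
      = (E.xa s * E.xa s) * y * E.xa s * y⁻¹ * (E.xa s * E.xa s) * y * E.xa s * y⁻¹ := by group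
    _ = y * (E.xa s * (y⁻¹ * y) * E.xa s) * y⁻¹ := by rw [E.xa_sq]; group
    _ = 1 := by rw [inv_mul_cancel, mul_one, E.xa_sq]; group

theorem Zh_a {g : G} (hg : g ∈ S.Zh) (s : F) : E.xa s * g * (E.xa s)⁻¹ = g := by
  rw [conj_eq_iff, S.a_comm g hg.1]

include S in
theorem dd_add (y : G) (hy : y ∈ E.Wh) (s s' : F) :
    dd E y (s + s') = (E.xa s * dd E y s' * (E.xa s)⁻¹) * dd E y s := by
  unfold dd
  rw [E.xa_add]
  group

/-- the `X_b`-component of `[xa s, y]` vanishes. -/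
theorem dd_c {y : G} (hy : y ∈ E.Ch) {x : F} (hx : E.D y (0, x, 0)) (s : F) :
    ∃ r ∈ S.Zh, E.D r (B.tr (s * B.s x), 0, 0) ∧ ∃ f, dd E y s = r * E.w (0, f, 0) := by
  have hyW := (mem_Ch.1 hy).1
  have h1 := dd_D hx s
  have e1 : B.ma s ((0 : B.K), x, (0 : B.K)) + (0, x, 0) = (B.tr (s * B.s x), 0, 0) := by
    unfold Bar.ma
    refine Prod.ext ?_ (Prod.ext ?_ ?_)
    · simp
    · change x + s * ((0 : B.K) : F) + x = 0
      have := Bar.add_self x
      have h0 : ((0 : B.K) : F) = 0 := rfl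
      rw [h0]
      linear_combination this
    · simp
  rw [e1] at h1
  obtain ⟨r, hr, hrD, f, e, hfe⟩ := S.eq_Zh (dd_mem hyW s) h1
  have h2 := xa_conj_dd (E := E) y s
  have h3 : E.xa s * (r * E.w (0, f, e)) * (E.xa s)⁻¹ = r * E.w (B.ma s (0, f, e)) := by
    calc E.xa s * (r * E.w (0, f, e)) * (E.xa s)⁻¹
        = (E.xa s * r * (E.xa s)⁻¹) * (E.xa s * E.w (0, f, e) * (E.xa s)⁻¹) := by group
      _ = _ := by rw [S.Zh_a hr, E.conj_ma]
  rw [hfe, h3] at h2
  by_cases hs : s = 0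
  · refine ⟨r, hr, hrD, f, ?_⟩
    rw [hfe]
    have h4 : dd E y s = 1 := by
      unfold dd; rw [hs, E.xa_zero]; group
    have h5 : r * E.w (0, f, e) = 1 * E.w (0, 0, 0) := by
      rw [← hfe, h4, one_mul, show ((0, 0, 0) : B.V) = 0 from rfl, E.w_zero]
    obtain ⟨-, h7⟩ := S.Zh_w_uniq hr S.Zh.one_mem h5
    rw [h7]
  · have h4 : r * r * E.w (B.ma s (0, f, e) + (0, f, e)) = 1 * E.w (0, 0, 0) := by
      rw [one_mul, show ((0, 0, 0) : B.V) = 0 from rfl, E.w_zero, ← h2, E.w_add]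
      have := hrD.w_comm (B.ma s (0, f, e))
      calc r * r * (E.w (B.ma s (0, f, e)) * E.w (0, f, e))
          = r * (r * E.w (B.ma s (0, f, e))) * E.w (0, f, e) := by group
        _ = r * (E.w (B.ma s (0, f, e)) * r) * E.w (0, f, e) := by rw [this]
        _ = _ := by group
    have e5 : B.ma s (0, f, e) + (0, f, e) =
        (B.tr (s * B.s f) + B.nm s * e, 0, 0) + (0, s * (e : F), 0) := by
      unfold Bar.ma
      refine Prod.ext ?_ (Prod.ext ?_ ?_)
      · simp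
      · change f + s * (e : F) + f = 0 + s * (e : F)
        have := Bar.add_self f
        linear_combination this
      · change e + e = 0 + 0
        rw [add_zero]; exact B.K_add_self e
    rw [e5, E.w_add, E.w_z, ← mul_assoc] at h4
    obtain ⟨h6, -⟩ := S.Zh_w_uniq (S.Zh.mul_mem (S.Zh.mul_mem hr hr) (xz_mem_Zh _)) S.Zh.one_mem h4
    have h7 : e = 0 := by
      have := (mul_eq_zero.1 h6).resolve_left hs
      exact Subtype.ext this
    exact ⟨r, hr, hrD, f, by rw [hfe, h7]⟩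

/-- `[xa s, y] ∈ X̂_z` for `y ∈ X̂_c`. -/
theorem dd_Zh {y : G} (hy : y ∈ E.Ch) (s : F) : dd E y s ∈ S.Zh := by
  obtain ⟨x, hx⟩ := Ch.D hy
  have hyW := (mem_Ch.1 hy).1
  have hex := fun s => S.dd_c hy hx s
  choose r hr hrD f hf using hex
  have hadd : ∀ s s', f (s + s') = f s + f s' := by
    intro s s'
    have h1 := S.dd_add y hyW s s'
    have h3 : E.xa s * (r s' * E.w (0, f s', 0)) * (E.xa s)⁻¹ =
        r s' * E.w (B.ma s (0, f s', 0)) := by
      calc E.xa s * (r s' * E.w (0, f s', 0)) * (E.xa s)⁻¹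
          = (E.xa s * r s' * (E.xa s)⁻¹) * (E.xa s * E.w (0, f s', 0) * (E.xa s)⁻¹) := by group
        _ = _ := by rw [S.Zh_a (hr _), E.conj_ma]
    rw [hf (s + s'), hf s', hf s, h3] at h1
    have e2 : B.ma s (0, f s', 0) = (B.tr (s * B.s (f s')), 0, 0) + (0, f s', 0) := by
      unfold Bar.ma
      refine Prod.ext ?_ (Prod.ext ?_ ?_) <;> simp
    have h4 : r s' * E.w (B.ma s (0, f s', 0)) * (r s * E.w (0, f s, 0)) =
        (r s' * E.xz (B.tr (s * B.s (f s'))) * r s) * E.w (0, f s' + f s, 0) := by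
      have e3 : ((0 : B.K), f s' + f s, (0 : B.K)) = (0, f s', 0) + (0, f s, 0) := by
        refine Prod.ext ?_ (Prod.ext ?_ ?_) <;> simp
      rw [e2, e3, E.w_add, E.w_add, E.w_z]
      have := (hrD s).w_comm (0, f s', 0)
      calc r s' * (E.xz (B.tr (s * B.s (f s'))) * E.w (0, f s', 0)) * (r s * E.w (0, f s, 0))
          = r s' * E.xz (B.tr (s * B.s (f s'))) * (E.w (0, f s', 0) * r s) * E.w (0, f s, 0) := by
            group
        _ = _ := by rw [← this]; group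
    rw [h4] at h1
    have h5 := (S.Zh_w_uniq (hr _)
      (S.Zh.mul_mem (S.Zh.mul_mem (hr s') (xz_mem_Zh _)) (hr s)) h1).1
    rw [h5, add_comm]
  have hlam : ∀ s, f (((E.lam : B.K) : F) * s) = f s := by
    intro s
    have h1 : E.h2 * dd E y s * E.h2⁻¹ = dd E y (((E.lam : B.K) : F) * s) := by
      have hc := (mem_Ch.1 hy).2
      have h2 : E.h2 * y * E.h2⁻¹ = y := by rw [hc, mul_inv_cancel_right]
      have h3 := E.h2_a s
      unfold dd
      rw [← h3]
      calc E.h2 * (E.xa s * y * (E.xa s)⁻¹ * y⁻¹) * E.h2⁻¹ =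
          (E.h2 * E.xa s * E.h2⁻¹) * (E.h2 * y * E.h2⁻¹) * (E.h2 * E.xa s * E.h2⁻¹)⁻¹ *
            (E.h2 * y * E.h2⁻¹)⁻¹ := by group
        _ = _ := by rw [h2]
    have h2 : E.h2 * dd E y s * E.h2⁻¹ = (E.h2 * r s * E.h2⁻¹) * E.w (0, f s, 0) := by
      rw [hf s]
      calc E.h2 * (r s * E.w (0, f s, 0)) * E.h2⁻¹ =
          (E.h2 * r s * E.h2⁻¹) * (E.h2 * E.w (0, f s, 0) * E.h2⁻¹) := by group
        _ = _ := by
          rw [E.nm_h2.act, E.mh2]
          simp
    rw [h1, hf] at h2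
    exact (S.Zh_w_uniq (hr _) (T_Zh E.h2_mem (hr s)) h2).1
  have hf0 : ∀ s, f s = 0 := by
    intro s
    have hl := E.one_add_lamF
    have h1 := hadd (s / (1 + ((E.lam : B.K) : F))) (((E.lam : B.K) : F) * (s / (1 + ((E.lam : B.K) : F))))
    rw [hlam, Bar.add_self] at h1
    have e : s / (1 + ((E.lam : B.K) : F)) + ((E.lam : B.K) : F) * (s / (1 + ((E.lam : B.K) : F))) = s := by
      field_simp
    rwa [e] at h1
  rw [hf s, hf0 s, show ((0, 0, 0) : B.V) = 0 from rfl, E.w_zero, mul_one]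
  exact hr s

include S in
theorem dd_sq {y : G} (hy : y ∈ E.Ch) (s : F) : dd E y s * dd E y s = 1 := by
  have h1 := xa_conj_dd (E := E) y s
  rwa [S.Zh_a (S.dd_Zh hy s)] at h1

include S in
theorem exists_sq (v : B.V) : ∃ y ∈ E.Wh, E.D y v ∧ y * y = 1 := by
  let A : AddSubgroup B.V :=
    { carrier := {v | ∃ y ∈ E.Wh, E.D y v ∧ y * y = 1}
      add_mem' := by
        rintro a b ⟨y, hy, hyD, hy2⟩ ⟨y', hy', hyD', hy2'⟩
        refine ⟨y * y', E.Wh.mul_mem hy hy', hyD.mul hyD', ?_⟩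
        have := S.Wh_comm hy hy'
        calc y * y' * (y * y') = y * (y' * y) * y' := by group
          _ = y * (y * y') * y' := by rw [this]
          _ = (y * y) * (y' * y') := by group
          _ = 1 := by rw [hy2, hy2', mul_one]
      zero_mem' := ⟨1, E.Wh.one_mem, WEnv.D.one, mul_one _⟩
      neg_mem' := by
        rintro a ⟨y, hy⟩
        have : -a = a := neg_eq_of_add_eq_zero_left (WEnv.V_add_self a)
        rw [this]
        exact ⟨y, hy⟩ }
  have hconj : ∀ {g : G} {f : B.V → B.V}, E.Nm g f → ∀ v ∈ A, f v ∈ A := by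
    rintro g f hg v ⟨y, hy, hyD, hy2⟩
    refine ⟨g * y * g⁻¹, hg.Wh hy, hg.D hyD, ?_⟩
    calc g * y * g⁻¹ * (g * y * g⁻¹) = g * (y * y) * g⁻¹ := by group
      _ = 1 := by rw [hy2]; group
  have hz : ∀ c, (c, (0 : F), (0 : B.K)) ∈ A := by
    intro c
    obtain ⟨s, hs⟩ := B.tr_surj c
    obtain ⟨y, hy, hyD⟩ := S.exists_Ch 1
    have hyW := (mem_Ch.1 hy).1
    refine ⟨dd E y s, dd_mem hyW s, ?_, S.dd_sq hy s⟩
    have h1 := dd_D hyD s
    have e1 : B.ma s ((0 : B.K), (1 : F), (0 : B.K)) + (0, 1, 0) = (c, 0, 0) := by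
      unfold Bar.ma
      refine Prod.ext ?_ (Prod.ext ?_ ?_)
      · simp [hs]
      · change 1 + s * ((0 : B.K) : F) + 1 = 0
        have := Bar.add_self (1 : F)
        have h0 : ((0 : B.K) : F) = 0 := rfl
        rw [h0]
        linear_combination this
      · simp
    rwa [e1] at h1
  have hb : ∀ c, ((0 : B.K), (0 : F), c) ∈ A := by
    intro c
    have h1 := hconj E.nm_na _ (hz c)
    have e : B.mn (c, 0, 0) = (0, 0, c) := by
      unfold Bar.mn
      refine Prod.ext rfl (Prod.ext (map_zero B.s) rfl)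
    rwa [e] at h1
  have hA : A = ⊤ := B.gen A hb fun s c => hconj (E.nm_xa s) _ (hb c)
  have : v ∈ A := by rw [hA]; trivial
  exact this

include S in
/-- `Ŵ` is elementary abelian. -/
theorem Wh_sq {y : G} (hy : y ∈ E.Wh) : y * y = 1 := by
  obtain ⟨v, hv⟩ := Wh.D hy
  obtain ⟨x, hx, hxD, hx2⟩ := S.exists_sq v
  have h1 := hv.mul hxD.inv
  rw [V_add_self] at h1
  obtain ⟨u, hu⟩ := Wh.mem_W (E.Wh.mul_mem hy (E.Wh.inv_mem hx)) h1
  have e : y = E.w u * x := by rw [← hu]; group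
  have h2 := hxD.w_comm u
  rw [e]
  calc E.w u * x * (E.w u * x) = E.w u * (x * E.w u) * x := by group
    _ = (E.w u * E.w u) * (x * x) := by rw [h2]; group
    _ = 1 := by rw [E.w_sq, hx2, mul_one]

/-- `X̂_b`. -/
def Bh : Subgroup G := S.Zh.map (MulAut.conj E.na).toMonoidHom

theorem ab_aux {r d y w w' : G} (c1 : y * w = w * y) (c2 : y * r = r * y) (c3 : w * r = r * w)
    (c4 : d * r = r * d) (q1 : r * r = 1) (q2 : y * y = 1) :
    r * (d * y) * w * (r * y * w') = d * (w * w') := by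
  calc r * (d * y) * w * (r * y * w') = r * d * (y * w) * r * y * w' := by group
    _ = r * d * (w * y) * r * y * w' := by rw [c1]
    _ = r * d * w * (y * r) * y * w' := by group
    _ = r * d * w * (r * y) * y * w' := by rw [c2]
    _ = r * d * w * r * (y * y) * w' := by group
    _ = r * d * (w * r) * w' := by rw [q2]; group
    _ = r * d * (r * w) * w' := by rw [c3]
    _ = r * (d * r) * w * w' := by group
    _ = r * (r * d) * w * w' := by rw [c4]
    _ = (r * r) * d * w * w' := by group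
    _ = _ := by rw [q1]; group

variable {S}

theorem mem_Bh {g : G} : g ∈ S.Bh ↔ ∃ r ∈ S.Zh, E.na * r * E.na⁻¹ = g := by
  unfold Bh
  rw [mem_map]
  rfl

theorem Bh_Wh {g : G} (hg : g ∈ S.Bh) : g ∈ E.Wh := by
  obtain ⟨r, hr, rfl⟩ := mem_Bh.1 hg
  exact E.nm_na.Wh hr.2

theorem mn_z (c : B.K) : B.mn (c, 0, 0) = (0, 0, c) := by
  unfold Bar.mn
  refine Prod.ext rfl (Prod.ext (map_zero B.s) rfl)

theorem Bh.D {g : G} (hg : g ∈ S.Bh) : ∃ c, E.D g (0, 0, c) := by
  obtain ⟨r, hr, rfl⟩ := mem_Bh.1 hg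
  obtain ⟨c, hc⟩ := Zh.D hr
  refine ⟨c, ?_⟩
  have := E.nm_na.D hc
  rwa [mn_z] at this

theorem na_inv : E.na⁻¹ = E.na := inv_of_sq E.na_sq

theorem na_conj_conj (g : G) : E.na * (E.na * g * E.na⁻¹) * E.na⁻¹ = g := by
  rw [na_inv]
  calc E.na * (E.na * g * E.na) * E.na = (E.na * E.na) * g * (E.na * E.na) := by group
    _ = g := by rw [E.na_sq, one_mul, mul_one]

theorem na_Bh {g : G} (hg : g ∈ S.Bh) : E.na * g * E.na⁻¹ ∈ S.Zh := by
  obtain ⟨r, hr, rfl⟩ := mem_Bh.1 hg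
  rwa [na_conj_conj]

theorem na_Zh {g : G} (hg : g ∈ S.Zh) : E.na * g * E.na⁻¹ ∈ S.Bh := mem_Bh.2 ⟨g, hg, rfl⟩

variable (S)

/-- **The output of the `W`-level growth.** -/
def wGrown : WGrown E where
  Z := S.Zh
  C := E.Ch
  Bb := S.Bh
  rootZ := by
    refine ⟨xz_mem_Zh, fun g hg => S.Wh_sq hg.2, fun g hg => S.conj_t g hg.1, fun c => ?_,
      fun g hg hc => ?_, fun k hk g hg => T_Zh hk hg⟩
    · obtain ⟨g, hg, hD⟩ := S.exists_Zh c
      exact ⟨g, hg, by rw [hD.2, E.w_z]⟩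
    · obtain ⟨c, hD⟩ := Zh.D hg
      have := hD.of_comm hc
      rw [this] at hD
      exact Zh.mem_W hg hD
  rootC := by
    refine ⟨xc_mem_Ch, fun g hg => S.Wh_sq (mem_Ch.1 hg).1, fun g hg => ?_, fun c => ?_,
      fun g hg hc => ?_, fun k hk g hg => T_Ch hk hg⟩
    · obtain ⟨c, hD⟩ := Ch.D hg
      exact ⟨c, by rw [hD.2, E.w_c]⟩
    · obtain ⟨g, hg, hD⟩ := S.exists_Ch c
      exact ⟨g, hg, by rw [hD.2, E.w_c]⟩
    · obtain ⟨c, hD⟩ := Ch.D hg
      have := hD.of_comm hc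
      rw [this] at hD
      exact Ch.mem_W hg hD
  rootB := by
    refine ⟨fun c => mem_Bh.2 ⟨_, xz_mem_Zh c, E.na_z c⟩, fun g hg => S.Wh_sq (Bh_Wh hg),
      fun g hg => ?_, fun c => ?_, fun g hg hc => ?_, fun k hk g hg => ?_⟩
    · obtain ⟨c, hD⟩ := Bh.D hg
      exact ⟨c, by rw [hD.2, E.w_b]⟩
    · obtain ⟨g, hg, hD⟩ := S.exists_Zh c
      refine ⟨_, na_Zh hg, ?_⟩
      have := E.nm_na.D hD
      rw [mn_z] at this
      rw [this.2, E.w_b]
    · obtain ⟨c, hD⟩ := Bh.D hg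
      have h0 := hD.of_comm hc
      rw [h0] at hD
      obtain ⟨u, hu⟩ := Wh.mem_W (Bh_Wh hg) hD
      have h1 := na_Bh hg
      rw [hu, E.nm_na.act] at h1
      obtain ⟨x, hx⟩ := Zh.mem_W h1 (D.w _)
      refine ⟨x, ?_⟩
      rw [← na_conj_conj (E := E) g, hu, E.nm_na.act, hx, E.na_z]
    · obtain ⟨r, hr, rfl⟩ := mem_Bh.1 hg
      have hk2 : E.na * k * E.na⁻¹ ∈ E.T := (E.na_T k).1 hk
      refine mem_Bh.2 ⟨_, T_Zh hk2 hr, ?_⟩
      have h1 := E.na_sq
      have h2 := na_inv (E := E)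
      rw [h2]
      calc E.na * (E.na * k * E.na * r * (E.na * k * E.na)⁻¹) * E.na =
          (E.na * E.na) * k * E.na * r * E.na⁻¹ * k⁻¹ * (E.na⁻¹ * E.na) := by group
        _ = _ := by rw [h1, h2, E.na_sq]; group
  Z_C g hg k hk := S.Wh_comm hg.2 (mem_Ch.1 hk).1
  Z_B g hg k hk := S.Wh_comm hg.2 (Bh_Wh hk)
  C_B g hg k hk := S.Wh_comm (mem_Ch.1 hg).1 (Bh_Wh hk)
  Z_Q g hg k hk := by
    obtain ⟨c, hD⟩ := Zh.D hg
    exact hD.1 k hk
  C_Q g hg k hk := by
    obtain ⟨c, hD⟩ := Ch.D hg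
    exact hD.1 k hk
  B_Q g hg k hk := by
    obtain ⟨c, hD⟩ := Bh.D hg
    exact hD.1 k hk
  na_Z g hg := na_Zh hg
  na_B g hg := na_Bh hg
  na_C g hg := by
    have hg' := mem_Ch.1 hg
    rw [mem_Ch]
    refine ⟨E.nm_na.Wh hg'.1, ?_⟩
    have hk : E.na * E.h2 * E.na⁻¹ ∈ E.T := (E.na_T _).1 E.h2_mem
    have h1 := T_comm_Ch hk (fun x => ?_) hg
    · have h2 := na_inv (E := E)
      rw [h2] at h1 ⊢
      calc E.h2 * (E.na * g * E.na) = (E.na * E.na) * E.h2 * E.na * g * E.na := by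
            rw [E.na_sq]; group
        _ = E.na * ((E.na * E.h2 * E.na) * g) * E.na := by group
        _ = E.na * g * E.na * E.h2 * (E.na * E.na) := by rw [h1]; group
        _ = _ := by rw [E.na_sq, mul_one]
    · have h2 := na_inv (E := E)
      have h3 : E.na * E.xc x * E.na = E.xc (B.s x) := by
        have := E.na_c x
        rwa [h2] at this
      have h4 : E.na * E.xc (B.s x) * E.na = E.xc x := by
        have := E.na_c (B.s x)
        rwa [h2, B.invol] at this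
      have h5 := E.h2_c (B.s x)
      rw [h2]
      calc E.na * E.h2 * E.na * E.xc x = E.na * (E.h2 * (E.na * E.xc x * E.na)) * E.na := by
            calc _ = E.na * E.h2 * E.na * E.xc x * (E.na * E.na) := by rw [E.na_sq, mul_one]
              _ = _ := by group
        _ = E.na * E.xc (B.s x) * E.h2 * E.na := by rw [h3, h5]; group
        _ = (E.na * E.xc (B.s x) * E.na) * (E.na * E.h2 * E.na) := by
            calc _ = E.na * E.xc (B.s x) * 1 * E.h2 * E.na := by group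
              _ = E.na * E.xc (B.s x) * (E.na * E.na) * E.h2 * E.na := by rw [E.na_sq]
              _ = _ := by group
        _ = _ := by rw [h4]
  Z_a g hg s := S.a_comm g hg.1 s
  a_C s g hg := ⟨dd E g s, S.dd_Zh hg s, by unfold dd; group⟩
  a_B s g hg := by
    obtain ⟨c, hD⟩ := Bh.D hg
    have h1 := dd_D hD s
    obtain ⟨y, hy, hyD⟩ := S.exists_Ch (s * (c : F))
    have h2 := h1.mul hyD.inv
    have e1 : B.ma s ((0 : B.K), (0 : F), c) + (0, 0, c) + (0, s * (c : F), 0) =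
        (B.nm s * c, 0, 0) := by
      unfold Bar.ma
      refine Prod.ext ?_ (Prod.ext ?_ ?_)
      · simp [B.tr_zero]
      · change (0 : F) + s * (c : F) + 0 + s * (c : F) = 0
        have := Bar.add_self (s * (c : F))
        linear_combination this
      · change c + c + 0 = 0
        rw [add_zero]; exact B.K_add_self c
    rw [e1] at h2
    have hdW := dd_mem (Bh_Wh hg) s
    have hyW := (mem_Ch.1 hy).1
    obtain ⟨r, hr, hrD, f, e, hfe⟩ := S.eq_Zh (E.Wh.mul_mem hdW (E.Wh.inv_mem hyW)) h2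
    -- `dd = r * (xc f * y) * xb e`
    have h3 : dd E g s = r * (E.xc f * y) * E.xb e := by
      have e2 : ((0 : B.K), f, e) = (0, f, 0) + (0, 0, e) := by
        refine Prod.ext ?_ (Prod.ext ?_ ?_) <;> simp
      have h4 : dd E g s = r * E.w (0, f, e) * y := by rw [← hfe]; group
      rw [h4, e2, E.w_add, E.w_c, E.w_b]
      have h5 := hyD.w_comm (0, 0, e)
      rw [E.w_b] at h5
      calc r * (E.xc f * E.xb e) * y = r * E.xc f * (E.xb e * y) := by group
        _ = _ := by rw [← h5]; group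
    have hy' : E.xc f * y ∈ E.Ch := E.Ch.mul_mem (xc_mem_Ch f) hy
    by_cases hs : s = 0
    · refine ⟨1, S.Zh.one_mem, 1, E.Ch.one_mem, ?_⟩
      rw [hs, E.xa_zero]; group
    · have h4 := xa_conj_dd (E := E) g s
      have h6 : E.xa s * dd E g s * (E.xa s)⁻¹ =
          r * (dd E (E.xc f * y) s * (E.xc f * y)) * E.w (B.ma s (0, 0, e)) := by
        rw [h3]
        calc E.xa s * (r * (E.xc f * y) * E.xb e) * (E.xa s)⁻¹
            = (E.xa s * r * (E.xa s)⁻¹) * (E.xa s * (E.xc f * y) * (E.xa s)⁻¹) *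
              (E.xa s * E.xb e * (E.xa s)⁻¹) := by group
          _ = _ := by
            rw [S.Zh_a hr, ← E.w_b, E.conj_ma]
            unfold dd; group
      rw [h6, h3] at h4
      set y' := E.xc f * y with hy'def
      have hyy := S.dd_Zh hy' s
      set d' := dd E y' s
      have hrW := hr.2
      have hy'W := (mem_Ch.1 hy').1
      have hd'W := hyy.2
      have hwW := w_mem_Wh (E := E) (B.ma s (0, 0, e))
      have hbW := w_mem_Wh (E := E) (0, 0, e)
      rw [← E.w_b] at h4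
      -- everything lives in the elementary abelian group `Ŵ`
      have h7 : d' * E.w (B.ma s (0, 0, e) + (0, 0, e)) = 1 := by
        rw [E.w_add]
        have c1 := S.Wh_comm hy'W hwW
        have c2 := S.Wh_comm hy'W hrW
        have c3 := S.Wh_comm hwW hrW
        have c4 := S.Wh_comm hd'W hrW
        have q1 := S.Wh_sq hrW
        have q2 := S.Wh_sq hy'W
        rw [← h4]
        exact (ab_aux c1 c2 c3 c4 q1 q2).symm
      have e5 : B.ma s (0, 0, e) + (0, 0, e) = (B.nm s * e, 0, 0) + (0, s * (e : F), 0) := by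
        unfold Bar.ma
        refine Prod.ext ?_ (Prod.ext ?_ ?_)
        · simp [B.tr_zero]
        · simp
        · change e + e = 0 + 0
          rw [add_zero]; exact B.K_add_self e
      rw [e5, E.w_add, E.w_z, ← mul_assoc] at h7
      have h8 : d' * E.xz (B.nm s * e) * E.w (0, s * (e : F), 0) = 1 * E.w (0, 0, 0) := by
        rw [h7, show ((0, 0, 0) : B.V) = 0 from rfl, E.w_zero, one_mul]
      obtain ⟨h9, -⟩ := S.Zh_w_uniq (S.Zh.mul_mem hyy (xz_mem_Zh _)) S.Zh.one_mem h8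
      have h10 : e = 0 := Subtype.ext ((mul_eq_zero.1 h9).resolve_left hs)
      refine ⟨r, hr, y', hy', ?_⟩
      rw [h10, E.xb_zero, mul_one] at h3
      rw [← h3]
      unfold dd; group

theorem wGrown_Z : S.wGrown.Z = S.Zh := rfl

theorem wGrown_C : S.wGrown.C = E.Ch := rfl

theorem wGrown_B : S.wGrown.Bb = S.Bh := rfl

theorem wGrown_Z_le : S.wGrown.Z ≤ S.Y := inf_le_left

end Seed

end Cfsg.Agent.StdRank2.UFour
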