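import Mathlib.Algebra.Field.Subfield.Basic
import Mathlib.Algebra.CharP.Two
import Mathlib.Data.Fintype.Card
import Mathlib.Tactic

/-!
# Field with an involution in characteristic 2, and the space of hermitian `2 × 2` matrices

`B : Bar F` is a field automorphism of order 2, `B.K` its fixed field, `B.nm`, `B.tr` norm and trace.
`B.V = K × F × K` is the space of hermitian matrices `(α, β, γ)`; `B.ma s` is the action of the
transvection with parameter `s`, `B.mh μ ν` the action of the torus.
-/

set_option autoImplicit false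

namespace Cfsg.Agent.StdRank2.UFour

/-- An involution of a field. -/
structure Bar (F : Type*) [Field F] where
  s : F ≃+* F
  invol : ∀ x, s (s x) = x
  ne : ∃ x, s x ≠ x

namespace Bar

variable {F : Type*} [Field F] (B : Bar F)

/-- The fixed field. -/
def K : Subfield F where
  carrier := {x | B.s x = x}
  mul_mem' {a b} ha hb := by
    change B.s (a * b) = a * b
    rw [map_mul, show B.s a = a from ha, show B.s b = b from hb]
  one_mem' := map_one _
  add_mem' {a b} ha hb := by
    change B.s (a + b) = a + b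
    rw [map_add, show B.s a = a from ha, show B.s b = b from hb]
  zero_mem' := map_zero _
  neg_mem' {a} ha := by
    change B.s (-a) = -a
    rw [map_neg, show B.s a = a from ha]
  inv_mem' a ha := by
    change B.s a⁻¹ = a⁻¹
    rw [map_inv₀, show B.s a = a from ha]

theorem mem_K {x : F} : x ∈ B.K ↔ B.s x = x := Iff.rfl

@[simp] theorem s_K (x : B.K) : B.s (x : F) = x := x.2

/-- The norm. -/
def nm (x : F) : B.K := ⟨x * B.s x, by rw [mem_K, map_mul, B.invol, mul_comm]⟩

/-- The trace. -/
def tr (x : F) : B.K := ⟨x + B.s x, by rw [mem_K, map_add, B.invol, add_comm]⟩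

@[simp] theorem coe_nm (x : F) : ((B.nm x : B.K) : F) = x * B.s x := rfl

@[simp] theorem coe_tr (x : F) : ((B.tr x : B.K) : F) = x + B.s x := rfl

theorem tr_add (x y : F) : B.tr (x + y) = B.tr x + B.tr y := by
  apply Subtype.ext
  change x + y + B.s (x + y) = (x + B.s x) + (y + B.s y)
  rw [map_add]; ring

theorem tr_zero : B.tr 0 = 0 := by
  apply Subtype.ext
  change (0 : F) + B.s 0 = 0
  rw [map_zero, add_zero]

theorem tr_s (x : F) : B.tr (B.s x) = B.tr x := by
  apply Subtype.ext
  change B.s x + B.s (B.s x) = x + B.s x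
  rw [B.invol, add_comm]

theorem nm_zero : B.nm 0 = 0 := by
  apply Subtype.ext
  change (0 : F) * B.s 0 = 0
  rw [zero_mul]

theorem nm_one : B.nm 1 = 1 := by
  apply Subtype.ext
  change (1 : F) * B.s 1 = 1
  rw [map_one, mul_one]

theorem nm_mul (x y : F) : B.nm (x * y) = B.nm x * B.nm y := by
  apply Subtype.ext
  change x * y * B.s (x * y) = (x * B.s x) * (y * B.s y)
  rw [map_mul]; ring

theorem nm_add (x y : F) : B.nm (x + y) = B.nm x + B.nm y + B.tr (x * B.s y) := by
  apply Subtype.ext
  change (x + y) * B.s (x + y) = x * B.s x + y * B.s y + (x * B.s y + B.s (x * B.s y))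
  rw [map_add, map_mul, B.invol]; ring

theorem nm_K (x : B.K) : B.nm (x : F) = x * x := by
  apply Subtype.ext
  change (x : F) * B.s x = x * x
  rw [s_K]

theorem nm_eq_zero {x : F} : B.nm x = 0 ↔ x = 0 := by
  constructor
  · intro h
    have h1 : x * B.s x = 0 := congrArg Subtype.val h
    rcases mul_eq_zero.1 h1 with h2 | h2
    · exact h2
    · exact (map_eq_zero_iff B.s B.s.injective).1 h2
  · rintro rfl; exact B.nm_zero

theorem tr_mul_K (x : F) (c : B.K) : B.tr (x * c) = B.tr x * c := by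
  apply Subtype.ext
  change x * c + B.s (x * c) = (x + B.s x) * c
  rw [map_mul, s_K]; ring

theorem tr_K_mul (x : F) (c : B.K) : B.tr (c * x) = c * B.tr x := by
  rw [mul_comm, tr_mul_K, mul_comm]

section char2

variable [CharP F 2]

theorem add_self (x : F) : x + x = 0 := CharTwo.add_self_eq_zero x

theorem K_add_self (x : B.K) : x + x = 0 := Subtype.ext (CharTwo.add_self_eq_zero (x : F))

theorem tr_K (c : B.K) : B.tr (c : F) = 0 := by
  apply Subtype.ext
  change (c : F) + B.s c = 0
  rw [s_K, CharTwo.add_self_eq_zero]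

/-- the trace is onto. -/
theorem tr_surj (c : B.K) : ∃ x, B.tr x = c := by
  obtain ⟨x, hx⟩ := B.ne
  have h1 : B.tr x ≠ 0 := by
    intro h
    have h2 : x + B.s x = 0 := congrArg Subtype.val h
    apply hx
    have h3 : B.s x = -x := by linear_combination h2
    rw [h3, CharTwo.neg_eq]
  refine ⟨x * ((B.tr x)⁻¹ * c : B.K), ?_⟩
  rw [tr_mul_K, ← mul_assoc, mul_inv_cancel₀ h1, one_mul]

/-- the trace form is nondegenerate. -/
theorem tr_form_surj {b : F} (hb : b ≠ 0) (c : B.K) : ∃ x, B.tr (x * B.s b) = c := by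
  obtain ⟨x, hx⟩ := B.tr_surj c
  have hb' : B.s b ≠ 0 := (map_ne_zero_iff B.s B.s.injective).2 hb
  exact ⟨x * (B.s b)⁻¹, by rw [mul_assoc, inv_mul_cancel₀ hb', mul_one, hx]⟩

/-- a norm-one element different from one. -/
theorem exists_norm_one : ∃ v : F, v ≠ 1 ∧ v ≠ 0 ∧ B.nm v = 1 := by
  obtain ⟨x, hx⟩ := B.ne
  have hx0 : x ≠ 0 := by rintro rfl; exact hx (map_zero _)
  have hs0 : B.s x ≠ 0 := (map_ne_zero_iff B.s B.s.injective).2 hx0
  refine ⟨x / B.s x, ?_, div_ne_zero hx0 hs0, ?_⟩
  · intro h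
    exact hx ((div_eq_one_iff_eq hs0).1 h).symm
  · apply Subtype.ext
    change x / B.s x * B.s (x / B.s x) = 1
    rw [map_div₀, B.invol]
    field_simp

end char2

/-- Hermitian matrices `(α, β, γ) = [[α, β], [β̄, γ]]`. -/
abbrev V : Type _ := B.K × F × B.K

/-- The action of the transvection with parameter `s`. -/
def ma (s : F) (v : B.V) : B.V :=
  (v.1 + B.tr (s * B.s v.2.1) + B.nm s * v.2.2, v.2.1 + s * v.2.2, v.2.2)

/-- The action of the torus. -/
def mh (μ : Fˣ) (ν : B.Kˣ) (v : B.V) : B.V :=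
  (B.nm μ * ν * v.1, μ * ((ν : B.K) : F) * v.2.1, ν * v.2.2)

/-- The action of the Weyl element. -/
def mn (v : B.V) : B.V := (v.2.2, B.s v.2.1, v.1)

theorem ma_add (s : F) (v w : B.V) : B.ma s (v + w) = B.ma s v + B.ma s w := by
  unfold ma
  ext <;> simp [map_add, mul_add, tr_add] <;> ring

theorem ma_zero (s : F) : B.ma s 0 = 0 := by
  unfold ma
  ext <;> simp

/-- The additive subgroup generated by the `X_a`-conjugates of `X_b`. -/
theorem gen [CharP F 2] (S : AddSubgroup B.V) (hb : ∀ c, ((0 : B.K), (0 : F), c) ∈ S)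
    (ha : ∀ s c, B.ma s (0, 0, c) ∈ S) : S = ⊤ := by
  have e1 : ∀ s c, (B.nm s * c, s * (c : F), (0 : B.K)) ∈ S := by
    intro s c
    have := S.add_mem (ha s c) (hb c)
    have e : B.ma s (0, 0, c) + ((0 : B.K), (0 : F), c) = (B.nm s * c, s * (c : F), (0 : B.K)) := by
      unfold ma
      ext
      · simp [tr_zero]
      · simp
      · exact congrArg Subtype.val (B.K_add_self c)
    rwa [e] at this
  have e2 : ∀ s : F, (B.nm s, s, (0 : B.K)) ∈ S := by
    intro s
    have := e1 s 1
    simpa using this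
  have e3 : ∀ x : B.K, (x, (0 : F), (0 : B.K)) ∈ S := by
    intro x
    obtain ⟨y, hy⟩ := B.tr_surj x
    have h1 := S.add_mem (S.add_mem (e2 y) (e2 1)) (e2 (y + 1))
    have e : (B.nm y, y, (0 : B.K)) + (B.nm 1, 1, (0 : B.K)) + (B.nm (y + 1), y + 1, (0 : B.K)) =
        (x, (0 : F), (0 : B.K)) := by
      refine Prod.ext ?_ (Prod.ext ?_ ?_)
      · change B.nm y + B.nm 1 + B.nm (y + 1) = x
        rw [nm_add, map_one, mul_one, hy]
        have h2 := B.K_add_self (B.nm y + B.nm 1)
        calc B.nm y + B.nm 1 + (B.nm y + B.nm 1 + x) = (B.nm y + B.nm 1 + (B.nm y + B.nm 1)) + x := by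
              ring
          _ = x := by rw [h2, zero_add]
      · change y + 1 + (y + 1) = 0
        exact CharTwo.add_self_eq_zero _
      · change (0 : B.K) + 0 + 0 = 0
        simp
    rwa [e] at h1
  rw [eq_top_iff]
  rintro ⟨x, y, z⟩ -
  have h1 := S.add_mem (S.add_mem (e2 y) (e3 (B.nm y + x))) (hb z)
  have e : (B.nm y, y, (0 : B.K)) + (B.nm y + x, (0 : F), (0 : B.K)) + ((0 : B.K), (0 : F), z) =
      (x, y, z) := by
    refine Prod.ext ?_ (Prod.ext ?_ ?_)
    · change B.nm y + (B.nm y + x) + 0 = x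
      rw [← add_assoc, B.K_add_self, zero_add, add_zero]
    · change y + 0 + 0 = y
      simp
    · change (0 : B.K) + 0 + z = z
      simp
  rwa [e] at h1

end Bar

end Cfsg.Agent.StdRank2.UFour
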