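import Cfsg.Agent.StdRank2.UFour.GrowSq

/-!
# Growth for `U₄(q)`: the group `X̂_a = n_b X̂_c n_b⁻¹`
-/

set_option autoImplicit false
set_option linter.unusedSectionVars false

namespace Cfsg.Agent.StdRank2.UFour

open Subgroup

variable {F : Type*} [Field F] [CharP F 2] {B : Bar F} {G : Type*} [Group G]

theorem comm1 {a c x ρ : G} (hc : c⁻¹ * x * c = ρ * x) (ha : a * x = x * a)
    (haρ : a * ρ = ρ * a) : a * c * a⁻¹ * c⁻¹ * x = x * (a * c * a⁻¹ * c⁻¹) := by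
  have h1 : a⁻¹ * (ρ * x) = (ρ * x) * a⁻¹ := by
    have : Commute a (ρ * x) := Commute.mul_right haρ ha
    exact this.inv_left.eq
  calc a * c * a⁻¹ * c⁻¹ * x = a * c * a⁻¹ * (c⁻¹ * x * c) * c⁻¹ := by group
    _ = a * c * (a⁻¹ * (ρ * x)) * c⁻¹ := by rw [hc]; group
    _ = a * c * (c⁻¹ * x * c) * a⁻¹ * c⁻¹ := by rw [h1, hc]; group
    _ = (a * x) * c * a⁻¹ * c⁻¹ := by group
    _ = _ := by rw [ha]; group

theorem comm2 {a c x ρ : G} (ha : a⁻¹ * x * a = ρ * x) (hc : c * x = x * c)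
    (hcρ : c * ρ = ρ * c) : a * c * a⁻¹ * c⁻¹ * x = x * (a * c * a⁻¹ * c⁻¹) := by
  have h1 : c * (ρ * x) = (ρ * x) * c := (Commute.mul_right hcρ hc : Commute c (ρ * x)).eq
  have h2 : c⁻¹ * x = x * c⁻¹ := (show Commute c x from hc).inv_left.eq
  calc a * c * a⁻¹ * c⁻¹ * x = a * c * a⁻¹ * (c⁻¹ * x) := by group
    _ = a * c * (a⁻¹ * x * a) * a⁻¹ * c⁻¹ := by rw [h2]; group
    _ = a * (c * (ρ * x)) * a⁻¹ * c⁻¹ := by rw [ha]; group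
    _ = a * (a⁻¹ * x * a) * c * a⁻¹ * c⁻¹ := by rw [h1, ha]; group
    _ = _ := by group

namespace Seed

open WEnv

variable {E : WEnv B G} (S : Seed E)

/-- `X̂_z X̂_c`. -/
def QQ : Subgroup G where
  carrier := {g | ∃ r ∈ S.Zh, ∃ c ∈ E.Ch, g = r * c}
  one_mem' := ⟨1, S.Zh.one_mem, 1, E.Ch.one_mem, by rw [mul_one]⟩
  mul_mem' := by
    rintro _ _ ⟨r, hr, c, hc, rfl⟩ ⟨r', hr', c', hc', rfl⟩
    refine ⟨r * r', S.Zh.mul_mem hr hr', c * c', E.Ch.mul_mem hc hc', ?_⟩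
    have := S.Wh_comm (mem_Ch.1 hc).1 hr'.2
    calc r * c * (r' * c') = r * (c * r') * c' := by group
      _ = _ := by rw [this]; group
  inv_mem' := by
    rintro _ ⟨r, hr, c, hc, rfl⟩
    refine ⟨r⁻¹, S.Zh.inv_mem hr, c⁻¹, E.Ch.inv_mem hc, ?_⟩
    have := S.Wh_comm (E.Wh.inv_mem (mem_Ch.1 hc).1) (E.Wh.inv_mem hr.2)
    rw [mul_inv_rev, this]

variable {S}

theorem QQ_Wh {q : G} (hq : q ∈ S.QQ) : q ∈ E.Wh := by
  obtain ⟨r, hr, c, hc, rfl⟩ := hq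
  exact E.Wh.mul_mem hr.2 (mem_Ch.1 hc).1

theorem Zh_le_QQ {q : G} (hq : q ∈ S.Zh) : q ∈ S.QQ := ⟨q, hq, 1, E.Ch.one_mem, by rw [mul_one]⟩

theorem Ch_le_QQ {q : G} (hq : q ∈ E.Ch) : q ∈ S.QQ := ⟨1, S.Zh.one_mem, q, hq, by rw [one_mul]⟩

theorem QQ.D {q : G} (hq : q ∈ S.QQ) : ∃ z x, E.D q (z, x, 0) := by
  obtain ⟨r, hr, c, hc, rfl⟩ := hq
  obtain ⟨z, hz⟩ := Zh.D hr
  obtain ⟨x, hx⟩ := Ch.D hc
  refine ⟨z, x, ?_⟩
  have := hz.mul hx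
  simpa using this

theorem QQ.cent {q : G} (hq : q ∈ S.QQ) (h : q * E.t = E.t * q) : ∃ z x, q = E.xz z * E.xc x := by
  obtain ⟨r, hr, c, hc, rfl⟩ := hq
  obtain ⟨z, hz⟩ := Zh.D hr
  obtain ⟨x, hx⟩ := Ch.D hc
  have h1 := (hz.mul hx).of_comm h
  have e1 : z = 0 := by
    have := congrArg Prod.fst h1
    simpa using this
  have e2 : x = 0 := by
    have := congrArg (fun x => x.2.1) h1
    simpa using this
  subst e1; subst e2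
  obtain ⟨u, rfl⟩ := Zh.mem_W hr hz
  obtain ⟨v, rfl⟩ := Ch.mem_W hc hx
  exact ⟨u, v, rfl⟩

/-- `q t` involution, `q ∈ QQ`. -/
theorem QQ.of_sq {q : G} (hq : q ∈ S.QQ) (h : q * E.t * (q * E.t) = 1) :
    ∃ z x, q = E.xz z * E.xc x := by
  apply QQ.cent hq
  have h1 := S.Wh_sq (QQ_Wh hq)
  have h2 : q * (q * E.t * (q * E.t)) = q := by rw [h, mul_one]
  have h3 : E.t * q * E.t = q := by
    calc E.t * q * E.t = (q * q) * E.t * q * E.t := by rw [h1, one_mul]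
      _ = q * (q * E.t * (q * E.t)) := by group
      _ = q := h2
  calc q * E.t = (E.t * q * E.t) * E.t := by rw [h3]
    _ = E.t * q * (E.t * E.t) := by group
    _ = _ := by rw [E.t_sq, mul_one]

variable (S) in
theorem exists_QQ (z : B.K) (x : F) : ∃ q ∈ S.QQ, E.D q (z, x, 0) := by
  obtain ⟨r, hr, hrD⟩ := S.exists_Zh z
  obtain ⟨c, hc, hcD⟩ := S.exists_Ch x
  refine ⟨r * c, ⟨r, hr, c, hc, rfl⟩, ?_⟩
  have := hrD.mul hcD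
  simpa using this

theorem w_zc (z : B.K) (x : F) : E.w (z, x, 0) = E.xz z * E.xc x := by
  simp [WEnv.w, E.xb_zero]

/-- if `d t d⁻¹ = q t` with `q ∈ QQ`, then `d = q' d'` with `q' ∈ QQ` and `d' ∈ C(t)`. -/
theorem QQ.split {q d : G} (hq : q ∈ S.QQ) (h : d * E.t * d⁻¹ = q * E.t) :
    ∃ q' ∈ S.QQ, (q'⁻¹ * d) * E.t = E.t * (q'⁻¹ * d) := by
  have h1 : q * E.t * (q * E.t) = 1 := by
    rw [← h]
    calc d * E.t * d⁻¹ * (d * E.t * d⁻¹) = d * (E.t * E.t) * d⁻¹ := by group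
      _ = 1 := by rw [E.t_sq]; group
  obtain ⟨z, x, hzx⟩ := QQ.of_sq hq h1
  obtain ⟨q', hq', hD⟩ := S.exists_QQ z x
  refine ⟨q', hq', ?_⟩
  have h2 := hD.inv.2
  have h3 := hD.inv.w_comm (z, x, 0)
  rw [← conj_eq_iff]
  calc q'⁻¹ * d * E.t * (q'⁻¹ * d)⁻¹ = q'⁻¹ * (d * E.t * d⁻¹) * q' := by group
    _ = (q'⁻¹ * E.w (z, x, 0)) * E.t * q' := by rw [h, hzx, w_zc]; group
    _ = E.w (z, x, 0) * (q'⁻¹ * E.t * q'⁻¹⁻¹) := by rw [h3]; group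
    _ = E.t := by rw [h2, ← mul_assoc, E.w_sq, one_mul]

theorem xc_QQ (x : F) {q : G} (hq : q ∈ S.QQ) : E.xc x * q = q * E.xc x := by
  have h := S.Wh_comm (w_mem_Wh (E := E) (0, x, 0)) (QQ_Wh hq)
  rwa [E.w_c] at h

theorem xb_QQ (x : B.K) {q : G} (hq : q ∈ S.QQ) : E.xb x * q = q * E.xb x := by
  have h := S.Wh_comm (w_mem_Wh (E := E) (0, 0, x)) (QQ_Wh hq)
  rwa [E.w_b] at h

theorem xa_inv (s : F) : (E.xa s)⁻¹ = E.xa s := inv_of_sq (E.xa_sq s)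

theorem xa_Ch (s : F) {c : G} (hc : c ∈ E.Ch) : ∃ r ∈ S.Zh, E.xa s * c * (E.xa s)⁻¹ = r * c :=
  ⟨dd E c s, S.dd_Zh hc s, by unfold dd; group⟩

theorem xa_QQ (s : F) {q : G} (hq : q ∈ S.QQ) : E.xa s * q * (E.xa s)⁻¹ ∈ S.QQ := by
  obtain ⟨r, hr, c, hc, rfl⟩ := hq
  obtain ⟨r', hr', h⟩ := xa_Ch (S := S) s hc
  refine ⟨r * r', S.Zh.mul_mem hr hr', c, hc, ?_⟩
  calc E.xa s * (r * c) * (E.xa s)⁻¹ = (E.xa s * r * (E.xa s)⁻¹) * (E.xa s * c * (E.xa s)⁻¹) := by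
        group
    _ = _ := by rw [S.Zh_a hr, h]; group

/-- conjugation of `xa s` by an element of `X̂_c`. -/
theorem Ch_xa (s : F) {c : G} (hc : c ∈ E.Ch) : ∃ r ∈ S.Zh, c * E.xa s * c⁻¹ = r * E.xa s := by
  obtain ⟨r, hr, h⟩ := xa_Ch (S := S) s hc
  refine ⟨r⁻¹, S.Zh.inv_mem hr, ?_⟩
  have h1 : r⁻¹ * (E.xa s * c) = c * E.xa s := by
    have : E.xa s * c = r * c * E.xa s := by rw [← h]; group
    rw [this]; group
  calc c * E.xa s * c⁻¹ = r⁻¹ * (E.xa s * c) * c⁻¹ := by rw [h1]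
    _ = _ := by group

theorem QQ_xa (s : F) {q : G} (hq : q ∈ S.QQ) : ∃ r ∈ S.Zh, q * E.xa s * q⁻¹ = r * E.xa s := by
  obtain ⟨r, hr, c, hc, rfl⟩ := hq
  obtain ⟨r', hr', h⟩ := Ch_xa (S := S) s hc
  refine ⟨r', hr', ?_⟩
  have h1 := S.Wh_comm hr.2 hr'.2
  have h2 := S.a_comm r hr.1 s
  calc r * c * E.xa s * (r * c)⁻¹ = r * (c * E.xa s * c⁻¹) * r⁻¹ := by group
    _ = (r * r') * E.xa s * r⁻¹ := by rw [h]; group
    _ = r' * (r * E.xa s) * r⁻¹ := by rw [h1]; group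
    _ = _ := by rw [h2]; group

theorem Bh_xa (s : F) {g : G} (hg : g ∈ S.Bh) : ∃ q ∈ S.QQ, g * E.xa s * g⁻¹ = q * E.xa s := by
  obtain ⟨r, hr, c, hc, h⟩ := S.wGrown.a_B s g hg
  refine ⟨(r * c)⁻¹, S.QQ.inv_mem ⟨r, hr, c, hc, rfl⟩, ?_⟩
  have h1 : (r * c)⁻¹ * (E.xa s * g) = g * E.xa s := by
    have : E.xa s * g = r * c * g * E.xa s := by rw [← h]; group
    rw [this]; group
  calc g * E.xa s * g⁻¹ = (r * c)⁻¹ * (E.xa s * g) * g⁻¹ := by rw [h1]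
    _ = _ := by group

end Seed

/-! ### `U₄` -/

namespace Env

open WEnv Seed

variable {E : Env B G} (S : Seed E.toWEnv)

/-- `X̂_a`. -/
def Ah (E : Env B G) : Subgroup G := E.Ch.map (MulAut.conj E.nb).toMonoidHom

theorem mem_Ah {g : G} : g ∈ E.Ah ↔ ∃ c ∈ E.Ch, E.nb * c * E.nb⁻¹ = g := by
  unfold Ah
  rw [mem_map]
  rfl

theorem nb_inv : E.nb⁻¹ = E.nb := inv_of_sq E.nb_sq

theorem nb_conj_conj (g : G) : E.nb * (E.nb * g * E.nb⁻¹) * E.nb⁻¹ = g := by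
  rw [nb_inv]
  calc E.nb * (E.nb * g * E.nb) * E.nb = (E.nb * E.nb) * g * (E.nb * E.nb) := by group
    _ = g := by rw [E.nb_sq, one_mul, mul_one]

theorem nb_Ah {g : G} (hg : g ∈ E.Ah) : E.nb * g * E.nb⁻¹ ∈ E.Ch := by
  obtain ⟨r, hr, rfl⟩ := mem_Ah.1 hg
  rwa [nb_conj_conj]

include S in
theorem Ah_sq {a : G} (ha : a ∈ E.Ah) : a * a = 1 := by
  obtain ⟨c, hc, rfl⟩ := mem_Ah.1 ha
  calc E.nb * c * E.nb⁻¹ * (E.nb * c * E.nb⁻¹) = E.nb * (c * c) * E.nb⁻¹ := by group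
    _ = 1 := by rw [S.Wh_sq (mem_Ch.1 hc).1]; group

theorem Ah_t {a : G} (ha : a ∈ E.Ah) : ∃ s, a * E.t * a⁻¹ = E.xa s * E.t := by
  obtain ⟨c, hc, rfl⟩ := mem_Ah.1 ha
  obtain ⟨x, hx⟩ := Ch.D hc
  refine ⟨x, ?_⟩
  have ht : E.nb⁻¹ * E.t * E.nb = E.t := by
    rw [mul_assoc, E.t_nb, ← mul_assoc, inv_mul_cancel, one_mul]
  have ht' : E.nb * E.t * E.nb⁻¹ = E.t := by
    rw [← E.t_nb, mul_inv_cancel_right]
  calc E.nb * c * E.nb⁻¹ * E.t * (E.nb * c * E.nb⁻¹)⁻¹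
      = E.nb * (c * (E.nb⁻¹ * E.t * E.nb) * c⁻¹) * E.nb⁻¹ := by group
    _ = (E.nb * E.xc x * E.nb⁻¹) * (E.nb * E.t * E.nb⁻¹) := by
      rw [ht, hx.2, E.w_c]; group
    _ = _ := by rw [E.nb_c, ht']

include S in
theorem exists_Ah (s : F) : ∃ a ∈ E.Ah, a * E.t * a⁻¹ = E.xa s * E.t := by
  obtain ⟨c, hc, hD⟩ := S.exists_Ch s
  refine ⟨_, mem_Ah.2 ⟨c, hc, rfl⟩, ?_⟩
  have ht : E.nb⁻¹ * E.t * E.nb = E.t := by
    rw [mul_assoc, E.t_nb, ← mul_assoc, inv_mul_cancel, one_mul]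
  have ht' : E.nb * E.t * E.nb⁻¹ = E.t := by
    rw [← E.t_nb, mul_inv_cancel_right]
  calc E.nb * c * E.nb⁻¹ * E.t * (E.nb * c * E.nb⁻¹)⁻¹
      = E.nb * (c * (E.nb⁻¹ * E.t * E.nb) * c⁻¹) * E.nb⁻¹ := by group
    _ = (E.nb * E.xc s * E.nb⁻¹) * (E.nb * E.t * E.nb⁻¹) := by
      rw [ht, hD.2, E.w_c]; group
    _ = _ := by rw [E.nb_c, ht']

theorem xa_mem_Ah (s : F) : E.xa s ∈ E.Ah := mem_Ah.2 ⟨_, xc_mem_Ch s, E.nb_c s⟩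

/-- `X̂_a` commutes with `X_a`. -/
theorem Ah_xa {a : G} (ha : a ∈ E.Ah) (s : F) : a * E.xa s = E.xa s * a := by
  obtain ⟨c, hc, rfl⟩ := mem_Ah.1 ha
  obtain ⟨x, hx⟩ := Ch.D hc
  have h1 := hx.w_comm (0, s, 0)
  rw [E.w_c] at h1
  rw [← E.nb_c s]
  calc E.nb * c * E.nb⁻¹ * (E.nb * E.xc s * E.nb⁻¹) = E.nb * (c * E.xc s) * E.nb⁻¹ := by group
    _ = _ := by rw [h1]; group

theorem Ah_xz {a : G} (ha : a ∈ E.Ah) (s : B.K) : a * E.xz s = E.xz s * a := by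
  obtain ⟨c, hc, rfl⟩ := mem_Ah.1 ha
  obtain ⟨x, hx⟩ := Ch.D hc
  have h1 := hx.w_comm (s, 0, 0)
  rw [E.w_z] at h1
  rw [← E.nb_z s]
  calc E.nb * c * E.nb⁻¹ * (E.nb * E.xz s * E.nb⁻¹) = E.nb * (c * E.xz s) * E.nb⁻¹ := by group
    _ = _ := by rw [h1]; group

variable {S}

section nb

variable (hnb : ∀ y ∈ S.Y, E.nb * y = y * E.nb)

include hnb

theorem Ah_Zh {a : G} (ha : a ∈ E.Ah) {r : G} (hr : r ∈ S.Zh) : a * r = r * a := by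
  obtain ⟨c, hc, rfl⟩ := mem_Ah.1 ha
  have h1 := S.Wh_comm (mem_Ch.1 hc).1 hr.2
  have h2 := hnb r hr.1
  have h3 : E.nb⁻¹ * r = r * E.nb⁻¹ := (show Commute E.nb r from h2).inv_left.eq
  calc E.nb * c * E.nb⁻¹ * r = E.nb * c * (E.nb⁻¹ * r) := by group
    _ = E.nb * (c * r) * E.nb⁻¹ := by rw [h3]; group
    _ = (E.nb * r) * c * E.nb⁻¹ := by rw [h1]; group
    _ = _ := by rw [h2]; group

theorem Ah_xc {a : G} (ha : a ∈ E.Ah) (x : F) : ∃ r ∈ S.Zh, a * E.xc x * a⁻¹ = r * E.xc x := by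
  obtain ⟨c, hc, rfl⟩ := mem_Ah.1 ha
  obtain ⟨r, hr, h⟩ := Ch_xa (S := S) x hc
  refine ⟨r, hr, ?_⟩
  rw [← E.nb_a x]
  have h2 := hnb r hr.1
  calc E.nb * c * E.nb⁻¹ * (E.nb * E.xa x * E.nb⁻¹) * (E.nb * c * E.nb⁻¹)⁻¹
      = E.nb * (c * E.xa x * c⁻¹) * E.nb⁻¹ := by group
    _ = (E.nb * r) * E.xa x * E.nb⁻¹ := by rw [h]; group
    _ = _ := by rw [h2]; group

end nb

end Env

end Cfsg.Agent.StdRank2.UFour
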