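import Cfsg.Agent.StdRank2.UFour.GrowA

/-!
# Growth for `U₄(q)`: `[X̂_a, X̂_c] ≤ X̂_z` and `[X̂_a, X̂_b] ≤ X̂_z X̂_c`
-/

set_option autoImplicit false
set_option linter.unusedSectionVars false

namespace Cfsg.Agent.StdRank2.UFour

open Subgroup

variable {F : Type*} [Field F] [CharP F 2] {B : Bar F} {G : Type*} [Group G]

theorem conj_mul' (g x y : G) : g * (x * y) * g⁻¹ = (g * x * g⁻¹) * (g * y * g⁻¹) := by group

theorem conj_conj' (g k x : G) : g * (k * x * k⁻¹) * g⁻¹ = (g * k) * x * (g * k)⁻¹ := by group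

namespace Env

open WEnv Seed

variable {E : Env B G} {S : Seed E.toWEnv} (hnb : ∀ y ∈ S.Y, E.nb * y = y * E.nb)

include S in
theorem Ah_inv {a : G} (ha : a ∈ E.Ah) : a⁻¹ = a := inv_of_sq (Ah_sq S ha)

include S in
theorem Ch_inv {a : G} (ha : a ∈ E.Ch) : a⁻¹ = a := inv_of_sq (S.Wh_sq (mem_Ch.1 ha).1)

theorem xc_a_c (x s : F) : E.xc x * E.xa s * E.xc x = E.xz (B.tr (s * B.s x)) * E.xa s := by
  have h := E.a_c s x
  have h1 : E.xa s * E.xc x = E.xz (B.tr (s * B.s x)) * E.xc x * E.xa s := by rw [← h]; group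
  have h2 := E.z_c (B.tr (s * B.s x)) x
  have h3 := E.z_a (B.tr (s * B.s x)) s
  have h4 := E.xc_sq x
  calc E.xc x * E.xa s * E.xc x = E.xc x * (E.xa s * E.xc x) := by group
    _ = (E.xc x * E.xz (B.tr (s * B.s x))) * E.xc x * E.xa s := by rw [h1]; group
    _ = E.xz (B.tr (s * B.s x)) * (E.xc x * E.xc x) * E.xa s := by rw [← h2]; group
    _ = _ := by rw [h4, mul_one]

theorem xb_a_b (x : B.K) (s : F) :
    E.xb x * E.xa s * E.xb x = E.xz (B.nm s * x) * E.xc (s * x) * E.xa s := by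
  have h := E.a_b s x
  have h1 : E.xa s * E.xb x = E.xz (B.nm s * x) * E.xc (s * x) * E.xb x * E.xa s := by
    rw [← h]; group
  have h2 := E.z_b (B.nm s * x) x
  have h3 := E.c_b (s * x) x
  have h4 := E.xb_sq x
  calc E.xb x * E.xa s * E.xb x = E.xb x * (E.xa s * E.xb x) := by group
    _ = (E.xb x * E.xz (B.nm s * x)) * E.xc (s * x) * E.xb x * E.xa s := by rw [h1]; group
    _ = E.xz (B.nm s * x) * (E.xb x * E.xc (s * x)) * E.xb x * E.xa s := by rw [← h2]; group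
    _ = E.xz (B.nm s * x) * E.xc (s * x) * (E.xb x * E.xb x) * E.xa s := by rw [← h3]; group
    _ = _ := by rw [h4, mul_one]

/-- elements `xz z * xc y * xa s` commuting with `Q₁`. -/
theorem center_Q1 {z : B.K} {y s : F} (hc : ∀ x, E.xz z * E.xc y * E.xa s * E.xc x =
    E.xc x * (E.xz z * E.xc y * E.xa s)) : s = 0 := by
  by_contra hs
  obtain ⟨x, hx⟩ := B.tr_form_surj (b := B.s s) ((map_ne_zero_iff B.s B.s.injective).2 hs) 1
  rw [B.invol] at hx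
  have h1 := hc (B.s x)
  have h2 := E.xc_a_c (B.s x) s
  rw [B.invol, mul_comm, hx] at h2
  have h3 := E.z_c z (B.s x)
  have h5 := E.xc_sq (B.s x)
  have h6 : E.xc (B.s x) * E.xc y = E.xc y * E.xc (B.s x) := by
    rw [← E.xc_add, ← E.xc_add, add_comm]
  have h7 : E.xc (B.s x) * (E.xz z * E.xc y * E.xa s) * E.xc (B.s x) =
      E.xz 1 * (E.xz z * E.xc y * E.xa s) := by
    have h8 : E.xz z * E.xc y * E.xz 1 = E.xz 1 * (E.xz z * E.xc y) := by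
      rw [mul_assoc, ← E.z_c, ← mul_assoc, ← mul_assoc, ← E.xz_add, ← E.xz_add, add_comm]
    calc E.xc (B.s x) * (E.xz z * E.xc y * E.xa s) * E.xc (B.s x)
        = (E.xc (B.s x) * E.xz z) * E.xc y * E.xa s * E.xc (B.s x) := by group
      _ = E.xz z * (E.xc (B.s x) * E.xc y) * E.xa s * E.xc (B.s x) := by rw [← h3]; group
      _ = E.xz z * E.xc y * (E.xc (B.s x) * E.xa s * E.xc (B.s x)) := by rw [h6]; group
      _ = (E.xz z * E.xc y * E.xz 1) * E.xa s := by rw [h2]; group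
      _ = _ := by rw [h8]; group
  rw [← h1] at h7
  have h8 : E.xz z * E.xc y * E.xa s * E.xc (B.s x) * E.xc (B.s x) =
      E.xz z * E.xc y * E.xa s := by
    rw [mul_assoc _ (E.xc (B.s x)), h5, mul_one]
  rw [h8] at h7
  have h9 := (right_eq_mul.1 h7)
  rw [← E.w_z] at h9
  have h10 := congrArg Prod.fst (E.w_eq_one h9)
  exact one_ne_zero h10

theorem xa_not_Wh {s : F} (hs : s ≠ 0) {ε : G} (hε : ε = 1 ∨ ε = E.t) {v : G} (hv : v ∈ E.Wh)
    (hcv : ∀ x, v * E.xc x = E.xc x * v) (h : E.xa s = v * ε) : False := by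
  apply hs
  apply center_Q1 (E := E) (z := 0) (y := 0)
  intro x
  rw [E.xz_zero, E.xc_zero, one_mul, one_mul, h]
  rcases hε with rfl | rfl
  · rw [mul_one, hcv]
  · rw [mul_assoc, E.t_c, ← mul_assoc, hcv, mul_assoc]

section five

include hnb

/-! #### (5a) -/

/-- `[a, c] t [a, c]⁻¹ = ρ t` with `ρ ∈ X̂_z`. -/
theorem five_a_t {a c : G} (ha : a ∈ E.Ah) (hc : c ∈ E.Ch) :
    ∃ r ∈ S.Zh, (a * c * a⁻¹ * c⁻¹) * E.t * (a * c * a⁻¹ * c⁻¹)⁻¹ = r * E.t := by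
  obtain ⟨x, hx⟩ := Ch.D hc
  obtain ⟨s, hs⟩ := Ah_t ha
  have hci := Ch_inv (S := S) hc
  have hai := Ah_inv (S := S) ha
  obtain ⟨r1, hr1, h1⟩ := Ah_xc hnb ha x
  obtain ⟨r2, hr2, h2⟩ := Ch_xa (S := S) s hc
  have h3 := hx.2
  rw [E.w_c] at h3
  have h4 := E.xc_a_c x s
  have h5 := Ah_xa ha s
  have hr : r1 * r2 * E.xz (B.tr (s * B.s x)) ∈ S.Zh :=
    S.Zh.mul_mem (S.Zh.mul_mem hr1 hr2) (xz_mem_Zh _)
  refine ⟨_, hr, ?_⟩
  have h6 := Ah_Zh hnb ha hr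
  -- `a⁻¹ (xc x t) a`
  have k1 : a⁻¹ * (c⁻¹ * E.t * c) * a = r1 * E.xc x * (E.xa s * E.t) := by
    rw [hci, hai]
    rw [hci] at h3
    rw [hai] at hs h1
    calc a * (c * E.t * c) * a = a * (E.xc x * E.t) * a := by rw [h3]
      _ = (a * E.xc x * a) * (a * E.t * a) := by
        have := Ah_sq S ha
        calc a * (E.xc x * E.t) * a = a * E.xc x * 1 * E.t * a := by group
          _ = a * E.xc x * (a * a) * E.t * a := by rw [this]
          _ = _ := by group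
      _ = _ := by rw [hs, h1]
  have k0 : c * E.xc x * c⁻¹ = E.xc x := by
    have := hx.w_comm (0, x, 0)
    rw [E.w_c] at this
    rw [this, mul_inv_cancel_right]
  have k00 : c * r1 * c⁻¹ = r1 := by
    rw [S.Wh_comm (mem_Ch.1 hc).1 hr1.2, mul_inv_cancel_right]
  have k2 : c * (r1 * E.xc x * (E.xa s * E.t)) * c⁻¹ =
      (r1 * r2 * E.xz (B.tr (s * B.s x))) * (E.xa s * E.t) := by
    rw [conj_mul', conj_mul', conj_mul', k00, k0, h2, h3]
    have : E.xc x * r2 = r2 * E.xc x := xc_QQ x (Zh_le_QQ hr2)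
    calc r1 * E.xc x * (r2 * E.xa s * (E.xc x * E.t))
        = r1 * (E.xc x * r2) * E.xa s * E.xc x * E.t := by group
      _ = r1 * r2 * (E.xc x * E.xa s * E.xc x) * E.t := by rw [this]; group
      _ = _ := by rw [h4]; group
  calc (a * c * a⁻¹ * c⁻¹) * E.t * (a * c * a⁻¹ * c⁻¹)⁻¹
      = a * (c * (a⁻¹ * (c⁻¹ * E.t * c) * a) * c⁻¹) * a⁻¹ := by group
    _ = a * ((r1 * r2 * E.xz (B.tr (s * B.s x))) * (E.xa s * E.t)) * a⁻¹ := by rw [k1, k2]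
    _ = (a * (r1 * r2 * E.xz (B.tr (s * B.s x))) * a⁻¹) * (a * E.xa s * a⁻¹) *
        (a * E.t * a⁻¹) := by group
    _ = r1 * r2 * E.xz (B.tr (s * B.s x)) * (E.xa s * E.xa s) * E.t := by
      rw [h6, h5, hs]; group
    _ = _ := by rw [E.xa_sq, mul_one]

theorem five_a_xa {a c : G} (ha : a ∈ E.Ah) (hc : c ∈ E.Ch) (s : F) :
    (a * c * a⁻¹ * c⁻¹) * E.xa s = E.xa s * (a * c * a⁻¹ * c⁻¹) := by
  obtain ⟨r, hr, h⟩ := Ch_xa (S := S) s (E.Ch.inv_mem hc)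
  rw [inv_inv] at h
  exact comm1 h (Ah_xa ha s) (Ah_Zh hnb ha hr)

theorem five_a_xc {a c : G} (ha : a ∈ E.Ah) (hc : c ∈ E.Ch) (x : F) :
    (a * c * a⁻¹ * c⁻¹) * E.xc x = E.xc x * (a * c * a⁻¹ * c⁻¹) := by
  obtain ⟨r, hr, h⟩ := Ah_xc hnb (E.Ah.inv_mem ha) x
  rw [inv_inv] at h
  refine comm2 h ?_ (S.Wh_comm (mem_Ch.1 hc).1 hr.2)
  obtain ⟨y, hy⟩ := Ch.D hc
  have := hy.w_comm (0, x, 0)
  rwa [E.w_c] at this

theorem five_a_xz {a c : G} (ha : a ∈ E.Ah) (hc : c ∈ E.Ch) (x : B.K) :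
    (a * c * a⁻¹ * c⁻¹) * E.xz x = E.xz x * (a * c * a⁻¹ * c⁻¹) := by
  refine comm2 (ρ := 1) ?_ ?_ (by rw [mul_one, one_mul])
  · rw [Ah_inv (S := S) ha, Ah_xz ha, mul_assoc, Ah_sq S ha, mul_one, one_mul]
  · obtain ⟨y, hy⟩ := Ch.D hc
    have := hy.w_comm (x, 0, 0)
    rwa [E.w_z] at this

theorem five_a' {a c : G} (ha : a ∈ E.Ah) (hc : c ∈ E.Ch) :
    ∃ r ∈ S.Zh, a * c * a⁻¹ * c⁻¹ = r ∨ a * c * a⁻¹ * c⁻¹ = r * E.t := by
  obtain ⟨r, hr, h⟩ := five_a_t hnb ha hc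
  -- make the correction inside `Z`
  have hsq : r * E.t * (r * E.t) = 1 := by
    rw [← h]
    set d := a * c * a⁻¹ * c⁻¹
    calc d * E.t * d⁻¹ * (d * E.t * d⁻¹) = d * (E.t * E.t) * d⁻¹ := by group
      _ = 1 := by rw [E.t_sq]; group
  obtain ⟨z, x, hzx⟩ := QQ.of_sq (Zh_le_QQ hr) hsq
  have hrz : ∃ z, r = E.xz z := by
    apply Zh.mem_W hr |> fun f => f ?_
    rw [hzx, ← w_zc]
    exact D.w _
  obtain ⟨z, hz⟩ := hrz
  obtain ⟨q, hq, hqD⟩ := S.exists_Zh z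
  set d := a * c * a⁻¹ * c⁻¹ with hd
  have hq1 := hqD.inv.2
  have hq2 := hqD.inv.w_comm (z, 0, 0)
  have hdt : (q⁻¹ * d) * E.t = E.t * (q⁻¹ * d) := by
    rw [← conj_eq_iff]
    calc q⁻¹ * d * E.t * (q⁻¹ * d)⁻¹ = q⁻¹ * (d * E.t * d⁻¹) * q := by group
      _ = (q⁻¹ * E.w (z, 0, 0)) * E.t * q := by rw [h, hz, E.w_z]; group
      _ = E.w (z, 0, 0) * (q⁻¹ * E.t * q⁻¹⁻¹) := by rw [hq2]; group
      _ = E.t := by rw [hq1, ← mul_assoc, E.w_sq, one_mul]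
  have hqi : q⁻¹ ∈ S.Zh := S.Zh.inv_mem hq
  have c1 : ∀ x, (q⁻¹ * d) * E.xz x = E.xz x * (q⁻¹ * d) := by
    intro x
    have e1 := five_a_xz hnb ha hc x
    have e2 := hqD.inv.w_comm (x, 0, 0)
    rw [E.w_z] at e2
    rw [mul_assoc, e1, ← mul_assoc, e2, mul_assoc]
  have c2 : ∀ x, (q⁻¹ * d) * E.xa x = E.xa x * (q⁻¹ * d) := by
    intro x
    have e1 := five_a_xa hnb ha hc x
    have e2 := S.a_comm q⁻¹ hqi.1 x
    rw [mul_assoc, e1, ← mul_assoc, e2, mul_assoc]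
  have c3 : ∀ x, (q⁻¹ * d) * E.xc x = E.xc x * (q⁻¹ * d) := by
    intro x
    have e1 := five_a_xc hnb ha hc x
    have e2 := hqD.inv.w_comm (0, x, 0)
    rw [E.w_c] at e2
    rw [mul_assoc, e1, ← mul_assoc, e2, mul_assoc]
  obtain ⟨z', y, s, h1⟩ := E.cent_Q (q⁻¹ * d) hdt c1
    (fun x => ⟨0, by rw [E.xz_zero, one_mul, c2, mul_inv_cancel_right]⟩)
    (fun x => ⟨0, by rw [E.xz_zero, one_mul, c3, mul_inv_cancel_right]⟩)
  -- the element `xz z' * xc y * xa s` centralises `Q₁`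
  have h2 : ∀ x, E.xz z' * E.xc y * E.xa s * E.xc x = E.xc x * (E.xz z' * E.xc y * E.xa s) := by
    intro x
    rcases h1 with h1 | h1
    · rw [← h1]; exact c3 x
    · have e : E.xz z' * E.xc y * E.xa s = E.t * (q⁻¹ * d) := by
        rw [h1, ← mul_assoc, E.t_sq, one_mul]
      rw [e, mul_assoc, c3, ← mul_assoc, E.t_c, mul_assoc]
  have hs := center_Q1 h2
  have h3 : ∀ x, E.xz z' * E.xc y * E.xa s * E.xa x = E.xa x * (E.xz z' * E.xc y * E.xa s) := by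
    intro x
    rcases h1 with h1 | h1
    · rw [← h1]; exact c2 x
    · have e : E.xz z' * E.xc y * E.xa s = E.t * (q⁻¹ * d) := by
        rw [h1, ← mul_assoc, E.t_sq, one_mul]
      rw [e, mul_assoc, c2, ← mul_assoc, E.t_a, mul_assoc]
  have hy : y = 0 := by
    by_contra hy
    obtain ⟨x, hx⟩ := B.tr_form_surj hy 1
    have h4 := h3 x
    rw [hs, E.xa_zero, mul_one] at h4
    have h5 := E.a_c x y
    rw [hx] at h5
    have h6 : E.xa x * (E.xz z' * E.xc y) * (E.xa x)⁻¹ = E.xz 1 * (E.xz z' * E.xc y) := by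
      calc E.xa x * (E.xz z' * E.xc y) * (E.xa x)⁻¹
          = (E.xa x * E.xz z' * (E.xa x)⁻¹) * (E.xa x * E.xc y * (E.xa x)⁻¹) := by group
        _ = (E.xz z' * E.xz 1) * E.xc y := by
          rw [h5, ← E.z_a, mul_inv_cancel_right, mul_assoc]
        _ = _ := by rw [← E.xz_add, add_comm, E.xz_add, mul_assoc]
    rw [← h4, mul_inv_cancel_right] at h6
    have h9 := (right_eq_mul.1 h6)
    rw [← E.w_z] at h9
    have h10 := congrArg Prod.fst (E.w_eq_one h9)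
    exact one_ne_zero h10
  rw [hs, hy, E.xa_zero, E.xc_zero, mul_one, mul_one] at h1
  refine ⟨q * E.xz z', S.Zh.mul_mem hq (xz_mem_Zh _), ?_⟩
  rcases h1 with h1 | h1
  · left
    rw [← h1]; group
  · right
    rw [mul_assoc, ← E.t_z, ← h1]; group

/-- **(5a)** `[X̂_a, X̂_c] ≤ X̂_z`. -/
theorem five_a {a c : G} (ha : a ∈ E.Ah) (hc : c ∈ E.Ch) : a * c * a⁻¹ * c⁻¹ ∈ S.Zh := by
  obtain ⟨r, hr, h | h⟩ := five_a' hnb ha hc
  · rw [h]; exact hr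
  · exfalso
    obtain ⟨a', ha', hs⟩ := exists_Ah S (1 : F)
    obtain ⟨r', hr', h'⟩ := five_a' hnb (E.Ah.mul_mem ha' ha) hc
    obtain ⟨r'', hr'', h''⟩ := five_a' hnb ha' hc
    have h1 : a' * a * c * (a' * a)⁻¹ * c⁻¹ = a' * (r * E.t) * a'⁻¹ * (a' * c * a'⁻¹ * c⁻¹) := by
      rw [← h]; group
    have h2 : a' * (r * E.t) * a'⁻¹ = r * (E.xa 1 * E.t) := by
      have := Ah_Zh hnb ha' hr
      calc a' * (r * E.t) * a'⁻¹ = (a' * r) * E.t * a'⁻¹ := by group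
        _ = r * (a' * E.t * a'⁻¹) := by rw [this]; group
        _ = _ := by rw [hs]
    rw [h2] at h1
    -- all the elements lie in `Zh ∪ Zh t`
    have hmem : E.xa 1 ∈ S.Y := by
      have e : E.xa 1 = r⁻¹ * (a' * a * c * (a' * a)⁻¹ * c⁻¹) * (a' * c * a'⁻¹ * c⁻¹)⁻¹ *
          E.t⁻¹ := by
        rw [h1]; group
      rw [e]
      apply S.Y.mul_mem _ (S.Y.inv_mem S.t_mem)
      apply S.Y.mul_mem
      · apply S.Y.mul_mem (S.Y.inv_mem hr.1)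
        rcases h' with h' | h'
        · rw [h']; exact hr'.1
        · rw [h']; exact S.Y.mul_mem hr'.1 S.t_mem
      · apply S.Y.inv_mem
        rcases h'' with h'' | h''
        · rw [h'']; exact hr''.1
        · rw [h'']; exact S.Y.mul_mem hr''.1 S.t_mem
    obtain ⟨x, hx⟩ := S.cent _ hmem (E.t_a 1).symm
    rcases hx with hx | hx
    · refine xa_not_Wh (E := E) one_ne_zero (Or.inl rfl) (w_mem_Wh (x, 0, 0)) (fun y => ?_)
        (by rw [mul_one, E.w_z]; exact hx)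
      rw [E.w_z, E.z_c]
    · refine xa_not_Wh (E := E) one_ne_zero (Or.inr rfl) (w_mem_Wh (x, 0, 0)) (fun y => ?_)
        (by rw [E.w_z, ← E.t_z]; exact hx)
      rw [E.w_z, E.z_c]

theorem Ah_Ch {a c : G} (ha : a ∈ E.Ah) (hc : c ∈ E.Ch) : ∃ r ∈ S.Zh, a * c * a⁻¹ = r * c :=
  ⟨_, five_a hnb ha hc, by group⟩

theorem Ah_QQ {a q : G} (ha : a ∈ E.Ah) (hq : q ∈ S.QQ) : a * q * a⁻¹ ∈ S.QQ := by
  obtain ⟨r, hr, c, hc, rfl⟩ := hq
  obtain ⟨r', hr', h⟩ := Ah_Ch hnb ha hc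
  refine ⟨r * r', S.Zh.mul_mem hr hr', c, hc, ?_⟩
  rw [conj_mul', h, Ah_Zh hnb ha hr]
  group

end five

end Env

end Cfsg.Agent.StdRank2.UFour
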