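import Cfsg.Agent.StdRank2.UFour.GrowA2

/-!
# Growth for `U₄(q)`: `[X̂_a, X̂_b] ≤ X̂_z X̂_c` and the final output `Grown`
-/

set_option autoImplicit false
set_option linter.unusedSectionVars false

namespace Cfsg.Agent.StdRank2.UFour

open Subgroup

variable {F : Type*} [Field F] [CharP F 2] {B : Bar F} {G : Type*} [Group G]

namespace Env

open WEnv Seed

variable {E : Env B G} {S : Seed E.toWEnv} (hnb : ∀ y ∈ S.Y, E.nb * y = y * E.nb)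

/-- an element commuting with `t` and trivial on the factors of `U` is in `Ŵ ∪ t Ŵ`, if it
centralises `X_c`. -/
theorem cent_U' {d : G} (ht : d * E.t = E.t * d) (hz : ∀ x, d * E.xz x = E.xz x * d)
    (hc : ∀ x, d * E.xc x = E.xc x * d)
    (ha : ∀ x, ∃ q ∈ S.QQ, d * E.xa x * d⁻¹ = q * E.xa x)
    (hb : ∀ x, ∃ q ∈ S.QQ, d * E.xb x * d⁻¹ = q * E.xb x) : ∃ v, d = E.w v ∨ d = E.t * E.w v := by
  -- a `q` as in the hypotheses commutes with `t`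
  have key : ∀ {q x : G}, q ∈ S.QQ → x * E.t = E.t * x → d * x * d⁻¹ = q * x →
      ∃ z y, q = E.xz z * E.xc y := by
    intro q x hq hx h
    apply QQ.cent hq
    have e : q = d * x * d⁻¹ * x⁻¹ := by rw [h]; group
    have h1 : Commute E.t d := ht.symm
    have h2 : Commute E.t x := hx.symm
    rw [e]
    exact (((h1.mul_right h2).mul_right h1.inv_right).mul_right h2.inv_right).symm.eq
  obtain ⟨x, y, z, s, h⟩ := E.cent_U d ht (fun x => ⟨x, by rw [hz, mul_inv_cancel_right]⟩)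
    (fun x => ⟨x, 0, by rw [E.xz_zero, one_mul, hc, mul_inv_cancel_right]⟩)
    (fun x => by
      obtain ⟨q, hq, h1⟩ := ha x
      obtain ⟨z, y, h2⟩ := key hq (E.t_a x).symm h1
      exact ⟨y, z, by rw [h1, h2]⟩)
    (fun x => by
      obtain ⟨q, hq, h1⟩ := hb x
      obtain ⟨z, y, h2⟩ := key hq (E.t_b x).symm h1
      exact ⟨y, z, by rw [h1, h2]⟩)
  have hw : E.xz x * E.xc y * E.xb z = E.w (x, y, z) := rfl
  rw [hw] at h
  have h2 : ∀ u, E.xz 0 * E.xc 0 * E.xa s * E.xc u = E.xc u * (E.xz 0 * E.xc 0 * E.xa s) := by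
    intro u
    rw [E.xz_zero, E.xc_zero, one_mul, one_mul]
    have h3 := E.w_comm (x, y, z) (0, u, 0)
    rw [E.w_c] at h3
    rcases h with h | h
    · have e : E.xa s = E.w (x, y, z) * d := by rw [h, ← mul_assoc, E.w_sq, one_mul]
      rw [e, mul_assoc, hc, ← mul_assoc, h3, mul_assoc]
    · have e : E.xa s = E.w (x, y, z) * (E.t * d) := by
        rw [h, ← mul_assoc E.t, E.t_sq, one_mul, ← mul_assoc, E.w_sq, one_mul]
      rw [e, mul_assoc, mul_assoc, hc, ← mul_assoc E.t, E.t_c, ← mul_assoc, ← mul_assoc, h3]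
      group
  have hs := center_Q1 h2
  rw [hs, E.xa_zero, mul_one] at h
  exact ⟨_, h⟩

section five

include hnb

/-! #### (5b) -/

theorem Ah_xc' {a : G} (ha : a ∈ E.Ah) (x : F) :
    ∃ r ∈ S.Zh, a⁻¹ * E.xc x * a = r * E.xc x := by
  obtain ⟨r, hr, h⟩ := Ah_xc hnb (E.Ah.inv_mem ha) x
  rw [inv_inv] at h
  exact ⟨r, hr, h⟩

/-- common part of (5b), (5c): the commutator `d = [a, g]` centralises `X_z`, `X_c`. -/
theorem five_xc {a g : G} (ha : a ∈ E.Ah) (hg : g ∈ E.Wh) (x : F) :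
    (a * g * a⁻¹ * g⁻¹) * E.xc x = E.xc x * (a * g * a⁻¹ * g⁻¹) := by
  obtain ⟨r, hr, h⟩ := Ah_xc' hnb ha x
  refine comm2 h ?_ (S.Wh_comm hg hr.2)
  obtain ⟨y, hy⟩ := Wh.D hg
  have := hy.w_comm (0, x, 0)
  rwa [E.w_c] at this

theorem five_xz {a g : G} (ha : a ∈ E.Ah) (hg : g ∈ E.Wh) (x : B.K) :
    (a * g * a⁻¹ * g⁻¹) * E.xz x = E.xz x * (a * g * a⁻¹ * g⁻¹) := by
  refine comm2 (ρ := 1) ?_ ?_ (by rw [mul_one, one_mul])
  · rw [Ah_inv (S := S) ha, Ah_xz ha, mul_assoc, Ah_sq S ha, mul_one, one_mul]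
  · obtain ⟨y, hy⟩ := Wh.D hg
    have := hy.w_comm (x, 0, 0)
    rwa [E.w_z] at this

/-- `[a, g]` acts on `X_a` by translations of `QQ`. -/
theorem five_xa {a g : G} (ha : a ∈ E.Ah) (hg : g ∈ S.Bh) (x : F) :
    ∃ q ∈ S.QQ, (a * g * a⁻¹ * g⁻¹) * E.xa x * (a * g * a⁻¹ * g⁻¹)⁻¹ = q * E.xa x := by
  obtain ⟨q1, hq1, h1⟩ := Bh_xa (S := S) x (S.Bh.inv_mem hg)
  rw [inv_inv] at h1
  have hq1' : a⁻¹ * q1 * a ∈ S.QQ := by
    have := Ah_QQ hnb (E.Ah.inv_mem ha) hq1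
    rwa [inv_inv] at this
  have h2 : a⁻¹ * E.xa x * a = E.xa x := by
    have := Ah_xa (E.Ah.inv_mem ha) x
    rw [this, inv_mul_cancel_right]
  obtain ⟨q2, hq2, h3⟩ := Bh_xa (S := S) x hg
  have h4 : g * (a⁻¹ * q1 * a) * g⁻¹ = a⁻¹ * q1 * a := by
    rw [S.Wh_comm (Bh_Wh hg) (QQ_Wh hq1'), mul_inv_cancel_right]
  refine ⟨a * ((a⁻¹ * q1 * a) * q2) * a⁻¹, Ah_QQ hnb ha (S.QQ.mul_mem hq1' hq2), ?_⟩
  have h5 : a * E.xa x * a⁻¹ = E.xa x := by rw [Ah_xa ha, mul_inv_cancel_right]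
  calc (a * g * a⁻¹ * g⁻¹) * E.xa x * (a * g * a⁻¹ * g⁻¹)⁻¹
      = a * (g * (a⁻¹ * (g⁻¹ * E.xa x * g) * a) * g⁻¹) * a⁻¹ := by group
    _ = a * (g * ((a⁻¹ * q1 * a) * (a⁻¹ * E.xa x * a)) * g⁻¹) * a⁻¹ := by rw [h1]; group
    _ = a * ((g * (a⁻¹ * q1 * a) * g⁻¹) * (g * E.xa x * g⁻¹)) * a⁻¹ := by rw [h2]; group
    _ = (a * ((a⁻¹ * q1 * a) * q2) * a⁻¹) * (a * E.xa x * a⁻¹) := by rw [h4, h3]; group
    _ = _ := by rw [h5]

/-- given the action on `t` and on `X_b`, `[a, g] ∈ Ŵ ∪ Ŵ t`. -/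
theorem five_core {a g : G} (ha : a ∈ E.Ah) (hg : g ∈ S.Bh) {q : G} (hq : q ∈ S.QQ)
    (ht : (a * g * a⁻¹ * g⁻¹) * E.t * (a * g * a⁻¹ * g⁻¹)⁻¹ = q * E.t)
    (hb : ∀ x, ∃ q ∈ S.QQ, (a * g * a⁻¹ * g⁻¹) * E.xb x * (a * g * a⁻¹ * g⁻¹)⁻¹ = q * E.xb x) :
    ∃ q ∈ S.QQ, ∃ e, a * g * a⁻¹ * g⁻¹ = q * E.xb e ∨ a * g * a⁻¹ * g⁻¹ = q * E.xb e * E.t := by
  obtain ⟨q', hq', hd⟩ := QQ.split hq ht
  set d := a * g * a⁻¹ * g⁻¹ with hdd
  have hqi := S.QQ.inv_mem hq'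
  obtain ⟨zz, xx, hqD⟩ := QQ.D hqi
  have c1 : ∀ x, (q'⁻¹ * d) * E.xz x = E.xz x * (q'⁻¹ * d) := by
    intro x
    have e1 := five_xz hnb ha (Bh_Wh hg) x
    have e2 := hqD.w_comm (x, 0, 0)
    rw [E.w_z] at e2
    rw [mul_assoc, e1, ← mul_assoc, e2, mul_assoc]
  have c3 : ∀ x, (q'⁻¹ * d) * E.xc x = E.xc x * (q'⁻¹ * d) := by
    intro x
    have e1 := five_xc hnb ha (Bh_Wh hg) x
    have e2 := hqD.w_comm (0, x, 0)
    rw [E.w_c] at e2
    rw [mul_assoc, e1, ← mul_assoc, e2, mul_assoc]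
  obtain ⟨v, hv⟩ := cent_U' (S := S) hd c1 c3
    (fun x => by
      obtain ⟨q1, hq1, h1⟩ := five_xa hnb ha hg x
      obtain ⟨r, hr, h2⟩ := QQ_xa (S := S) x hqi
      refine ⟨q'⁻¹ * q1 * q' * r, S.QQ.mul_mem (S.QQ.mul_mem (S.QQ.mul_mem hqi hq1) hq')
        (Zh_le_QQ hr), ?_⟩
      rw [inv_inv] at h2
      calc q'⁻¹ * d * E.xa x * (q'⁻¹ * d)⁻¹ = q'⁻¹ * (d * E.xa x * d⁻¹) * q' := by group
        _ = q'⁻¹ * q1 * q' * (q'⁻¹ * E.xa x * q') := by rw [h1]; group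
        _ = _ := by rw [h2]; group)
    (fun x => by
      obtain ⟨q1, hq1, h1⟩ := hb x
      refine ⟨q'⁻¹ * q1 * q', S.QQ.mul_mem (S.QQ.mul_mem hqi hq1) hq', ?_⟩
      have h2 := xb_QQ x hqi
      calc q'⁻¹ * d * E.xb x * (q'⁻¹ * d)⁻¹ = q'⁻¹ * (d * E.xb x * d⁻¹) * q' := by group
        _ = q'⁻¹ * q1 * q' * (q'⁻¹ * E.xb x) * q' := by rw [h1]; group
        _ = _ := by rw [← h2]; group)
  refine ⟨q' * (E.xz v.1 * E.xc v.2.1), S.QQ.mul_mem hq' ⟨_, xz_mem_Zh _, _, xc_mem_Ch _, rfl⟩,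
    v.2.2, ?_⟩
  have e : q' * (E.xz v.1 * E.xc v.2.1) * E.xb v.2.2 = q' * E.w v := by
    rw [mul_assoc]; rfl
  rw [e]
  rcases hv with hv | hv
  · left; rw [← hv]; group
  · right
    rw [mul_assoc, ← E.t_w, ← hv]; group

/-- killing the `t`-part. -/
theorem kill_t {g : G} (hg : g ∈ S.Bh)
    (h : ∀ a ∈ E.Ah, ∃ q ∈ S.QQ, ∃ e, a * g * a⁻¹ * g⁻¹ = q * E.xb e ∨
      a * g * a⁻¹ * g⁻¹ = q * E.xb e * E.t)
    (hbb : ∀ a ∈ E.Ah, ∀ e, ∃ q ∈ S.QQ, ∃ ε : G, (ε = 1 ∨ ε = E.t) ∧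
      a * E.xb e * a⁻¹ = q * E.xb e * ε) {a : G} (ha : a ∈ E.Ah) :
    ∃ q ∈ S.QQ, ∃ e, a * g * a⁻¹ * g⁻¹ = q * E.xb e := by
  have h' : ∀ a ∈ E.Ah, ∃ q ∈ S.QQ, ∃ e, ∃ ε : G, (ε = 1 ∨ ε = E.t) ∧
      a * g * a⁻¹ * g⁻¹ = q * E.xb e * ε := by
    intro a ha
    obtain ⟨q, hq, e, h1 | h1⟩ := h a ha
    · exact ⟨q, hq, e, 1, Or.inl rfl, by rw [h1, mul_one]⟩
    · exact ⟨q, hq, e, E.t, Or.inr rfl, h1⟩
  obtain ⟨q, hq, e, ε, hε, h1⟩ := h' a ha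
  rcases hε with rfl | rfl
  · exact ⟨q, hq, e, by rw [h1, mul_one]⟩
  exfalso
  obtain ⟨a', ha', hs⟩ := exists_Ah S (1 : F)
  obtain ⟨q', hq', e', ε', hε', h2⟩ := h' _ (E.Ah.mul_mem ha' ha)
  obtain ⟨q'', hq'', e'', ε'', hε'', h3⟩ := h' _ ha'
  obtain ⟨q3, hq3, ε3, hε3, h4⟩ := hbb a' ha' e
  have h5 : a' * a * g * (a' * a)⁻¹ * g⁻¹ =
      a' * (q * E.xb e * E.t) * a'⁻¹ * (a' * g * a'⁻¹ * g⁻¹) := by
    rw [← h1]; group
  have h6 : a' * (q * E.xb e * E.t) * a'⁻¹ =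
      (a' * q * a'⁻¹) * (q3 * E.xb e * ε3) * (E.xa 1 * E.t) := by
    rw [← h4, ← hs]; group
  rw [h6, h2, h3] at h5
  -- all of these elements centralise `X_c`, hence so does `xa 1`
  have cQ : ∀ x, ∀ q ∈ S.QQ, Commute (E.xc x) q := fun x q hq => xc_QQ x hq
  have cB : ∀ x e, Commute (E.xc x) (E.xb e) := E.c_b
  have ct : ∀ x, Commute (E.xc x) E.t := fun x => (E.t_c x).symm
  have cε : ∀ x, ∀ ε : G, (ε = 1 ∨ ε = E.t) → Commute (E.xc x) ε := by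
    rintro x ε (rfl | rfl)
    · exact Commute.one_right _
    · exact ct x
  have hq0 := Ah_QQ hnb ha' hq
  have e1 : E.xa 1 = ((a' * q * a'⁻¹) * (q3 * E.xb e * ε3))⁻¹ * (q' * E.xb e' * ε') *
      (q'' * E.xb e'' * ε'')⁻¹ * E.t⁻¹ := by
    rw [h5]; group
  have cA : ∀ x, Commute (E.xc x) (E.xa 1) := by
    intro x
    rw [e1]
    exact ((((cQ x _ hq0).mul_right (((cQ x _ hq3).mul_right (cB x e)).mul_right
      (cε x _ hε3))).inv_right.mul_right (((cQ x _ hq').mul_right (cB x e')).mul_right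
      (cε x _ hε'))).mul_right (((cQ x _ hq'').mul_right (cB x e'')).mul_right
      (cε x _ hε'')).inv_right).mul_right (ct x).inv_right
  have h7 := center_Q1 (E := E) (z := 0) (y := 0) (s := 1) (fun x => by
    rw [E.xz_zero, E.xc_zero, one_mul, one_mul]
    exact (cA x).symm.eq)
  exact one_ne_zero h7

theorem xb_mem_Bh (y : B.K) : E.xb y ∈ S.Bh := mem_Bh.2 ⟨_, xz_mem_Zh y, E.na_z y⟩

/-- the action of `[a, xb y]` on `t`. -/
theorem five_b_t {a : G} (ha : a ∈ E.Ah) {s : F} (hs : a * E.t * a⁻¹ = E.xa s * E.t) (y : B.K) :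
    ∃ r ∈ S.Zh, (a * E.xb y * a⁻¹ * (E.xb y)⁻¹) * E.t * (a * E.xb y * a⁻¹ * (E.xb y)⁻¹)⁻¹ =
      r * E.xc (s * y) * E.t := by
  have hai := Ah_inv (S := S) ha
  have hbi : (E.xb y)⁻¹ = E.xb y := inv_of_sq (E.xb_sq y)
  obtain ⟨r, hr, h1⟩ := Ah_xc hnb ha (s * y)
  refine ⟨E.xz (B.nm s * y) * r, S.Zh.mul_mem (xz_mem_Zh _) hr, ?_⟩
  have h2 := E.xb_a_b y s
  have h3 : a * (E.xa s * E.t) * a⁻¹ = E.t := by
    rw [conj_mul', hs, Ah_xa ha, mul_inv_cancel_right, ← mul_assoc, E.xa_sq, one_mul]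
  have h4 : a * E.xz (B.nm s * y) * a⁻¹ = E.xz (B.nm s * y) := by
    rw [Ah_xz ha, mul_inv_cancel_right]
  calc (a * E.xb y * a⁻¹ * (E.xb y)⁻¹) * E.t * (a * E.xb y * a⁻¹ * (E.xb y)⁻¹)⁻¹
      = a * (E.xb y * (a⁻¹ * ((E.xb y)⁻¹ * E.t * E.xb y) * a) * (E.xb y)⁻¹) * a⁻¹ := by group
    _ = a * (E.xb y * (E.xa s * E.t) * E.xb y) * a⁻¹ := by
      have e1 : (E.xb y)⁻¹ * E.t * E.xb y = E.t := by
        rw [mul_assoc, E.t_b, ← mul_assoc, inv_mul_cancel, one_mul]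
      rw [e1, hbi]
      have e2 : a⁻¹ * E.t * a = E.xa s * E.t := by
        have := hs
        rw [hai] at this ⊢
        exact this
      rw [e2]
    _ = a * ((E.xb y * E.xa s * E.xb y) * E.t) * a⁻¹ := by
      have := E.t_b y
      calc a * (E.xb y * (E.xa s * E.t) * E.xb y) * a⁻¹
          = a * (E.xb y * E.xa s * (E.t * E.xb y)) * a⁻¹ := by group
        _ = _ := by rw [this]; group
    _ = (a * E.xz (B.nm s * y) * a⁻¹) * (a * E.xc (s * y) * a⁻¹) * (a * (E.xa s * E.t) * a⁻¹) := by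
      rw [h2]; group
    _ = _ := by rw [h4, h1, h3]; group

/-- **(5b)** `[X̂_a, X_b] ≤ X̂_z X̂_c`. -/
theorem five_b {a : G} (ha : a ∈ E.Ah) (y : B.K) :
    a * E.xb y * a⁻¹ * (E.xb y)⁻¹ ∈ S.QQ := by
  -- first version: up to `t`
  have key : ∀ a ∈ E.Ah, ∀ y : B.K, ∃ q ∈ S.QQ, ∃ ε : G, (ε = 1 ∨ ε = E.t) ∧
      a * E.xb y * a⁻¹ * (E.xb y)⁻¹ = q * ε := by
    intro a ha y
    obtain ⟨s, hs⟩ := Ah_t ha
    obtain ⟨r, hr, ht⟩ := five_b_t hnb ha hs y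
    have hq : r * E.xc (s * y) ∈ S.QQ := ⟨r, hr, _, xc_mem_Ch _, rfl⟩
    obtain ⟨q', hq', hd⟩ := QQ.split hq ht
    set d := a * E.xb y * a⁻¹ * (E.xb y)⁻¹ with hdd
    have hqi := S.QQ.inv_mem hq'
    obtain ⟨zz, xx, hqD⟩ := QQ.D hqi
    have hbB := xb_mem_Bh hnb y
    have c1 : ∀ x, (q'⁻¹ * d) * E.xz x = E.xz x * (q'⁻¹ * d) := by
      intro x
      have e1 := five_xz hnb ha (Bh_Wh hbB) x
      have e2 := hqD.w_comm (x, 0, 0)
      rw [E.w_z] at e2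
      rw [mul_assoc, e1, ← mul_assoc, e2, mul_assoc]
    have c3 : ∀ x, (q'⁻¹ * d) * E.xc x = E.xc x * (q'⁻¹ * d) := by
      intro x
      have e1 := five_xc hnb ha (Bh_Wh hbB) x
      have e2 := hqD.w_comm (0, x, 0)
      rw [E.w_c] at e2
      rw [mul_assoc, e1, ← mul_assoc, e2, mul_assoc]
    -- the action on `X_a` is by elements of `X̂_z`
    have c2 : ∀ x, ∃ r ∈ S.Zh, (q'⁻¹ * d) * E.xa x * (q'⁻¹ * d)⁻¹ = r * E.xa x := by
      intro x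
      have hbi : (E.xb y)⁻¹ = E.xb y := inv_of_sq (E.xb_sq y)
      have b1 : (E.xb y)⁻¹ * E.xa x * E.xb y = E.xz (B.nm x * y) * E.xc (x * y) * E.xa x := by
        rw [hbi]; exact E.xb_a_b y x
      have b2 : E.xb y * E.xa x * (E.xb y)⁻¹ = E.xz (B.nm x * y) * E.xc (x * y) * E.xa x := by
        rw [hbi]; exact E.xb_a_b y x
      obtain ⟨r1, hr1, h1⟩ := Ah_xc' hnb ha (x * y)
      have h2 : a⁻¹ * E.xa x * a = E.xa x := by
        have := Ah_xa (E.Ah.inv_mem ha) x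
        rw [this, inv_mul_cancel_right]
      have h2' : a * E.xa x * a⁻¹ = E.xa x := by rw [Ah_xa ha, mul_inv_cancel_right]
      have h3 : a⁻¹ * E.xz (B.nm x * y) * a = E.xz (B.nm x * y) := by
        have := Ah_xz (E.Ah.inv_mem ha) (B.nm x * y)
        rw [this, inv_mul_cancel_right]
      have h4 : E.xb y * r1 * (E.xb y)⁻¹ = r1 := by
        rw [xb_QQ y (Zh_le_QQ hr1), mul_inv_cancel_right]
      have h5 : E.xb y * E.xc (x * y) * (E.xb y)⁻¹ = E.xc (x * y) := by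
        rw [← E.c_b, mul_inv_cancel_right]
      have h6 : E.xb y * E.xz (B.nm x * y) * (E.xb y)⁻¹ = E.xz (B.nm x * y) := by
        rw [← E.z_b, mul_inv_cancel_right]
      have h7 : a * r1 * a⁻¹ = r1 := by rw [Ah_Zh hnb ha hr1, mul_inv_cancel_right]
      have hdx : d * E.xa x * d⁻¹ = r1 * E.xa x := by
        calc d * E.xa x * d⁻¹
            = a * (E.xb y * (a⁻¹ * ((E.xb y)⁻¹ * E.xa x * E.xb y) * a) * (E.xb y)⁻¹) * a⁻¹ := by
              rw [hdd]; group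
          _ = a * (E.xb y * ((a⁻¹ * E.xz (B.nm x * y) * a) * (a⁻¹ * E.xc (x * y) * a) *
              (a⁻¹ * E.xa x * a)) * (E.xb y)⁻¹) * a⁻¹ := by rw [b1]; group
          _ = a * ((E.xb y * E.xz (B.nm x * y) * (E.xb y)⁻¹) * (E.xb y * r1 * (E.xb y)⁻¹) *
              (E.xb y * E.xc (x * y) * (E.xb y)⁻¹) * (E.xb y * E.xa x * (E.xb y)⁻¹)) * a⁻¹ := by
              rw [h1, h2, h3]; group
          _ = a * (E.xz (B.nm x * y) * r1 * E.xc (x * y) *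
              (E.xz (B.nm x * y) * E.xc (x * y) * E.xa x)) * a⁻¹ := by rw [h6, h4, h5, b2]
          _ = a * (r1 * E.xa x) * a⁻¹ := by
              have k1 := E.z_c (B.nm x * y) (x * y)
              have k2 : E.xz (B.nm x * y) * r1 = r1 * E.xz (B.nm x * y) :=
                S.Wh_comm (xz_mem_Zh (S := S) _).2 hr1.2
              have k3 := E.xz_sq (B.nm x * y)
              have k4 := E.xc_sq (x * y)
              calc a * (E.xz (B.nm x * y) * r1 * E.xc (x * y) *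
                  (E.xz (B.nm x * y) * E.xc (x * y) * E.xa x)) * a⁻¹
                  = a * ((E.xz (B.nm x * y) * r1) * (E.xc (x * y) *
                  E.xz (B.nm x * y)) * E.xc (x * y) * E.xa x) * a⁻¹ := by group
                _ = a * (r1 * (E.xz (B.nm x * y) * E.xz (B.nm x * y)) *
                  (E.xc (x * y) * E.xc (x * y)) * E.xa x) * a⁻¹ := by rw [k2, ← k1]; group
                _ = _ := by rw [k3, k4, mul_one, mul_one]
          _ = (a * r1 * a⁻¹) * (a * E.xa x * a⁻¹) := by group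
          _ = _ := by rw [h7, h2']
      obtain ⟨r2, hr2, h8⟩ := QQ_xa (S := S) x hqi
      rw [inv_inv] at h8
      refine ⟨r1 * r2, S.Zh.mul_mem hr1 hr2, ?_⟩
      have h9 : q'⁻¹ * r1 = r1 * q'⁻¹ := S.Wh_comm (QQ_Wh hqi) hr1.2
      calc q'⁻¹ * d * E.xa x * (q'⁻¹ * d)⁻¹ = q'⁻¹ * (d * E.xa x * d⁻¹) * q' := by group
        _ = (q'⁻¹ * r1) * E.xa x * q' := by rw [hdx]; group
        _ = r1 * (q'⁻¹ * E.xa x * q') := by rw [h9]; group
        _ = _ := by rw [h8]; group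
    -- these commute with `t`
    have c2' : ∀ x, ∃ z, (q'⁻¹ * d) * E.xa x * (q'⁻¹ * d)⁻¹ = E.xz z * E.xa x := by
      intro x
      obtain ⟨r, hr, h1⟩ := c2 x
      have h2 : r * E.t = E.t * r := by
        have e : r = q'⁻¹ * d * E.xa x * (q'⁻¹ * d)⁻¹ * (E.xa x)⁻¹ := by rw [h1]; group
        have k1 : Commute E.t (q'⁻¹ * d) := hd.symm
        have k2 : Commute E.t (E.xa x) := E.t_a x
        rw [e]
        exact (((k1.mul_right k2).mul_right k1.inv_right).mul_right k2.inv_right).symm.eq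
      obtain ⟨z, x', hz⟩ := QQ.cent (Zh_le_QQ hr) h2
      obtain ⟨z', hz'⟩ := Zh.mem_W hr (by rw [hz, ← w_zc]; exact D.w _)
      exact ⟨z', by rw [h1, hz']⟩
    obtain ⟨z', y', s', h1⟩ := E.cent_Q (q'⁻¹ * d) hd c1 c2'
      (fun x => ⟨0, by rw [E.xz_zero, one_mul, c3, mul_inv_cancel_right]⟩)
    have h2 : ∀ x, E.xz z' * E.xc y' * E.xa s' * E.xc x =
        E.xc x * (E.xz z' * E.xc y' * E.xa s') := by
      intro x
      rcases h1 with h1 | h1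
      · rw [← h1]; exact c3 x
      · have e : E.xz z' * E.xc y' * E.xa s' = E.t * (q'⁻¹ * d) := by
          rw [h1, ← mul_assoc, E.t_sq, one_mul]
        rw [e, mul_assoc, c3, ← mul_assoc, E.t_c, mul_assoc]
    have hs' := center_Q1 h2
    rw [hs', E.xa_zero, mul_one] at h1
    have hq2 : q' * (E.xz z' * E.xc y') ∈ S.QQ :=
      S.QQ.mul_mem hq' ⟨_, xz_mem_Zh _, _, xc_mem_Ch _, rfl⟩
    rcases h1 with h1 | h1
    · refine ⟨_, hq2, 1, Or.inl rfl, ?_⟩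
      rw [mul_one, ← h1]; group
    · refine ⟨_, hq2, E.t, Or.inr rfl, ?_⟩
      have h3 : E.t * (E.xz z' * E.xc y') = E.xz z' * E.xc y' * E.t := by
        rw [← w_zc, E.t_w]
      rw [mul_assoc, ← h3, ← h1]; group
  -- kill the `t`-part
  have hb1 := xb_mem_Bh hnb y
  obtain ⟨q, hq, e, h⟩ := kill_t hnb hb1 (a := a)
    (fun a ha => by
      obtain ⟨q, hq, ε, hε, h⟩ := key a ha y
      refine ⟨q, hq, 0, ?_⟩
      rw [E.xb_zero, mul_one]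
      rcases hε with rfl | rfl
      · left; rw [h, mul_one]
      · right; exact h)
    (fun a ha e => by
      obtain ⟨q, hq, ε, hε, h⟩ := key a ha e
      refine ⟨q, hq, ε, hε, ?_⟩
      have h1 : a * E.xb e * a⁻¹ = q * ε * E.xb e := by rw [← h]; group
      rw [h1]
      rcases hε with rfl | rfl
      · rw [mul_one, mul_one]
      · rw [mul_assoc, E.t_b, mul_assoc])
    ha
  obtain ⟨q2, hq2, ε, hε, h2⟩ := key a ha y
  -- compare: `q * xb e = q2 * ε`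
  rw [h] at h2
  rcases hε with rfl | rfl
  · rw [h, h2, mul_one]; exact hq2
  · exfalso
    apply t_not_mem_Wh (E := E.toWEnv)
    have e3 : E.t = q2⁻¹ * (q * E.xb e) := by rw [h2]; group
    rw [e3]
    exact E.Wh.mul_mem (E.Wh.inv_mem (QQ_Wh hq2)) (E.Wh.mul_mem (QQ_Wh hq) (Bh_Wh (xb_mem_Bh hnb e)))

/-! #### (5c) -/

/-- **(5c)** `[X̂_a, X̂_b] ≤ X̂_z X̂_c`. -/
theorem five_c {a g : G} (ha : a ∈ E.Ah) (hg : g ∈ S.Bh) : a * g * a⁻¹ * g⁻¹ ∈ S.QQ := by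
  have hxb : ∀ a ∈ E.Ah, ∀ y : B.K, ∃ q ∈ S.QQ, a * E.xb y * a⁻¹ = q * E.xb y := by
    intro a ha y
    exact ⟨_, five_b hnb ha y, by group⟩
  have key : ∀ a ∈ E.Ah, ∃ q ∈ S.QQ, ∃ e, a * g * a⁻¹ * g⁻¹ = q * E.xb e ∨
      a * g * a⁻¹ * g⁻¹ = q * E.xb e * E.t := by
    intro a ha
    obtain ⟨s, hs⟩ := Ah_t ha
    obtain ⟨y, hy⟩ := Bh.D hg
    have hai := Ah_inv (S := S) ha
    have hgt := hy.2
    rw [E.w_b] at hgt
    have hgt' := hy.inv.2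
    rw [E.w_b, inv_inv] at hgt'
    have hat' : a⁻¹ * E.t * a = E.xa s * E.t := by
      have := hs
      rw [hai] at this ⊢
      exact this
    obtain ⟨q1, hq1, h1⟩ := hxb _ (E.Ah.inv_mem ha) y
    rw [inv_inv] at h1
    obtain ⟨q2, hq2, h2⟩ := Bh_xa (S := S) s hg
    have h3 : g * q1 * g⁻¹ = q1 := by
      rw [S.Wh_comm (Bh_Wh hg) (QQ_Wh hq1), mul_inv_cancel_right]
    have h4 : g * E.xb y * g⁻¹ = E.xb y := by
      have := hy.w_comm (0, 0, y)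
      rw [E.w_b] at this
      rw [this, mul_inv_cancel_right]
    have h5 := E.xb_a_b y s
    have hq5 : q1 * q2 * (E.xz (B.nm s * y) * E.xc (s * y)) ∈ S.QQ :=
      S.QQ.mul_mem (S.QQ.mul_mem hq1 hq2) ⟨_, xz_mem_Zh _, _, xc_mem_Ch _, rfl⟩
    have ht : (a * g * a⁻¹ * g⁻¹) * E.t * (a * g * a⁻¹ * g⁻¹)⁻¹ =
        (a * (q1 * q2 * (E.xz (B.nm s * y) * E.xc (s * y))) * a⁻¹) * E.t := by
      have h6 : a * (E.xa s * E.t) * a⁻¹ = E.t := by
        rw [conj_mul', hs, Ah_xa ha, mul_inv_cancel_right, ← mul_assoc, E.xa_sq, one_mul]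
      have h7 : E.xb y * q2 = q2 * E.xb y := xb_QQ y hq2
      calc (a * g * a⁻¹ * g⁻¹) * E.t * (a * g * a⁻¹ * g⁻¹)⁻¹
          = a * (g * (a⁻¹ * (g⁻¹ * E.t * g) * a) * g⁻¹) * a⁻¹ := by group
        _ = a * (g * ((a⁻¹ * E.xb y * a) * (a⁻¹ * E.t * a)) * g⁻¹) * a⁻¹ := by rw [hgt']; group
        _ = a * ((g * q1 * g⁻¹) * (g * E.xb y * g⁻¹) * (g * E.xa s * g⁻¹) * (g * E.t * g⁻¹)) *
            a⁻¹ := by rw [h1, hat']; group
        _ = a * (q1 * (E.xb y * q2) * E.xa s * E.xb y * E.t) * a⁻¹ := by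
            rw [h3, h4, h2, hgt]; group
        _ = a * (q1 * q2 * (E.xb y * E.xa s * E.xb y) * E.t) * a⁻¹ := by rw [h7]; group
        _ = a * (q1 * q2 * (E.xz (B.nm s * y) * E.xc (s * y))) * a⁻¹ *
            (a * (E.xa s * E.t) * a⁻¹) := by rw [h5]; group
        _ = _ := by rw [h6]
    refine five_core hnb ha hg (Ah_QQ hnb ha hq5) ht ?_
    intro x
    obtain ⟨q, hq, h6⟩ := hxb _ (E.Ah.inv_mem ha) x
    rw [inv_inv] at h6
    refine ⟨1, S.QQ.one_mem, ?_⟩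
    have h7 := comm2 (a := a) (c := g) h6 (by
      have := hy.w_comm (0, 0, x)
      rwa [E.w_b] at this) (S.Wh_comm (Bh_Wh hg) (QQ_Wh hq))
    rw [h7, mul_inv_cancel_right, one_mul]
  obtain ⟨q, hq, e, h⟩ := kill_t hnb hg key (fun a ha e => by
    obtain ⟨q, hq, h⟩ := hxb a ha e
    exact ⟨q, hq, 1, Or.inl rfl, by rw [h, mul_one]⟩) ha
  -- kill the `X_b`-part with the involution trick
  obtain ⟨s, hs⟩ := Ah_t ha
  by_cases hs0 : s = 0
  · -- `a ∈ X_a`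
    have h1 : a * E.t = E.t * a := by
      rw [hs0, E.xa_zero, one_mul] at hs
      exact conj_eq_iff.1 hs
    obtain ⟨c, hc, hca⟩ := mem_Ah.1 ha
    have h2 : c * E.t = E.t * c := by
      have e1 : c = E.nb⁻¹ * a * E.nb := by rw [← hca]; group
      have k1 : Commute E.t E.nb := E.t_nb
      have k2 : Commute E.t a := h1.symm
      rw [e1]
      exact ((k1.inv_right.mul_right k2).mul_right k1).symm.eq
    obtain ⟨x, hx⟩ := Ch.D hc
    have h3 := hx.of_comm h2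
    rw [h3] at hx
    obtain ⟨x', rfl⟩ := Ch.mem_W hc hx
    rw [E.nb_c] at hca
    rw [← hca]
    obtain ⟨r, hr, c, hc', h4⟩ := S.wGrown.a_B x' g hg
    exact ⟨r, hr, c, hc', by rw [h4]; group⟩
  · have h1 : (a * (a * g * a⁻¹ * g⁻¹) * a⁻¹) * (a * g * a⁻¹ * g⁻¹) = 1 := by
      have := Ah_sq S ha
      have hai := Ah_inv (S := S) ha
      rw [hai]
      calc a * (a * g * a * g⁻¹) * a * (a * g * a * g⁻¹)
          = (a * a) * g * a * g⁻¹ * (a * a) * g * a * g⁻¹ := by group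
        _ = g * (a * (g⁻¹ * g) * a) * g⁻¹ := by rw [this]; group
        _ = 1 := by rw [inv_mul_cancel, mul_one, this]; group
    rw [h] at h1
    obtain ⟨q3, hq3, h3⟩ := hxb a ha e
    obtain ⟨r, hr, c, hc, hrc⟩ := hq
    obtain ⟨r', hr', h4⟩ := Ah_Ch hnb ha hc
    have h5 : a * (q * E.xb e) * a⁻¹ = r * (r' * c) * (q3 * E.xb e) := by
      rw [conj_mul', h3, hrc, conj_mul', h4, Ah_Zh hnb ha hr]; group
    rw [h5, hrc] at h1
    have hbW := Bh_Wh (xb_mem_Bh hnb (S := S) e)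
    have hcW := (mem_Ch.1 hc).1
    have hq3W := QQ_Wh hq3
    have h6 : r' * q3 = 1 := by
      have c1 := S.Wh_comm hr.2 hr'.2
      have c2 := S.Wh_comm (E.Wh.mul_mem hr.2 hcW) (E.Wh.mul_mem hq3W hbW)
      have s1 := S.Wh_sq (E.Wh.mul_mem hr.2 hcW)
      have s2 := S.Wh_sq hbW
      calc r' * q3 = r' * ((r * c) * (r * c)) * q3 * (E.xb e * E.xb e) := by
            rw [s1, s2]; group
        _ = (r' * r) * c * (r * c * (q3 * E.xb e)) * E.xb e := by group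
        _ = (r * r') * c * (q3 * E.xb e * (r * c)) * E.xb e := by rw [c2, c1]
        _ = r * (r' * c) * (q3 * E.xb e) * (r * c * E.xb e) := by group
        _ = 1 := h1
    -- so `q3 ∈ X̂_z`, but `q3 = [a, xb e]` has `xc (s e)`-component
    have hq3Z : q3 ∈ S.Zh := by
      have : q3 = r'⁻¹ := (inv_eq_of_mul_eq_one_right h6).symm
      rw [this]; exact S.Zh.inv_mem hr'
    have h7 : a * E.xb e * a⁻¹ * (E.xb e)⁻¹ = q3 := by rw [h3]; group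
    obtain ⟨r'', hr'', h8⟩ := five_b_t hnb ha hs e
    rw [h7] at h8
    obtain ⟨z, hz⟩ := Zh.D hq3Z
    have h9 := hz.2
    rw [h8] at h9
    have h10 := mul_right_cancel h9
    have h11 : r'' * E.w (0, s * (e : F), 0) = E.xz z * E.w (0, 0, 0) := by
      rw [show ((0, 0, 0) : B.V) = 0 from rfl, E.w_zero, mul_one, E.w_c, h10, E.w_z]
    obtain ⟨h12, -⟩ := S.Zh_w_uniq hr'' (xz_mem_Zh z) h11
    have he : e = 0 := Subtype.ext ((mul_eq_zero.1 h12).resolve_left hs0)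
    rw [h, he, E.xb_zero, mul_one]
    exact ⟨r, hr, c, hc, hrc⟩

end five

variable (S)

/-- **The output of the growth for `U₄(q)`.** -/
def grown : Grown E where
  toWGrown := S.wGrown
  A := E.Ah
  rootA := by
    refine ⟨xa_mem_Ah, fun g hg => Ah_sq S hg, fun g hg => Ah_t hg, fun c => exists_Ah S c,
      fun g hg hc => ?_, fun k hk g hg => ?_⟩
    · obtain ⟨c, hc', hca⟩ := mem_Ah.1 hg
      have h2 : c * E.t = E.t * c := by
        have e1 : c = E.nb⁻¹ * g * E.nb := by rw [← hca]; group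
        have k1 : Commute E.t E.nb := E.t_nb
        have k2 : Commute E.t g := hc.symm
        rw [e1]
        exact ((k1.inv_right.mul_right k2).mul_right k1).symm.eq
      obtain ⟨x, hx⟩ := Ch.D hc'
      have h3 := hx.of_comm h2
      rw [h3] at hx
      obtain ⟨x', rfl⟩ := Ch.mem_W hc' hx
      exact ⟨x', by rw [← hca, E.nb_c]⟩
    · obtain ⟨r, hr, rfl⟩ := mem_Ah.1 hg
      have hk2 : E.nb * k * E.nb⁻¹ ∈ E.T := (E.nb_T k).1 hk
      refine mem_Ah.2 ⟨_, T_Ch hk2 hr, ?_⟩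
      have h1 := E.nb_sq
      have h2 := nb_inv (E := E)
      rw [h2]
      calc E.nb * (E.nb * k * E.nb * r * (E.nb * k * E.nb)⁻¹) * E.nb =
          (E.nb * E.nb) * k * E.nb * r * E.nb⁻¹ * k⁻¹ * (E.nb⁻¹ * E.nb) := by group
        _ = _ := by rw [h1, h2, E.nb_sq]; group
  Z_A g hg k hk := (Ah_Zh hnb hk hg).symm
  A_C a ha c hc := Ah_Ch hnb ha hc
  A_B a ha g hg := by
    obtain ⟨r, hr, c, hc, h⟩ := five_c hnb ha hg
    exact ⟨r, hr, c, hc, by rw [← h]; group⟩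
  nb_Z g hg := by
    rw [hnb g hg.1, mul_inv_cancel_right]
    exact hg
  nb_A g hg := nb_Ah hg
  nb_C g hg := mem_Ah.2 ⟨g, hg, rfl⟩

end Env

end Cfsg.Agent.StdRank2.UFour
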