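import Cfsg.Agent.StdRank2.UFour.GrowWh

/-!
# `Ŵ` is abelian

The commutator form `Ŵ/W × Ŵ/W → W` is biadditive and equivariant, so it vanishes.
-/

set_option autoImplicit false
set_option linter.unusedSectionVars false

namespace Cfsg.Agent.StdRank2.UFour

open Subgroup

variable {F : Type*} [Field F] [CharP F 2] {B : Bar F} {G : Type*} [Group G]

/-- An equivariant biadditive map `V × V → V` is zero. -/
theorem form_zero (B : Bar F) (lam : B.Kˣ) (hlam : (lam : B.K) ≠ 1) (c : B.V → B.V → B.V)
    (hl : ∀ u v w, c (u + v) w = c u w + c v w) (hr : ∀ u v w, c u (v + w) = c u v + c u w)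
    (ha : ∀ s u v, c (B.ma s u) (B.ma s v) = B.ma s (c u v))
    (hh : ∀ μ ν u v, c (B.mh μ ν u) (B.mh μ ν v) = B.mh μ ν (c u v))
    (hn : ∀ u v, c (B.mn u) (B.mn v) = B.mn (c u v)) (u v : B.V) : c u v = 0 := by
  have hl0 : ∀ w, c 0 w = 0 := by
    intro w
    have := hl 0 0 w
    rw [add_zero] at this
    exact left_eq_add.1 this
  have hr0 : ∀ w, c w 0 = 0 := by
    intro w
    have := hr w 0 0
    rw [add_zero] at this
    exact left_eq_add.1 this
  have hlam2 : (lam : B.K) * lam ≠ 1 := by
    intro h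
    apply hlam
    have h2 := B.K_add_self (1 : B.K)
    have h3 := B.K_add_self (lam : B.K)
    have : ((lam : B.K) + 1) * ((lam : B.K) + 1) = 0 := by
      calc ((lam : B.K) + 1) * ((lam : B.K) + 1) = (lam : B.K) * lam + 1 + ((lam : B.K) + lam) := by
            ring
        _ = 0 := by rw [h, h2, h3, add_zero]
    have h4 := mul_self_eq_zero.1 this
    exact add_right_cancel (h4.trans h2.symm)
  -- the torus elements
  -- components of `c (x, 0, 0) (0, 0, y)`
  have key : ∀ x y : B.K, c (x, 0, 0) (0, 0, y) = 0 := by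
    intro x y
    refine Prod.ext ?_ (Prod.ext ?_ ?_)
    · -- Z-component: `μ = lam`, `ν = (lam²)⁻¹`
      let μ : Fˣ := ⟨((lam : B.K) : F), (((lam : B.K)⁻¹ : B.K) : F), by
        have : (lam : B.K) * (lam : B.K)⁻¹ = 1 := mul_inv_cancel₀ lam.ne_zero
        exact congrArg Subtype.val this, by
        have : (lam : B.K)⁻¹ * (lam : B.K) = 1 := inv_mul_cancel₀ lam.ne_zero
        exact congrArg Subtype.val this⟩
      have hμ : B.nm (μ : F) = (lam : B.K) * lam := B.nm_K _
      set ν : B.Kˣ := (lam * lam)⁻¹ with hν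
      have hμν : B.nm (μ : F) * (ν : B.K) = 1 := by
        rw [hμ, hν, ← Units.val_mul, ← Units.val_mul, mul_inv_cancel, Units.val_one]
      have hν1 : (1 : B.K) + ν ≠ 0 := by
        intro h
        have h2 := B.K_add_self (ν : B.K)
        have h3 : (1 : B.K) = ν := add_right_cancel (h.trans h2.symm)
        rw [hν, ] at h3
        apply hlam2
        have h4 : (lam * lam : B.Kˣ)⁻¹ = 1 := Units.ext h3.symm
        have h5 : (lam * lam : B.Kˣ) = 1 := inv_eq_one.1 h4
        rw [← Units.val_mul, h5, Units.val_one]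
      have e1 := hh μ ν (x, 0, 0) (0, 0, y / (1 + ν))
      have e2 : B.mh μ ν (x, 0, 0) = (x, 0, 0) := by
        unfold Bar.mh
        simp only [hμν, one_mul, mul_zero]
      have e3 : (0, 0, y / (1 + ν)) + B.mh μ ν (0, 0, y / (1 + ν)) = ((0 : B.K), (0 : F), y) := by
        unfold Bar.mh
        refine Prod.ext ?_ (Prod.ext ?_ ?_)
        · simp
        · simp
        · simp only [Prod.snd_add]; field_simp
      have e4 : c (x, 0, 0) (0, 0, y) = c (x, 0, 0) (0, 0, y / (1 + ν)) +
          B.mh μ ν (c (x, 0, 0) (0, 0, y / (1 + ν))) := by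
        rw [← e1, e2, ← hr, e3]
      rw [e4]
      unfold Bar.mh
      simp only [Prod.fst_add, hμν, one_mul, Prod.fst_zero]
      exact B.K_add_self _
    · -- c-component
      obtain ⟨v, hv1, hv0, hv⟩ := B.exists_norm_one
      have e1 := hh (Units.mk0 v hv0) 1 (x, 0, 0) (0, 0, y)
      have e2 : B.mh (Units.mk0 v hv0) 1 (x, 0, 0) = (x, 0, 0) := by
        unfold Bar.mh; simp [hv]
      have e3 : B.mh (Units.mk0 v hv0) 1 (0, 0, y) = (0, 0, y) := by
        unfold Bar.mh; simp
      rw [e2, e3] at e1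
      have e4 := congrArg (fun x => x.2.1) e1
      unfold Bar.mh at e4
      simp only [Units.val_mk0, Units.val_one, OneMemClass.coe_one, mul_one] at e4
      have : (1 + v) * (c (x, 0, 0) (0, 0, y)).2.1 = 0 := by
        rw [add_mul, one_mul, ← e4]
        exact Bar.add_self _
      rcases mul_eq_zero.1 this with h | h
      · exfalso
        apply hv1
        have h2 := Bar.add_self v
        exact (add_right_cancel (h.trans h2.symm)).symm
      · exact h
    · -- b-component: `μ = lam`, `ν = 1`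
      let μ : Fˣ := ⟨((lam : B.K) : F), (((lam : B.K)⁻¹ : B.K) : F), by
        have : (lam : B.K) * (lam : B.K)⁻¹ = 1 := mul_inv_cancel₀ lam.ne_zero
        exact congrArg Subtype.val this, by
        have : (lam : B.K)⁻¹ * (lam : B.K) = 1 := inv_mul_cancel₀ lam.ne_zero
        exact congrArg Subtype.val this⟩
      have hμ : B.nm (μ : F) = (lam : B.K) * lam := B.nm_K _
      set n := (lam : B.K) * lam with hn'
      have hn1 : (1 : B.K) + n ≠ 0 := by
        intro h
        have h2 := B.K_add_self n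
        exact hlam2 (add_right_cancel (h.trans h2.symm)).symm
      have e1 := hh μ 1 (x / (1 + n), 0, 0) (0, 0, y)
      have e2 : B.mh μ 1 (0, 0, y) = (0, 0, y) := by
        unfold Bar.mh; simp
      have e3 : (x / (1 + n), 0, 0) + B.mh μ 1 (x / (1 + n), 0, 0) = (x, (0 : F), (0 : B.K)) := by
        unfold Bar.mh
        refine Prod.ext ?_ (Prod.ext ?_ ?_)
        · simp only [Prod.fst_add, hμ, Units.val_one, mul_one]; field_simp
        · simp
        · simp
      have e4 : c (x, 0, 0) (0, 0, y) = c (x / (1 + n), 0, 0) (0, 0, y) +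
          B.mh μ 1 (c (x / (1 + n), 0, 0) (0, 0, y)) := by
        rw [← e1, e2, ← hl, e3]
      rw [e4]
      unfold Bar.mh
      simp only [Prod.snd_add, Units.val_one, one_mul, Prod.snd_zero]
      exact B.K_add_self _
  have neg_eq : ∀ a : B.V, -a = a := fun a => neg_eq_of_add_eq_zero_left (WEnv.V_add_self a)
  have ma0 : ∀ s, B.ma s 0 = 0 := B.ma_zero
  have k1 : ∀ x v, c (x, 0, 0) v = 0 := by
    intro x v
    let A : AddSubgroup B.V :=
      { carrier := {v | c (x, 0, 0) v = 0}
        add_mem' := by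
          intro a b ha hb
          change c _ _ = 0
          rw [hr, show c (x, 0, 0) a = 0 from ha, show c (x, 0, 0) b = 0 from hb, add_zero]
        zero_mem' := hr0 _
        neg_mem' := by
          intro a ha
          rwa [neg_eq] }
    have hA : A = ⊤ := by
      apply B.gen A (fun y => key x y)
      intro s y
      change c (x, 0, 0) (B.ma s (0, 0, y)) = 0
      have e : B.ma s (x, 0, 0) = (x, 0, 0) := by
        unfold Bar.ma; refine Prod.ext ?_ (Prod.ext ?_ ?_) <;> simp [B.tr_zero]
      have := ha s (x, 0, 0) (0, 0, y)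
      rw [e, key, ma0] at this
      exact this
    have : v ∈ A := by rw [hA]; trivial
    exact this
  let A : AddSubgroup B.V :=
    { carrier := {u | ∀ v, c u v = 0}
      add_mem' := by
        intro a b ha hb v
        rw [hl, ha, hb, add_zero]
      zero_mem' := hl0
      neg_mem' := by
        intro a ha
        rwa [neg_eq] }
  have hb : ∀ y, ((0 : B.K), (0 : F), y) ∈ A := by
    intro y v
    have e : B.mn (y, 0, 0) = (0, 0, y) := by
      unfold Bar.mn
      refine Prod.ext rfl (Prod.ext (map_zero B.s) rfl)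
    have e' : B.mn (B.mn v) = v := by
      unfold Bar.mn
      refine Prod.ext rfl (Prod.ext (B.invol _) rfl)
    rw [← e, ← e', hn, k1]
    unfold Bar.mn
    refine Prod.ext rfl (Prod.ext (map_zero B.s) rfl)
  have hA : A = ⊤ := by
    apply B.gen A hb
    intro s y v
    have e' : B.ma s (B.ma s v) = v := by
      unfold Bar.ma
      refine Prod.ext ?_ (Prod.ext ?_ ?_)
      · change v.1 + B.tr (s * B.s v.2.1) + B.nm s * v.2.2 + B.tr (s * B.s (v.2.1 + s * v.2.2)) +
          B.nm s * v.2.2 = v.1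
        have h1 : B.tr (s * B.s (v.2.1 + s * v.2.2)) = B.tr (s * B.s v.2.1) := by
          rw [map_add, mul_add, B.tr_add, map_mul, B.s_K, ← mul_assoc]
          have : s * B.s s * (v.2.2 : F) = ((B.nm s * v.2.2 : B.K) : F) := rfl
          rw [this, B.tr_K, add_zero]
        rw [h1]
        have h2 := B.K_add_self (B.tr (s * B.s v.2.1) + B.nm s * v.2.2)
        linear_combination h2
      · change v.2.1 + s * v.2.2 + s * v.2.2 = v.2.1
        rw [add_assoc, Bar.add_self, add_zero]
      · rfl
    rw [← e', ha, hb y, ma0]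
  have : u ∈ A := by rw [hA]; trivial
  exact this v

namespace Seed

open WEnv

variable {E : WEnv B G} (S : Seed E)

include S

/-- a representative in `Ŵ`. -/
noncomputable def rep (v : B.V) : G := (S.exists_Wh v).choose

theorem rep_mem (v : B.V) : S.rep v ∈ E.Wh := (S.exists_Wh v).choose_spec.1

theorem rep_D (v : B.V) : E.D (S.rep v) v := (S.exists_Wh v).choose_spec.2

theorem eq_rep {y : G} {v : B.V} (hy : y ∈ E.Wh) (h : E.D y v) : ∃ u, y = E.w u * S.rep v := by
  have h1 := h.mul (S.rep_D v).inv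
  rw [V_add_self] at h1
  obtain ⟨u, hu⟩ := Wh.mem_W (E.Wh.mul_mem hy (E.Wh.inv_mem (S.rep_mem v))) h1
  exact ⟨u, by rw [← hu]; group⟩

/-- the commutator form. -/
noncomputable def cf (u v : B.V) : B.V := ((S.rep_D u).comm (S.rep_D v)).choose

theorem cf_spec' (u v : B.V) : S.rep u * S.rep v = E.w (S.cf u v) * (S.rep v * S.rep u) :=
  ((S.rep_D u).comm (S.rep_D v)).choose_spec

theorem cf_spec {x y : G} {u v : B.V} (hx : x ∈ E.Wh) (hy : y ∈ E.Wh) (hxu : E.D x u)
    (hyv : E.D y v) : x * y = E.w (S.cf u v) * (y * x) := by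
  obtain ⟨a, rfl⟩ := S.eq_rep hx hxu
  obtain ⟨b, rfl⟩ := S.eq_rep hy hyv
  have h1 := S.cf_spec' u v
  have h2 := (S.rep_D u).w_comm b
  have h3 := (S.rep_D v).w_comm a
  calc E.w a * S.rep u * (E.w b * S.rep v) = E.w a * (S.rep u * E.w b) * S.rep v := by group
    _ = E.w a * E.w b * (S.rep u * S.rep v) := by rw [h2]; group
    _ = E.w a * E.w b * E.w (S.cf u v) * (S.rep v * S.rep u) := by rw [h1]; group
    _ = E.w (a + b + S.cf u v) * (S.rep v * S.rep u) := by rw [E.w_add, E.w_add]
    _ = E.w (S.cf u v + b + a) * (S.rep v * S.rep u) := by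
        rw [show a + b + S.cf u v = S.cf u v + b + a by abel]
    _ = E.w (S.cf u v) * E.w b * (E.w a * S.rep v) * S.rep u := by
        rw [E.w_add, E.w_add]; group
    _ = E.w (S.cf u v) * E.w b * (S.rep v * E.w a) * S.rep u := by rw [h3]
    _ = _ := by group

theorem cf_uniq {x y : G} {u v w : B.V} (hx : x ∈ E.Wh) (hy : y ∈ E.Wh) (hxu : E.D x u)
    (hyv : E.D y v) (h : x * y = E.w w * (y * x)) : S.cf u v = w := by
  have := S.cf_spec hx hy hxu hyv
  rw [h] at this
  exact (E.w_injective (mul_right_cancel this)).symm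

theorem cf_conj {g : G} {f : B.V → B.V} (hg : E.Nm g f) (u v : B.V) :
    S.cf (f u) (f v) = f (S.cf u v) := by
  apply S.cf_uniq (hg.Wh (S.rep_mem u)) (hg.Wh (S.rep_mem v)) (hg.D (S.rep_D u))
    (hg.D (S.rep_D v))
  rw [← hg.act]
  have h1 := S.cf_spec' u v
  calc g * S.rep u * g⁻¹ * (g * S.rep v * g⁻¹) = g * (S.rep u * S.rep v) * g⁻¹ := by group
    _ = g * (E.w (S.cf u v) * (S.rep v * S.rep u)) * g⁻¹ := by rw [h1]
    _ = _ := by group

theorem cf_zero (u v : B.V) : S.cf u v = 0 := by
  apply form_zero B E.lam E.lam_ne S.cf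
  · intro u v w
    apply S.cf_uniq (E.Wh.mul_mem (S.rep_mem u) (S.rep_mem v)) (S.rep_mem w)
      ((S.rep_D u).mul (S.rep_D v)) (S.rep_D w)
    have h1 := S.cf_spec' u w
    have h2 := S.cf_spec' v w
    rw [E.w_add]
    calc S.rep u * S.rep v * S.rep w = S.rep u * (S.rep v * S.rep w) := by group
      _ = (S.rep u * E.w (S.cf v w)) * (S.rep w * S.rep v) := by rw [h2]; group
      _ = E.w (S.cf v w) * (S.rep u * S.rep w) * S.rep v := by
        rw [(S.rep_D u).w_comm]; group
      _ = E.w (S.cf v w) * E.w (S.cf u w) * (S.rep w * (S.rep u * S.rep v)) := by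
        rw [h1]; group
      _ = _ := by rw [E.w_comm (S.cf v w)]
  · intro u v w
    apply S.cf_uniq (S.rep_mem u) (E.Wh.mul_mem (S.rep_mem v) (S.rep_mem w))
      (S.rep_D u) ((S.rep_D v).mul (S.rep_D w))
    have h1 := S.cf_spec' u v
    have h2 := S.cf_spec' u w
    rw [E.w_add]
    calc S.rep u * (S.rep v * S.rep w) = (S.rep u * S.rep v) * S.rep w := by group
      _ = E.w (S.cf u v) * S.rep v * (S.rep u * S.rep w) := by rw [h1]; group
      _ = E.w (S.cf u v) * (S.rep v * E.w (S.cf u w)) * (S.rep w * S.rep u) := by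
        rw [h2]; group
      _ = E.w (S.cf u v) * E.w (S.cf u w) * (S.rep v * S.rep w * S.rep u) := by
        rw [(S.rep_D v).w_comm]; group
  · intro s u v
    exact S.cf_conj (E.nm_xa s) u v
  · intro μ ν u v
    exact S.cf_conj (E.nm_h μ ν) u v
  · intro u v
    exact S.cf_conj E.nm_na u v

/-- `Ŵ` is abelian. -/
theorem Wh_comm {x y : G} (hx : x ∈ E.Wh) (hy : y ∈ E.Wh) : x * y = y * x := by
  obtain ⟨u, hu⟩ := Wh.D hx
  obtain ⟨v, hv⟩ := Wh.D hy
  rw [S.cf_spec hx hy hu hv, S.cf_zero, E.w_zero, one_mul]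

end Seed

end Cfsg.Agent.StdRank2.UFour
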