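import Cfsg.Agent.StdRank2.UFour.GrowAb

/-!
# The grown root groups inside `Ŵ`; `Ŵ` is elementary abelian
-/

set_option autoImplicit false
set_option linter.unusedSectionVars false

namespace Cfsg.Agent.StdRank2.UFour

open Subgroup

variable {F : Type*} [Field F] [CharP F 2] {B : Bar F} {G : Type*} [Group G]

/-- odd order argument. -/
theorem odd_fix {g r z : G} {m : ℕ} (hm : Odd m) (hg : g ^ m = 1) (h : g * r * g⁻¹ = z * r)
    (hz : g * z = z * g) (hzz : z * z = 1) : z = 1 := by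
  have key : ∀ k : ℕ, g ^ k * r * (g ^ k)⁻¹ = z ^ k * r := by
    intro k
    induction k with
    | zero => simp
    | succ k ih =>
      have hc : g * z ^ k * g⁻¹ = z ^ k := by
        have : Commute g z := hz
        rw [(this.pow_right k).eq, mul_inv_cancel_right]
      calc g ^ (k + 1) * r * (g ^ (k + 1))⁻¹ = g * (g ^ k * r * (g ^ k)⁻¹) * g⁻¹ := by
            rw [pow_succ']; group
        _ = (g * z ^ k * g⁻¹) * (g * r * g⁻¹) := by rw [ih]; group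
        _ = z ^ (k + 1) * r := by rw [hc, h, pow_succ, mul_assoc]
  have h1 := key m
  rw [hg, inv_one, mul_one, one_mul] at h1
  have h2 : z ^ m = 1 := (right_eq_mul.1 h1)
  obtain ⟨k, rfl⟩ := hm
  rwa [pow_succ, pow_mul, pow_two, hzz, one_pow, one_mul] at h2

namespace WEnv

variable (E : WEnv B G)

/-- `lam` as a unit of `F`. -/
def lamF : Fˣ := ⟨((E.lam : B.K) : F), (((E.lam : B.K)⁻¹ : B.K) : F), by
  have : (E.lam : B.K) * (E.lam : B.K)⁻¹ = 1 := mul_inv_cancel₀ E.lam.ne_zero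
  exact congrArg Subtype.val this, by
  have : (E.lam : B.K)⁻¹ * (E.lam : B.K) = 1 := inv_mul_cancel₀ E.lam.ne_zero
  exact congrArg Subtype.val this⟩

theorem coe_lamF : (E.lamF : F) = ((E.lam : B.K) : F) := rfl

/-- torus element with weights `lam, 1, lam⁻¹, lam` on `a, c, b, z`. -/
def h2 : G := E.h E.lamF E.lam⁻¹

theorem h2_mem : E.h2 ∈ E.T := E.h_mem _ _

theorem mh2 (v : B.V) : B.mh E.lamF E.lam⁻¹ v =
    (E.lam * v.1, v.2.1, ((E.lam⁻¹ : B.Kˣ) : B.K) * v.2.2) := by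
  unfold Bar.mh
  refine Prod.ext ?_ (Prod.ext ?_ rfl)
  · change B.nm ((E.lam : B.K) : F) * ((E.lam⁻¹ : B.Kˣ) : B.K) * v.1 = E.lam * v.1
    rw [B.nm_K, mul_assoc (E.lam : B.K), ← Units.val_mul, mul_inv_cancel, Units.val_one, mul_one]
  · change ((E.lam : B.K) : F) * (((E.lam⁻¹ : B.Kˣ) : B.K) : F) * v.2.1 = v.2.1
    have : (E.lam : B.K) * ((E.lam⁻¹ : B.Kˣ) : B.K) = 1 := by
      rw [← Units.val_mul, mul_inv_cancel, Units.val_one]
    have h : ((E.lam : B.K) : F) * (((E.lam⁻¹ : B.Kˣ) : B.K) : F) = 1 := congrArg Subtype.val this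
    rw [h, one_mul]

theorem nm_h2 : E.Nm E.h2 (B.mh E.lamF E.lam⁻¹) := E.nm_h _ _

theorem h2_a (s : F) : E.h2 * E.xa s * E.h2⁻¹ = E.xa (((E.lam : B.K) : F) * s) := E.h_a _ _ _

theorem h2_c (x : F) : E.h2 * E.xc x = E.xc x * E.h2 := by
  rw [← conj_eq_iff, ← E.w_c, h2, E.conj_mh, E.mh2]
  simp

theorem one_add_lam : (1 : B.K) + E.lam ≠ 0 := by
  intro h1
  apply E.lam_ne
  have h2 := B.K_add_self (E.lam : B.K)
  exact (add_right_cancel (h1.trans h2.symm)).symm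

theorem one_add_lamF : (1 : F) + ((E.lam : B.K) : F) ≠ 0 := by
  intro h1
  exact E.one_add_lam (Subtype.ext h1)

theorem one_add_lam_inv : (1 : B.K) + ((E.lam⁻¹ : B.Kˣ) : B.K) ≠ 0 := by
  intro h1
  apply E.lam_ne
  have h2 := B.K_add_self ((E.lam⁻¹ : B.Kˣ) : B.K)
  have h3 : (1 : B.K) = ((E.lam⁻¹ : B.Kˣ) : B.K) := add_right_cancel (h1.trans h2.symm)
  have h4 : E.lam⁻¹ = 1 := Units.ext h3.symm
  rw [inv_eq_one.1 h4, Units.val_one]

/-- `X̂_c`. -/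
def Ch : Subgroup G := E.Wh ⊓ centralizer {E.h2}

variable {E}

theorem mem_Ch {g : G} : g ∈ E.Ch ↔ g ∈ E.Wh ∧ E.h2 * g = g * E.h2 := by
  unfold Ch
  rw [mem_inf, mem_centralizer_singleton_iff]
  exact and_congr_right fun _ => eq_comm

theorem fix_h2 {v : B.V} (h : B.mh E.lamF E.lam⁻¹ v = v) : v = (0, v.2.1, 0) := by
  rw [E.mh2] at h
  have h1 := congrArg Prod.fst h
  have h3 := congrArg (fun x => x.2.2) h
  simp only at h1 h3
  have e1 : v.1 = 0 := by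
    have : (1 + (E.lam : B.K)) * v.1 = 0 := by
      rw [add_mul, one_mul, h1]
      exact B.K_add_self _
    exact (mul_eq_zero.1 this).resolve_left E.one_add_lam
  have e3 : v.2.2 = 0 := by
    have : (1 + ((E.lam⁻¹ : B.Kˣ) : B.K)) * v.2.2 = 0 := by
      rw [add_mul, one_mul, h3]
      exact B.K_add_self _
    exact (mul_eq_zero.1 this).resolve_left E.one_add_lam_inv
  exact Prod.ext e1 (Prod.ext rfl e3)

theorem Ch.D {g : G} (hg : g ∈ E.Ch) : ∃ x, E.D g (0, x, 0) := by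
  rw [mem_Ch] at hg
  obtain ⟨v, hv⟩ := Wh.D hg.1
  have h1 := E.nm_h2.D hv
  rw [hg.2, mul_inv_cancel_right] at h1
  have h2 := fix_h2 (h1.uniq hv)
  rw [h2] at hv
  exact ⟨_, hv⟩

theorem Ch.mem_W {g : G} (hg : g ∈ E.Ch) (h : E.D g 0) : ∃ x, g = E.xc x := by
  rw [mem_Ch] at hg
  obtain ⟨v, rfl⟩ := Wh.mem_W hg.1 h
  have h1 := hg.2
  rw [← conj_eq_iff, E.nm_h2.act] at h1
  have h2 := fix_h2 (E.w_injective h1)
  exact ⟨v.2.1, by rw [h2, E.w_c]⟩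

theorem xc_mem_Ch (x : F) : E.xc x ∈ E.Ch := by
  rw [mem_Ch]
  refine ⟨by rw [← E.w_c]; exact w_mem_Wh _, E.h2_c x⟩

theorem T_Wh {k : G} (hk : k ∈ E.T) {g : G} (hg : g ∈ E.Wh) : k * g * k⁻¹ ∈ E.Wh := by
  obtain ⟨μ, ν, h⟩ := E.nm_T hk
  exact h.Wh hg

theorem T_Ch {k : G} (hk : k ∈ E.T) {g : G} (hg : g ∈ E.Ch) : k * g * k⁻¹ ∈ E.Ch := by
  rw [mem_Ch] at hg ⊢
  refine ⟨T_Wh hk hg.1, ?_⟩
  have h1 := E.T_comm _ hk _ E.h2_mem
  have h2 : E.h2 * k⁻¹ = k⁻¹ * E.h2 := E.T_comm _ E.h2_mem _ (E.T.inv_mem hk)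
  calc E.h2 * (k * g * k⁻¹) = (E.h2 * k) * g * k⁻¹ := by group
    _ = k * (E.h2 * g) * k⁻¹ := by rw [← h1]; group
    _ = k * g * (E.h2 * k⁻¹) := by rw [hg.2]; group
    _ = _ := by rw [h2]; group

/-- torus elements centralising `X_c` centralise `X̂_c`. -/
theorem T_comm_Ch {k : G} (hk : k ∈ E.T) (hc : ∀ x, k * E.xc x = E.xc x * k) {g : G}
    (hg : g ∈ E.Ch) : k * g = g * k := by
  obtain ⟨μ, ν, hn⟩ := E.nm_T hk
  obtain ⟨x, hx⟩ := Ch.D hg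
  have h1 := hn.D hx
  have e : B.mh μ ν (0, x, 0) = (0, x, 0) := by
    have := hn.act (0, x, 0)
    rw [E.w_c, hc, mul_inv_cancel_right, ← E.w_c] at this
    exact (E.w_injective this).symm
  rw [e] at h1
  have h2 := h1.mul hx.inv
  rw [V_add_self] at h2
  obtain ⟨y, hy⟩ := Ch.mem_W (E.Ch.mul_mem (T_Ch hk hg) (E.Ch.inv_mem hg)) h2
  obtain ⟨m, hm, hm2⟩ := E.T_odd k hk
  have h3 : k * g * k⁻¹ = E.xc y * g := by rw [← hy]; group
  have h4 := odd_fix hm hm2 h3 (hc y) (E.xc_sq y)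
  rw [h4, one_mul] at h3
  exact conj_eq_iff.1 h3

end WEnv

namespace Seed

open WEnv

variable {E : WEnv B G} (S : Seed E)

/-- `X̂_z`. -/
def Zh : Subgroup G := S.Y ⊓ E.Wh

variable {S}

theorem Zh.D {g : G} (hg : g ∈ S.Zh) : ∃ c, E.D g (c, 0, 0) := by
  obtain ⟨c, hc⟩ := S.conj_t g hg.1
  exact ⟨c, S.Q_comm g hg.1, by rw [E.w_z]; exact hc⟩

theorem Zh.mem_W {g : G} (hg : g ∈ S.Zh) (h : E.D g 0) : ∃ x, g = E.xz x := by
  obtain ⟨x, hx | hx⟩ := S.cent g hg.1 h.t_comm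
  · exact ⟨x, hx⟩
  · exfalso
    apply E.t_not_mem_Wh
    have e : E.t = g * E.xz x := by rw [hx, mul_assoc, E.xz_sq, mul_one]
    rw [e]
    apply E.Wh.mul_mem hg.2
    rw [← E.w_z]
    exact w_mem_Wh _

theorem xz_mem_Zh (x : B.K) : E.xz x ∈ S.Zh :=
  ⟨S.z_mem x, by rw [← E.w_z]; exact w_mem_Wh _⟩

theorem T_Zh {k : G} (hk : k ∈ E.T) {g : G} (hg : g ∈ S.Zh) : k * g * k⁻¹ ∈ S.Zh :=
  ⟨S.conj_T k hk g hg.1, T_Wh hk hg.2⟩

variable (S)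

theorem exists_Zh (c : B.K) : ∃ g ∈ S.Zh, E.D g (c, 0, 0) := by
  obtain ⟨y, hy, hy2⟩ := S.onto c
  have h1 : E.D y (c, 0, 0) := ⟨S.Q_comm y hy, by rw [WEnv.w_z]; exact hy2⟩
  rcases S.mem_or h1 with h | h
  · exact ⟨y, ⟨hy, h⟩, h1⟩
  · exact ⟨E.t * y, ⟨S.Y.mul_mem S.t_mem hy, h⟩, h1.t_mul⟩

theorem eq_Zh {g : G} {c : B.K} (hg : g ∈ E.Wh) (h : E.D g (c, 0, 0)) :
    ∃ r ∈ S.Zh, E.D r (c, 0, 0) ∧ ∃ f e, g = r * E.w (0, f, e) := by
  obtain ⟨r, hr, hr2⟩ := S.exists_Zh c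
  have h1 := hr2.inv.mul h
  rw [V_add_self] at h1
  obtain ⟨v, hv⟩ := Wh.mem_W (E.Wh.mul_mem (E.Wh.inv_mem hr.2) hg) h1
  refine ⟨r * E.xz v.1, S.Zh.mul_mem hr (xz_mem_Zh _), ?_, v.2.1, v.2.2, ?_⟩
  · have h2 := hr2.mul (D.w (E := E) (v.1, 0, 0))
    rwa [add_zero, E.w_z] at h2
  · have e : g = r * E.w v := by rw [← hv]; group
    rw [e]
    have e2 : v = (v.1, 0, 0) + (0, v.2.1, v.2.2) := by
      refine Prod.ext ?_ (Prod.ext ?_ ?_) <;> simp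
    conv_lhs => rw [e2, E.w_add, E.w_z]
    rw [mul_assoc]

theorem Zh_w_uniq {r r' : G} (hr : r ∈ S.Zh) (hr' : r' ∈ S.Zh) {f f' : F} {e e' : B.K}
    (h : r * E.w (0, f, e) = r' * E.w (0, f', e')) : f = f' ∧ e = e' := by
  have h1 : r'⁻¹ * r = E.w ((0, f', e') + (0, f, e)) := by
    rw [E.w_add]
    calc r'⁻¹ * r = r'⁻¹ * (r * E.w (0, f, e)) * (E.w (0, f, e))⁻¹ := by group
      _ = r'⁻¹ * (r' * E.w (0, f', e')) * (E.w (0, f, e))⁻¹ := by rw [h]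
      _ = E.w (0, f', e') * E.w (0, f, e) := by rw [E.w_inv]; group
  have h2 : r'⁻¹ * r ∈ S.Zh := S.Zh.mul_mem (S.Zh.inv_mem hr') hr
  obtain ⟨x, hx⟩ := Zh.mem_W h2 (by rw [h1]; exact D.w _)
  rw [hx, ← E.w_z] at h1
  have h3 := E.w_injective h1
  have h4 := congrArg (fun x => x.2.1) h3
  have h5 := congrArg (fun x => x.2.2) h3
  simp only [Prod.snd_add, Prod.fst_add] at h4 h5
  constructor
  · have := Bar.add_self f
    exact add_right_cancel (this.trans h4)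
  · have := B.K_add_self e
    exact add_right_cancel (this.trans h5)

include S in
theorem exists_Ch (x : F) : ∃ y ∈ E.Ch, E.D y (0, x, 0) := by
  obtain ⟨y, hy, hD⟩ := S.exists_Wh (0, x, 0)
  have h1 := E.nm_h2.D hD
  have e1 : B.mh E.lamF E.lam⁻¹ ((0 : B.K), x, (0 : B.K)) = (0, x, 0) := by
    rw [E.mh2]; simp
  rw [e1] at h1
  have h2 := h1.mul hD.inv
  rw [V_add_self] at h2
  obtain ⟨a, ha⟩ := Wh.mem_W (E.Wh.mul_mem (E.nm_h2.Wh hy) (E.Wh.inv_mem hy)) h2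
  have ha' : E.h2 * y * E.h2⁻¹ = E.w a * y := by rw [← ha]; group
  set b : B.V := (a.1 / (1 + (E.lam : B.K)), 0, a.2.2 / (1 + ((E.lam⁻¹ : B.Kˣ) : B.K))) with hb
  have hl := E.one_add_lam
  have hl' := E.one_add_lam_inv
  have e2 : B.mh E.lamF E.lam⁻¹ b + a = (0, a.2.1, 0) + b := by
    rw [E.mh2, hb]
    refine Prod.ext ?_ (Prod.ext ?_ ?_)
    · simp only [Prod.fst_add, zero_add]
      have h3 := B.K_add_self (a.1 / (1 + (E.lam : B.K)))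
      have h4 : (1 + (E.lam : B.K)) * (a.1 / (1 + (E.lam : B.K))) = a.1 := by field_simp
      have h5 := B.K_add_self a.1
      linear_combination h4 - h3 + h5 - h3 + h3
    · simp only [Prod.fst_add, Prod.snd_add, zero_add, add_zero]
    · simp only [Prod.snd_add, zero_add]
      have h3 := B.K_add_self (a.2.2 / (1 + ((E.lam⁻¹ : B.Kˣ) : B.K)))
      have h4 : (1 + ((E.lam⁻¹ : B.Kˣ) : B.K)) * (a.2.2 / (1 + ((E.lam⁻¹ : B.Kˣ) : B.K))) = a.2.2 := by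
        field_simp
      have h5 := B.K_add_self a.2.2
      linear_combination h4 - h3 + h5 - h3 + h3
  refine ⟨E.w b * y, ?_, hD.w_mul b⟩
  have h3 : E.h2 * (E.w b * y) * E.h2⁻¹ = E.xc a.2.1 * (E.w b * y) := by
    calc E.h2 * (E.w b * y) * E.h2⁻¹ = (E.h2 * E.w b * E.h2⁻¹) * (E.h2 * y * E.h2⁻¹) := by group
      _ = E.w (B.mh E.lamF E.lam⁻¹ b + a) * y := by
        rw [E.nm_h2.act, ha', ← mul_assoc, ← E.w_add]
      _ = _ := by rw [e2, E.w_add, E.w_c, mul_assoc]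
  obtain ⟨m, hm, hm2⟩ := E.T_odd _ E.h2_mem
  have h4 := odd_fix hm hm2 h3 (E.h2_c _) (E.xc_sq _)
  rw [h4, one_mul] at h3
  rw [mem_Ch]
  exact ⟨E.Wh.mul_mem (w_mem_Wh _) hy, conj_eq_iff.1 h3⟩

end Seed

end Cfsg.Agent.StdRank2.UFour
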