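import Cfsg.Agent.StdRank2.UFour.Env

/-!
# Growth of `W`: the groups `N' = {y ∈ C(Q) : [y, t] ∈ W}` and `Ŵ`

`E.D y v` says that `y` commutes with `Q` and `y t y⁻¹ = w v · t`.
-/

set_option autoImplicit false
set_option linter.unusedSectionVars false

namespace Cfsg.Agent.StdRank2.UFour

open Subgroup

variable {F : Type*} [Field F] [CharP F 2] {B : Bar F} {G : Type*} [Group G]

namespace WEnv

variable (E : WEnv B G)

/-- `y` centralises `Q` and `[y, t] = w v`. -/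
def D (y : G) (v : B.V) : Prop := (∀ g ∈ E.Q, y * g = g * y) ∧ y * E.t * y⁻¹ = E.w v * E.t

variable {E}

theorem D.w_comm {y : G} {v : B.V} (h : E.D y v) (u : B.V) : y * E.w u = E.w u * y :=
  h.1 _ (E.w_mem_Q u)

theorem D.conj_w {y : G} {v : B.V} (h : E.D y v) (u : B.V) : y * E.w u * y⁻¹ = E.w u := by
  rw [h.w_comm u, mul_inv_cancel_right]

theorem D.uniq {y : G} {v v' : B.V} (h : E.D y v) (h' : E.D y v') : v = v' :=
  E.w_injective (mul_right_cancel (h.2.symm.trans h'.2))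

theorem D.mul {y y' : G} {v v' : B.V} (h : E.D y v) (h' : E.D y' v') : E.D (y * y') (v + v') := by
  refine ⟨fun g hg => ?_, ?_⟩
  · rw [mul_assoc, h'.1 g hg, ← mul_assoc, h.1 g hg, mul_assoc]
  · calc y * y' * E.t * (y * y')⁻¹ = y * (y' * E.t * y'⁻¹) * y⁻¹ := by group
      _ = (y * E.w v' * y⁻¹) * (y * E.t * y⁻¹) := by rw [h'.2]; group
      _ = E.w (v + v') * E.t := by
        rw [h.conj_w, h.2, ← mul_assoc, ← E.w_add, add_comm]

theorem D.one : E.D 1 0 :=
  ⟨fun g _ => by rw [one_mul, mul_one], by rw [E.w_zero]; simp⟩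

theorem D.inv {y : G} {v : B.V} (h : E.D y v) : E.D y⁻¹ v := by
  refine ⟨fun g hg => ?_, ?_⟩
  · have := h.1 g hg
    calc y⁻¹ * g = y⁻¹ * (g * y) * y⁻¹ := by group
      _ = y⁻¹ * (y * g) * y⁻¹ := by rw [this]
      _ = g * y⁻¹ := by group
  · have h1 := h.2
    have h2 := h.w_comm v
    calc y⁻¹ * E.t * y⁻¹⁻¹ = y⁻¹ * (E.w v * (E.w v * E.t)) * y := by
          rw [← mul_assoc (E.w v), E.w_sq, one_mul, inv_inv]
      _ = y⁻¹ * (E.w v * (y * E.t * y⁻¹)) * y := by rw [h1]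
      _ = y⁻¹ * (E.w v * y) * E.t := by group
      _ = y⁻¹ * (y * E.w v) * E.t := by rw [h2]
      _ = _ := by group

theorem D.w (u : B.V) : E.D (E.w u) 0 := by
  refine ⟨fun g hg => E.w_Q u hg, ?_⟩
  rw [← E.t_w, mul_inv_cancel_right, E.w_zero, one_mul]

theorem D.t : E.D E.t 0 :=
  ⟨fun g hg => E.t_Q g hg, by rw [mul_inv_cancel_right, E.w_zero, one_mul]⟩

theorem D.t_comm {y : G} (h : E.D y 0) : y * E.t = E.t * y := by
  have h2 := h.2
  rw [E.w_zero, one_mul] at h2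
  exact conj_eq_iff.1 h2

theorem D.of_comm {y : G} {v : B.V} (h : E.D y v) (hc : y * E.t = E.t * y) : v = 0 := by
  have h2 := h.2
  rw [hc, mul_inv_cancel_right] at h2
  exact E.w_eq_one (right_eq_mul.1 h2)

theorem D.mem_W {y : G} (h : E.D y 0) : ∃ u, y = E.w u ∨ y = E.t * E.w u :=
  E.cent_w h.t_comm h.1

theorem D.w_mul {y : G} {v : B.V} (h : E.D y v) (u : B.V) : E.D (E.w u * y) v := by
  have := (D.w (E := E) u).mul h
  rwa [zero_add] at this

theorem D.t_mul {y : G} {v : B.V} (h : E.D y v) : E.D (E.t * y) v := by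
  have := (D.t (E := E)).mul h
  rwa [zero_add] at this

/-- `N'/W` is elementary abelian. -/
theorem D.sq {y : G} {v : B.V} (h : E.D y v) : ∃ u, y * y = E.w u := by
  have h1 := h.mul h
  rw [V_add_self] at h1
  obtain ⟨u, hu | hu⟩ := h1.mem_W
  · exact ⟨u, hu⟩
  · exfalso
    have h2 : y * E.t = E.t * y := by
      have e : E.t = y * y * E.w u := by rw [hu, mul_assoc, E.w_sq, mul_one]
      rw [e]
      calc y * (y * y * E.w u) = y * y * (y * E.w u) := by group
        _ = y * y * (E.w u * y) := by rw [h.w_comm]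
        _ = _ := by group
    have h3 := h.of_comm h2
    subst h3
    obtain ⟨a, ha | ha⟩ := h.mem_W
    · rw [ha, E.w_sq] at hu
      apply E.t_not_w u
      have := mul_eq_one_iff_eq_inv.1 hu.symm
      rw [this, E.w_inv]
    · have e : y * y = 1 := by
        rw [ha]
        calc E.t * E.w a * (E.t * E.w a) = (E.t * E.w a) * (E.w a * E.t) := by rw [E.t_w]
          _ = E.t * (E.w a * E.w a) * E.t := by group
          _ = 1 := by rw [E.w_sq, mul_one, E.t_sq]
      rw [e] at hu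
      apply E.t_not_w u
      have := mul_eq_one_iff_eq_inv.1 hu.symm
      rw [this, E.w_inv]

theorem D.comm {y y' : G} {v v' : B.V} (h : E.D y v) (h' : E.D y' v') :
    ∃ u, y * y' = E.w u * (y' * y) := by
  obtain ⟨a, ha⟩ := h.sq
  obtain ⟨b, hb⟩ := h'.sq
  obtain ⟨c, hc⟩ := (h.mul h').sq
  refine ⟨c + b + a, ?_⟩
  have e1 : y⁻¹ = E.w a * y := by
    rw [inv_eq_iff_mul_eq_one, ← mul_assoc, h.w_comm, mul_assoc, ha, E.w_sq]
  have e2 : y'⁻¹ = E.w b * y' := by
    rw [inv_eq_iff_mul_eq_one, ← mul_assoc, h'.w_comm, mul_assoc, hb, E.w_sq]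
  have e3 : y * y' = E.w c * (y'⁻¹ * y⁻¹) := by
    rw [← hc]; group
  rw [e3, e1, e2, E.w_add, E.w_add]
  calc E.w c * (E.w b * y' * (E.w a * y)) = E.w c * E.w b * (y' * E.w a) * y := by group
    _ = E.w c * E.w b * (E.w a * y') * y := by rw [h'.w_comm]
    _ = _ := by group

/-! ### Normalisers -/

variable (E) in
/-- `g` commutes with `t` and with `h 1 lam`, normalises `Q` and acts on `W` by `f`. -/
structure Nm (g : G) (f : B.V → B.V) : Prop where
  comm_t : E.t * g = g * E.t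
  comm_h : g * E.h 1 E.lam = E.h 1 E.lam * g
  nQ : ∀ x, x ∈ E.Q ↔ g * x * g⁻¹ ∈ E.Q
  act : ∀ v, g * E.w v * g⁻¹ = E.w (f v)

variable (E)

theorem nm_xa (s : F) : E.Nm (E.xa s) (B.ma s) where
  comm_t := E.t_a s
  comm_h := by
    have := E.h_a 1 E.lam s
    rw [Units.val_one, one_mul, conj_eq_iff] at this
    exact this.symm
  nQ x := by
    refine ⟨fun h => E.xa_Q s x h, fun h => ?_⟩
    have := E.xa_Q s _ h
    rw [inv_of_sq (E.xa_sq s)] at this
    have e : E.xa s * (E.xa s * x * E.xa s) * E.xa s = x := by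
      calc E.xa s * (E.xa s * x * E.xa s) * E.xa s = (E.xa s * E.xa s) * x * (E.xa s * E.xa s) := by
            group
        _ = x := by rw [E.xa_sq, one_mul, mul_one]
    rwa [e] at this
  act := E.conj_ma s

theorem nm_na : E.Nm E.na B.mn where
  comm_t := E.t_na
  comm_h := E.na_h _
  nQ := E.na_Q
  act := E.conj_mn

theorem nm_h (μ : Fˣ) (ν : B.Kˣ) : E.Nm (E.h μ ν) (B.mh μ ν) where
  comm_t := E.T_t _ (E.h_mem _ _)
  comm_h := E.T_comm _ (E.h_mem _ _) _ (E.h_mem _ _)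
  nQ := E.T_Q _ (E.h_mem _ _)
  act := E.conj_mh μ ν

theorem nm_T {g : G} (hg : g ∈ E.T) : ∃ μ ν, E.Nm g (B.mh μ ν) := by
  obtain ⟨μ, ν, h⟩ := E.conj_T_w hg
  exact ⟨μ, ν, E.T_t g hg, E.T_comm _ hg _ (E.h_mem _ _), E.T_Q g hg, h⟩

variable {E}

theorem Nm.D {g : G} {f : B.V → B.V} (hg : E.Nm g f) {y : G} {v : B.V} (h : E.D y v) :
    E.D (g * y * g⁻¹) (f v) := by
  refine ⟨fun x hx => ?_, ?_⟩
  · have h1 : g⁻¹ * x * g ∈ E.Q := by
      rw [hg.nQ]
      have e : g * (g⁻¹ * x * g) * g⁻¹ = x := by group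
      rwa [e]
    have h2 := h.1 _ h1
    calc g * y * g⁻¹ * x = g * (y * (g⁻¹ * x * g)) * g⁻¹ := by group
      _ = g * ((g⁻¹ * x * g) * y) * g⁻¹ := by rw [h2]
      _ = _ := by group
  · have ht : g⁻¹ * E.t * g = E.t := by rw [mul_assoc, hg.comm_t, ← mul_assoc, inv_mul_cancel, one_mul]
    calc g * y * g⁻¹ * E.t * (g * y * g⁻¹)⁻¹ = g * (y * (g⁻¹ * E.t * g) * y⁻¹) * g⁻¹ := by group
      _ = (g * E.w v * g⁻¹) * (g * E.t * g⁻¹) := by rw [ht, h.2]; group
      _ = E.w (f v) * E.t := by rw [hg.act, ← hg.comm_t, mul_inv_cancel_right]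

end WEnv

/-! ### Surjectivity -/

namespace Seed

variable {E : WEnv B G} (S : Seed E)

include S

theorem exists_D (v : B.V) : ∃ y, E.D y v := by
  let A : AddSubgroup B.V :=
    { carrier := {v | ∃ y, E.D y v}
      add_mem' := by
        rintro a b ⟨y, hy⟩ ⟨y', hy'⟩
        exact ⟨_, hy.mul hy'⟩
      zero_mem' := ⟨1, WEnv.D.one⟩
      neg_mem' := by
        rintro a ⟨y, hy⟩
        have : -a = a := neg_eq_of_add_eq_zero_left (WEnv.V_add_self a)
        rw [this]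
        exact ⟨y, hy⟩ }
  have hA : A = ⊤ := by
    have hb : ∀ c, ((0 : B.K), (0 : F), c) ∈ A := by
      intro c
      obtain ⟨y, hy, hy2⟩ := S.onto c
      have h1 : E.D y (c, 0, 0) := ⟨S.Q_comm y hy, by rw [WEnv.w_z]; exact hy2⟩
      have h2 := E.nm_na.D h1
      have e : B.mn (c, 0, 0) = (0, 0, c) := by
        unfold Bar.mn
        refine Prod.ext rfl (Prod.ext (map_zero B.s) rfl)
      rw [e] at h2
      exact ⟨_, h2⟩
    apply B.gen A hb
    intro s c
    obtain ⟨y, hy⟩ := hb c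
    exact ⟨_, (E.nm_xa s).D hy⟩
  have : v ∈ A := by rw [hA]; trivial
  exact this

end Seed

end Cfsg.Agent.StdRank2.UFour
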