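import Cfsg.Agent.StdRank2.UFour.GrowW

/-!
# The group `Ŵ`

`x ∈ Ŵ` iff `x ∈ W φ(y)` with `y ∈ N'`, `φ(y) = y (h₁ y h₁⁻¹)`, `h₁ = h 1 lam`. We show
`N' = Ŵ ∪ t Ŵ`, `t ∉ Ŵ`, and that `Ŵ` is abelian.
-/

set_option autoImplicit false
set_option linter.unusedSectionVars false

namespace Cfsg.Agent.StdRank2.UFour

open Subgroup

variable {F : Type*} [Field F] [CharP F 2] {B : Bar F} {G : Type*} [Group G]

namespace WEnv

variable (E : WEnv B G)

/-- `φ(y) = y (h₁ y h₁⁻¹)`. -/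
def phi (y : G) : G := y * (E.h 1 E.lam * y * (E.h 1 E.lam)⁻¹)

variable {E}

theorem D.phi {y : G} {v : B.V} (h : E.D y v) : E.D (E.phi y) (v + B.mh 1 E.lam v) :=
  h.mul ((E.nm_h 1 E.lam).D h)

theorem D.phi_mul {y y' : G} {v v' : B.V} (h : E.D y v) (h' : E.D y' v') :
    ∃ u, E.phi y * E.phi y' = E.w u * E.phi (y * y') := by
  have hk := (E.nm_h 1 E.lam).D h
  obtain ⟨u, hu⟩ := hk.comm h'
  refine ⟨u, ?_⟩
  unfold WEnv.phi
  set k := E.h 1 E.lam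
  calc y * (k * y * k⁻¹) * (y' * (k * y' * k⁻¹)) = y * (k * y * k⁻¹ * y') * (k * y' * k⁻¹) := by
        group
    _ = (y * E.w u) * y' * (k * y * k⁻¹) * (k * y' * k⁻¹) := by rw [hu]; group
    _ = (E.w u * y) * y' * (k * y * k⁻¹) * (k * y' * k⁻¹) := by rw [h.w_comm]
    _ = _ := by group

theorem D.phi_inv {y : G} {v : B.V} (h : E.D y v) : ∃ u, (E.phi y)⁻¹ = E.w u * E.phi y⁻¹ := by
  have hk := (E.nm_h 1 E.lam).D h.inv
  obtain ⟨u, hu⟩ := hk.comm h.inv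
  refine ⟨u, ?_⟩
  unfold WEnv.phi
  set k := E.h 1 E.lam
  calc (y * (k * y * k⁻¹))⁻¹ = (k * y⁻¹ * k⁻¹) * y⁻¹ := by group
    _ = _ := hu

variable (E)

/-- `Ŵ`. -/
def Wh : Subgroup G where
  carrier := {g | ∃ y v, E.D y v ∧ ∃ u, g = E.w u * E.phi y}
  one_mem' := ⟨1, 0, D.one, 0, by rw [E.w_zero]; simp [phi]⟩
  mul_mem' := by
    rintro a b ⟨y, v, hy, u, rfl⟩ ⟨y', v', hy', u', rfl⟩
    obtain ⟨c, hc⟩ := hy.phi_mul hy'
    refine ⟨y * y', v + v', hy.mul hy', u + u' + c, ?_⟩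
    rw [E.w_add, E.w_add]
    calc E.w u * E.phi y * (E.w u' * E.phi y') = E.w u * (E.phi y * E.w u') * E.phi y' := by group
      _ = E.w u * (E.w u' * E.phi y) * E.phi y' := by rw [hy.phi.w_comm]
      _ = E.w u * E.w u' * (E.phi y * E.phi y') := by group
      _ = _ := by rw [hc]; group
  inv_mem' := by
    rintro a ⟨y, v, hy, u, rfl⟩
    obtain ⟨c, hc⟩ := hy.phi_inv
    refine ⟨y⁻¹, v, hy.inv, c + u, ?_⟩
    rw [mul_inv_rev, hc, E.w_inv, mul_assoc, hy.inv.phi.w_comm, ← mul_assoc, ← E.w_add]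

variable {E}

theorem add_mh_eq_zero {v : B.V} (h : v + B.mh 1 E.lam v = 0) : v = 0 := by
  have hl : (1 : B.K) + E.lam ≠ 0 := by
    intro h1
    apply E.lam_ne
    have h2 := B.K_add_self (E.lam : B.K)
    exact (add_right_cancel (h1.trans h2.symm)).symm
  have hl' : (1 : F) + ((E.lam : B.K) : F) ≠ 0 := by
    intro h1
    exact hl (Subtype.ext h1)
  unfold Bar.mh at h
  have h1 := congrArg Prod.fst h
  have h2 := congrArg (fun x => x.2.1) h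
  have h3 := congrArg (fun x => x.2.2) h
  simp only [Prod.fst_add, Prod.snd_add, Units.val_one, B.nm_one, one_mul, Prod.fst_zero,
    Prod.snd_zero] at h1 h2 h3
  refine Prod.ext ?_ (Prod.ext ?_ ?_)
  · have : (1 + (E.lam : B.K)) * v.1 = 0 := by linear_combination h1
    exact (mul_eq_zero.1 this).resolve_left hl
  · have : (1 + ((E.lam : B.K) : F)) * v.2.1 = 0 := by linear_combination h2
    exact (mul_eq_zero.1 this).resolve_left hl'
  · have : (1 + (E.lam : B.K)) * v.2.2 = 0 := by linear_combination h3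
    exact (mul_eq_zero.1 this).resolve_left hl

variable (E) in
theorem exists_add_mh (v : B.V) : ∃ u, u + B.mh 1 E.lam u = v := by
  have hl : (1 : B.K) + E.lam ≠ 0 := by
    intro h1
    apply E.lam_ne
    have h2 := B.K_add_self (E.lam : B.K)
    exact (add_right_cancel (h1.trans h2.symm)).symm
  have hl' : (1 : F) + ((E.lam : B.K) : F) ≠ 0 := by
    intro h1
    exact hl (Subtype.ext h1)
  refine ⟨((1 + (E.lam : B.K))⁻¹ * v.1, (1 + ((E.lam : B.K) : F))⁻¹ * v.2.1,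
    (1 + (E.lam : B.K))⁻¹ * v.2.2), ?_⟩
  unfold Bar.mh
  refine Prod.ext ?_ (Prod.ext ?_ ?_)
  · simp only [Prod.fst_add, Units.val_one, B.nm_one, one_mul]
    field_simp
  · simp only [Prod.fst_add, Prod.snd_add, Units.val_one, one_mul]
    field_simp
  · simp only [Prod.snd_add]
    field_simp

theorem Wh.D {g : G} (hg : g ∈ E.Wh) : ∃ v, E.D g v := by
  obtain ⟨y, v, hy, u, rfl⟩ := hg
  exact ⟨_, hy.phi.w_mul u⟩

theorem w_mem_Wh (v : B.V) : E.w v ∈ E.Wh :=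
  ⟨1, 0, D.one, v, by simp [phi]⟩

theorem Wh.mem_W {g : G} (hg : g ∈ E.Wh) (h0 : E.D g 0) : ∃ v, g = E.w v := by
  obtain ⟨y, v, hy, u, rfl⟩ := hg
  have h1 : v + B.mh 1 E.lam v = 0 := (hy.phi.w_mul u).uniq h0
  have h2 := add_mh_eq_zero h1
  subst h2
  obtain ⟨a, ha | ha⟩ := hy.mem_W
  · refine ⟨u + (a + B.mh 1 E.lam a), ?_⟩
    rw [E.w_add, E.w_add, phi, ha, E.conj_mh]
  · refine ⟨u + (a + B.mh 1 E.lam a), ?_⟩
    rw [E.w_add, E.w_add, phi, ha]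
    have hk : E.h 1 E.lam * (E.t * E.w a) * (E.h 1 E.lam)⁻¹ = E.t * E.w (B.mh 1 E.lam a) := by
      rw [← E.conj_mh, ← mul_assoc, ← E.T_t _ (E.h_mem _ _)]
      group
    rw [hk, E.t_w a]
    calc E.w u * (E.w a * E.t * (E.t * E.w (B.mh 1 E.lam a)))
        = E.w u * (E.w a * (E.t * E.t) * E.w (B.mh 1 E.lam a)) := by group
      _ = _ := by rw [E.t_sq, mul_one]

theorem t_not_mem_Wh : E.t ∉ E.Wh := by
  intro h
  obtain ⟨v, hv⟩ := Wh.mem_W h D.t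
  exact E.t_not_w v hv

theorem Nm.Wh {g : G} {f : B.V → B.V} (hg : E.Nm g f) {x : G} (h : x ∈ E.Wh) :
    g * x * g⁻¹ ∈ E.Wh := by
  obtain ⟨y, v, hy, u, rfl⟩ := h
  refine ⟨g * y * g⁻¹, f v, hg.D hy, f u, ?_⟩
  rw [← hg.act]
  unfold phi
  set k := E.h 1 E.lam with hk
  have e : k⁻¹ * g⁻¹ = g⁻¹ * k⁻¹ := by
    rw [← mul_inv_rev, ← mul_inv_rev, hg.comm_h]
  calc g * (E.w u * (y * (k * y * k⁻¹))) * g⁻¹
      = (g * E.w u * g⁻¹) * (g * y * g⁻¹ * ((g * k) * y * (k⁻¹ * g⁻¹))) := by group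
    _ = (g * E.w u * g⁻¹) * (g * y * g⁻¹ * ((k * g) * y * (g⁻¹ * k⁻¹))) := by
      rw [e, hg.comm_h]
    _ = _ := by group

end WEnv

namespace Seed

open WEnv

variable {E : WEnv B G} (S : Seed E)

include S

theorem exists_Wh (v : B.V) : ∃ y ∈ E.Wh, E.D y v := by
  obtain ⟨u, hu⟩ := E.exists_add_mh v
  obtain ⟨y, hy⟩ := S.exists_D u
  refine ⟨E.phi y, ⟨y, u, hy, 0, by rw [E.w_zero, one_mul]⟩, ?_⟩
  rw [← hu]
  exact hy.phi

theorem mem_or {y : G} {v : B.V} (hy : E.D y v) : y ∈ E.Wh ∨ E.t * y ∈ E.Wh := by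
  obtain ⟨x, hx, hv⟩ := S.exists_Wh v
  have h1 := hy.mul hv.inv
  rw [V_add_self] at h1
  obtain ⟨u, hu | hu⟩ := h1.mem_W
  · left
    have : y = E.w u * x := by rw [← hu]; group
    rw [this]
    exact E.Wh.mul_mem (w_mem_Wh u) hx
  · right
    have : E.t * y = E.w u * x := by
      have e : y = E.t * E.w u * x := by rw [← hu]; group
      rw [e, ← mul_assoc, ← mul_assoc, E.t_sq, one_mul]
    rw [this]
    exact E.Wh.mul_mem (w_mem_Wh u) hx

end Seed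

end Cfsg.Agent.StdRank2.UFour
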