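import Cfsg.Agent.StdRank2.UFour.SeedU4

/-!
# The mover: an element `n` with `n t n⁻¹ = z t`, `n z n⁻¹ = z`, `z ∈ X_z`, normalises `⟨t⟩ X_z`

`normP0` (generic): `n` normalises `C(t) ∩ C(z)`, hence its perfect residual `P₀` and `C_{C(t)}(P₀) = ⟨t⟩ X_z`.
`power`: from a 2-element of `N(T)` moving `t`.
`U4`: `SeedU4.AIn`, `exists_seed_of_mover`.
-/

set_option autoImplicit false
set_option linter.unusedSectionVars false

namespace Cfsg.Agent.StdRank2.UFour.Mover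

open Subgroup
open scoped commutatorElement
open Cfsg.Agent.StdEven.Syl
open Cfsg.Agent.StdRank2.UFour.Seeding Cfsg.Agent.StdRank2.UFour.SeedMove
open Cfsg.Agent.StdRank2.UFour.SeedPre Cfsg.Agent.StdRank2.UFour.SeedOdd

section generic

variable {G : Type*} [Group G]

/-- `n` fixes `v` and maps `t` to `v t`: it normalises `C(t) ∩ C(v)`. -/
theorem conj_mem_cent {n t v : G} (h1 : n * t * n⁻¹ = v * t) (h2 : n * v * n⁻¹ = v) {g : G}
    (hgt : g * t = t * g) (hgv : g * v = v * g) :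
    (n * g * n⁻¹) * t = t * (n * g * n⁻¹) ∧ (n * g * n⁻¹) * v = v * (n * g * n⁻¹) := by
  have e2 : n⁻¹ * v * n = v := by
    calc n⁻¹ * v * n = n⁻¹ * (n * v * n⁻¹) * n := by rw [h2]
      _ = v := by group
  have e1 : n⁻¹ * t * n = v⁻¹ * t := by
    have h3 : n⁻¹ * (v * t) * n = t := by rw [← h1]; group
    have h4 : n⁻¹ * (v * t) * n = (n⁻¹ * v * n) * (n⁻¹ * t * n) := by group
    rw [h4, e2] at h3
    exact eq_inv_mul_of_mul_eq h3
  constructor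
  · have h3 : g * (v⁻¹ * t) = v⁻¹ * t * g := by
      have h4 : g * v⁻¹ = v⁻¹ * g := by
        rw [eq_inv_mul_iff_mul_eq, ← mul_assoc, ← hgv]; group
      rw [← mul_assoc, h4, mul_assoc, hgt, mul_assoc]
    rw [← e1] at h3
    calc n * g * n⁻¹ * t = n * (g * (n⁻¹ * t * n)) * n⁻¹ := by group
      _ = _ := by rw [h3]; group
  · have h3 : g * (n⁻¹ * v * n) = n⁻¹ * v * n * g := by rw [e2, hgv]
    calc n * g * n⁻¹ * v = n * (g * (n⁻¹ * v * n)) * n⁻¹ := by group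
      _ = _ := by rw [h3]; group

/-- the perfect residual is normalised. -/
theorem normP0 {n t v : G} (h1 : n * t * n⁻¹ = v * t) (h2 : n * v * n⁻¹ = v) {P0 : Subgroup G}
    (hp : ⁅P0, P0⁆ = P0) (hPt : ∀ g ∈ P0, g * t = t * g) (hPv : ∀ g ∈ P0, g * v = v * g)
    (hmax : ∀ R : Subgroup G, ⁅R, R⁆ = R → (∀ g ∈ R, g * t = t * g) → (∀ g ∈ R, g * v = v * g) →
      R ≤ P0) : ∀ g ∈ P0, n * g * n⁻¹ ∈ P0 := by
  have h3 := hmax (P0.map (MulAut.conj n).toMonoidHom) (by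
    rw [← Subgroup.map_commutator, hp]) (by
    rintro _ ⟨g, hg, rfl⟩
    exact (conj_mem_cent h1 h2 (hPt g hg) (hPv g hg)).1) (by
    rintro _ ⟨g, hg, rfl⟩
    exact (conj_mem_cent h1 h2 (hPt g hg) (hPv g hg)).2)
  intro g hg
  exact h3 (conj_mem_map n hg)

/-- **The power trick**: a 2-element `g` with `t * g^i t g^-i` in the elementary abelian group `W`; there is a power
`n` moving `t` to `t v` and fixing `v`. -/
theorem power {g t : G} (htt : t * t = 1) {W : Subgroup G} (hW : ∀ w ∈ W, w * t = t * w)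
    (horb : ∀ i : ℕ, t * (g ^ i * t * (g ^ i)⁻¹) ∈ W) {k : ℕ} (hk : g ^ 2 ^ k = 1) (hgt : g * t ≠ t * g) :
    ∃ i : ℕ, ∃ v ∈ W, v ≠ 1 ∧ g ^ i * t * (g ^ i)⁻¹ = v * t ∧ g ^ i * v * (g ^ i)⁻¹ = v := by
  classical
  -- the first power commuting with `t`
  have hex : ∃ j, g ^ 2 ^ j * t = t * g ^ 2 ^ j := ⟨k, by rw [hk, one_mul, mul_one]⟩
  have hmin := fun j => Nat.find_min hex (m := j)
  have hspec := Nat.find_spec hex
  have h0 : Nat.find hex ≠ 0 := by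
    intro h
    rw [h, pow_zero, pow_one] at hspec
    exact hgt hspec
  obtain ⟨j, hj⟩ := Nat.exists_eq_succ_of_ne_zero h0
  have hne := hmin j (by omega)
  rw [hj] at hspec
  set n := g ^ 2 ^ j with hn
  have hnn : n * n = g ^ 2 ^ (j + 1) := by rw [hn, ← pow_add]; congr 1; ring
  have hs : n * n * t = t * (n * n) := by rw [hnn]; exact hspec
  have hv := horb (2 ^ j)
  rw [← hn] at hv
  have h1 : n * t * n⁻¹ = t * (n * t * n⁻¹) * t := by
    have h2 := hW _ hv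
    rw [h2, ← mul_assoc, htt, one_mul]
  refine ⟨2 ^ j, t * (n * t * n⁻¹), hv, ?_, h1, ?_⟩
  · intro h
    apply hne
    rw [h, one_mul] at h1
    exact mul_inv_eq_iff_eq_mul.1 h1
  · rw [← hn]
    have h3 : n * (t * (n * t * n⁻¹)) * n⁻¹ = (n * t * n⁻¹) * (n * n * t * (n * n)⁻¹) := by group
    rw [h3, hs, mul_inv_cancel_right]
    calc n * t * n⁻¹ * t = t * (n * t * n⁻¹) * t * t := by rw [← h1]
      _ = _ := by rw [mul_assoc, htt, mul_one]

end generic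

/-! ### `U₄(q)` -/

section U4

open Cfsg.Agent.StdRank2.UFour.SeedU4

variable {F : Type*} [Field F] [CharP F 2] {B : Bar F} {G : Type*} [Group G] {E : Env B G}

variable (E) in
/-- `P₀ = ⟨U, U^{nb}⟩`. -/
def P0 : Subgroup G := closure ((UU E.toWEnv : Set G) ∪ {g | ∃ u ∈ UU E.toWEnv, g = E.nb * u * E.nb⁻¹})

theorem P0_le : P0 E ≤ P E := closure_mono fun _ hg => Or.inl hg

theorem U_le : UU E.toWEnv ≤ P0 E := fun _ hu => subset_closure (Or.inl hu)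

theorem nU_le {u : G} (hu : u ∈ UU E.toWEnv) : E.nb * u * E.nb⁻¹ ∈ P0 E :=
  subset_closure (Or.inr ⟨u, hu, rfl⟩)

theorem nb_mem [Finite F] (hb : Braid E) : E.nb ∈ P0 E := (pre hb).nb_gen

theorem T_P0 {k : G} (hk : k ∈ E.T) {g : G} (hg : g ∈ P0 E) : k * g * k⁻¹ ∈ P0 E := by
  have hn : E.nb⁻¹ = E.nb := WEnv.inv_of_sq E.nb_sq
  have h1 : P0 E ≤ (P0 E).comap (MulAut.conj k).toMonoidHom := by
    unfold P0
    rw [Subgroup.closure_le]
    rintro g (hg | ⟨u, hu, rfl⟩)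
    · exact U_le (Pre.T_U hk hg)
    · have hk' : E.nb⁻¹ * k * E.nb ∈ E.T := by
        have := (E.nb_T k).1 hk
        rwa [hn] at this ⊢
      have h2 := nU_le (Pre.T_U hk' hu)
      have e : E.nb * (E.nb⁻¹ * k * E.nb * u * (E.nb⁻¹ * k * E.nb)⁻¹) * E.nb⁻¹ =
          k * (E.nb * u * E.nb⁻¹) * k⁻¹ := by group
      rw [e] at h2
      exact h2
  exact h1 hg

/-- **`P₀` is perfect.** -/
theorem P0_perf [Finite F] (hb : Braid E) : ⁅P0 E, P0 E⁆ = P0 E := by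
  have hn : E.nb⁻¹ = E.nb := WEnv.inv_of_sq E.nb_sq
  apply le_antisymm (Subgroup.commutator_le_self _)
  set C := ⁅P0 E, P0 E⁆ with hC
  have hnb := nb_mem hb
  -- a torus element of `P₀`
  let k := E.h 1 E.lam
  have hkT : k ∈ E.T := E.h_mem 1 E.lam
  let k0 := E.nb * k * E.nb⁻¹ * k⁻¹
  have hk0 : k0 ∈ P0 E := by
    have e : k0 = E.nb * (k * E.nb⁻¹ * k⁻¹) := by simp only [k0]; group
    rw [e]
    exact mul_mem hnb (T_P0 hkT (inv_mem hnb))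
  have hk'T : E.nb * k * E.nb⁻¹ ∈ E.T := (E.nb_T k).1 hkT
  have hl0 : ((E.lam : B.K) : F) ≠ 0 := fun h => E.lam.ne_zero (Subtype.ext h)
  have hl1 : ((E.lam : B.K) : F) + 1 ≠ 0 := fun h => E.lam_ne (Subtype.ext (by
    change ((E.lam : B.K) : F) = 1
    linear_combination h - CharTwo.add_self_eq_zero (1 : F)))
  have kia : ∀ s, k⁻¹ * E.xa s * k = E.xa s := by
    intro s
    have h1 := E.h_a 1 E.lam s
    rw [Units.val_one, one_mul] at h1
    change k * E.xa s * k⁻¹ = E.xa s at h1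
    calc k⁻¹ * E.xa s * k = k⁻¹ * (k * E.xa s * k⁻¹) * k := by rw [h1]
      _ = _ := by group
  have kic : ∀ s, k⁻¹ * E.xc s * k = E.xc (((E.lam : B.K) : F)⁻¹ * s) := by
    intro s
    have h1 := E.h_c 1 E.lam (((E.lam : B.K) : F)⁻¹ * s)
    rw [Units.val_one, one_mul, ← mul_assoc, mul_inv_cancel₀ hl0, one_mul] at h1
    change k * E.xc _ * k⁻¹ = E.xc s at h1
    rw [← h1]; group
  have ca : ∀ s, E.nb * k * E.nb⁻¹ * E.xa s * (E.nb * k * E.nb⁻¹)⁻¹ = E.xa (((E.lam : B.K) : F) * s) := by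
    intro s
    have h1 : E.nb⁻¹ * E.xa s * E.nb = E.xc s := by rw [← E.nb_c]; group
    have h2 : k * E.xc s * k⁻¹ = E.xc (((E.lam : B.K) : F) * s) := by
      have := E.h_c 1 E.lam s
      rw [Units.val_one, one_mul] at this
      exact this
    calc E.nb * k * E.nb⁻¹ * E.xa s * (E.nb * k * E.nb⁻¹)⁻¹
        = E.nb * (k * (E.nb⁻¹ * E.xa s * E.nb) * k⁻¹) * E.nb⁻¹ := by group
      _ = _ := by rw [h1, h2, E.nb_c]
  have cc : ∀ s, E.nb * k * E.nb⁻¹ * E.xc s * (E.nb * k * E.nb⁻¹)⁻¹ = E.xc s := by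
    intro s
    have h1 : E.nb⁻¹ * E.xc s * E.nb = E.xa s := by rw [← E.nb_a]; group
    have h2 : k * E.xa s * k⁻¹ = E.xa s := by
      have := E.h_a 1 E.lam s
      rw [Units.val_one, one_mul] at this
      exact this
    calc E.nb * k * E.nb⁻¹ * E.xc s * (E.nb * k * E.nb⁻¹)⁻¹
        = E.nb * (k * (E.nb⁻¹ * E.xc s * E.nb) * k⁻¹) * E.nb⁻¹ := by group
      _ = _ := by rw [h1, h2, E.nb_a]
  have k0a : ∀ s, k0 * E.xa s * k0⁻¹ = E.xa (((E.lam : B.K) : F) * s) := by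
    intro s
    calc k0 * E.xa s * k0⁻¹ = (E.nb * k * E.nb⁻¹) * (k⁻¹ * E.xa s * k) * (E.nb * k * E.nb⁻¹)⁻¹ := by
          simp only [k0]; group
      _ = _ := by rw [kia, ca]
  have k0c : ∀ s, k0 * E.xc s * k0⁻¹ = E.xc (((E.lam : B.K) : F)⁻¹ * s) := by
    intro s
    calc k0 * E.xc s * k0⁻¹ = (E.nb * k * E.nb⁻¹) * (k⁻¹ * E.xc s * k) * (E.nb * k * E.nb⁻¹)⁻¹ := by
          simp only [k0]; group
      _ = _ := by rw [kic, cc]
  have hk0T : k0 ∈ E.T := mul_mem hk'T (inv_mem hkT)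
  obtain ⟨μ, ν, w1, w2, w3, -⟩ := E.T_act k0 hk0T
  have hμ : (μ : F) = (E.lam : B.K) := by
    have h1 := w1 1
    rw [k0a, mul_one, mul_one] at h1
    exact (xa_inj h1).symm
  have hν : ((ν : B.K) : F) = ((E.lam : B.K) : F)⁻¹ * ((E.lam : B.K) : F)⁻¹ := by
    have h1 := w2 1
    rw [k0c, mul_one, mul_one, hμ] at h1
    have h2 := xc_inj h1
    calc ((ν : B.K) : F) = ((E.lam : B.K) : F)⁻¹ * (((E.lam : B.K) : F) * ((ν : B.K) : F)) := by
          rw [← mul_assoc, inv_mul_cancel₀ hl0, one_mul]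
      _ = _ := by rw [← h2]
  have hν1 : (ν : B.K) + 1 ≠ 0 := by
    intro h
    have h1 : ((ν : B.K) : F) + 1 = 0 := congrArg Subtype.val h
    rw [hν] at h1
    have e : ((E.lam : B.K) : F) * ((E.lam : B.K) : F)⁻¹ = 1 := mul_inv_cancel₀ hl0
    have h3 : (((E.lam : B.K) : F) + 1) * (((E.lam : B.K) : F) + 1) = 0 := by
      have h4 : ((E.lam : B.K) : F) * (E.lam : B.K) *
        (((E.lam : B.K) : F)⁻¹ * ((E.lam : B.K) : F)⁻¹ + 1) = 0 := by rw [h1, mul_zero]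
      have h5 : ((E.lam : B.K) : F) * (E.lam : B.K) *
        (((E.lam : B.K) : F)⁻¹ * ((E.lam : B.K) : F)⁻¹ + 1) = 1 + ((E.lam : B.K) : F) * (E.lam : B.K) := by
        linear_combination (((E.lam : B.K) : F) * ((E.lam : B.K) : F)⁻¹ + 1) * e
      rw [h5] at h4
      linear_combination h4 + CharTwo.add_self_eq_zero ((E.lam : B.K) : F)
    exact hl1 (mul_self_eq_zero.1 h3)
  have comm : ∀ u ∈ UU E.toWEnv, k0 * u * k0⁻¹ * u⁻¹ ∈ C := fun u hu =>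
    commutator_mem_commutator hk0 (U_le hu)
  have ma : ∀ s, E.xa s ∈ C := by
    intro s
    have h1 := comm _ (a_mem E.toWEnv ((((E.lam : B.K) : F) + 1)⁻¹ * s))
    rw [k0a, WEnv.inv_of_sq (E.xa_sq _), ← E.xa_add] at h1
    have e : ((E.lam : B.K) : F) * ((((E.lam : B.K) : F) + 1)⁻¹ * s) + (((E.lam : B.K) : F) + 1)⁻¹ * s = s := by
      have e0 : (((E.lam : B.K) : F) + 1) * (((E.lam : B.K) : F) + 1)⁻¹ = 1 := mul_inv_cancel₀ hl1
      linear_combination s * e0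
    rwa [e] at h1
  have hli1 : ((E.lam : B.K) : F)⁻¹ + 1 ≠ 0 := by
    intro h
    apply hl1
    have e : ((E.lam : B.K) : F) * ((E.lam : B.K) : F)⁻¹ = 1 := mul_inv_cancel₀ hl0
    linear_combination ((E.lam : B.K) : F) * h - e
  have mc : ∀ s, E.xc s ∈ C := by
    intro s
    have h1 := comm _ (Q_le E.toWEnv (E.c_mem ((((E.lam : B.K) : F)⁻¹ + 1)⁻¹ * s)))
    rw [k0c, WEnv.inv_of_sq (E.xc_sq _), ← E.xc_add] at h1
    have e : ((E.lam : B.K) : F)⁻¹ * ((((E.lam : B.K) : F)⁻¹ + 1)⁻¹ * s) +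
        (((E.lam : B.K) : F)⁻¹ + 1)⁻¹ * s = s := by
      have e0 : (((E.lam : B.K) : F)⁻¹ + 1) * (((E.lam : B.K) : F)⁻¹ + 1)⁻¹ = 1 := mul_inv_cancel₀ hli1
      linear_combination s * e0
    rwa [e] at h1
  have mb : ∀ s, E.xb s ∈ C := by
    intro s
    have h1 := comm _ (Q_le E.toWEnv (E.b_mem (((ν : B.K) + 1)⁻¹ * s)))
    rw [w3, WEnv.inv_of_sq (E.xb_sq _), ← E.xb_add] at h1
    have e : (ν : B.K) * (((ν : B.K) + 1)⁻¹ * s) + ((ν : B.K) + 1)⁻¹ * s = s := by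
      have e0 : ((ν : B.K) + 1) * ((ν : B.K) + 1)⁻¹ = 1 := mul_inv_cancel₀ hν1
      linear_combination s * e0
    rwa [e] at h1
  have mz : ∀ x, E.xz x ∈ C := by
    intro x
    obtain ⟨s, hs⟩ := B.tr_surj x
    have h1 := E.a_c s 1
    rw [map_one, mul_one, hs] at h1
    have h2 : E.xz x = E.xa s * E.xc 1 * (E.xa s)⁻¹ * (E.xc 1)⁻¹ := by rw [h1]; group
    rw [h2]
    exact mul_mem (mul_mem (mul_mem (ma s) (mc 1)) (inv_mem (ma s))) (inv_mem (mc 1))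
  have hU : UU E.toWEnv ≤ C := by
    rintro _ ⟨q, hq, s, rfl⟩
    obtain ⟨v, rfl⟩ := mem_Q hq
    exact mul_mem (mul_mem (mul_mem (mz _) (mc _)) (mb _)) (ma s)
  have hnC : ∀ c ∈ C, E.nb * c * E.nb⁻¹ ∈ C := by
    intro c hc
    have h1 : E.nb * c * E.nb⁻¹ * c⁻¹ ∈ C :=
      commutator_mem_commutator hnb (Subgroup.commutator_le_self (P0 E) hc)
    have h2 := mul_mem h1 hc
    rwa [inv_mul_cancel_right] at h2
  conv_lhs => unfold P0
  rw [Subgroup.closure_le]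
  rintro g (hg | ⟨u, hu, rfl⟩)
  · exact hU hg
  · exact hnC u (hU hu)

/-- `P E = P₀ Hp`. -/
theorem P_form {g : G} (hg : g ∈ P E) : ∃ p ∈ P0 E, ∃ k ∈ Hp E, g = p * k := by
  let X : Subgroup G :=
    { carrier := {g | ∃ p ∈ P0 E, ∃ k ∈ Hp E, g = p * k}
      mul_mem' := by
        rintro _ _ ⟨p, hp, k, hk, rfl⟩ ⟨p', hp', k', hk', rfl⟩
        exact ⟨p * (k * p' * k⁻¹), mul_mem hp (T_P0 hk.1 hp'), k * k', mul_mem hk hk', by group⟩
      one_mem' := ⟨1, one_mem _, 1, one_mem _, by group⟩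
      inv_mem' := by
        rintro _ ⟨p, hp, k, hk, rfl⟩
        exact ⟨k⁻¹ * p⁻¹ * k⁻¹⁻¹, T_P0 (inv_mem hk.1) (inv_mem hp), k⁻¹, inv_mem hk, by group⟩ }
  have h1 : P E ≤ X := by
    unfold P
    rw [Subgroup.closure_le]
    rintro g (hg | hg)
    · exact ⟨g, subset_closure hg, 1, one_mem _, by group⟩
    · exact ⟨1, one_mem _, g, hg, by group⟩
  exact h1 hg

/-- `[P, P] ≤ P₀`. -/
theorem P_comm : ⁅P E, P E⁆ ≤ P0 E := by
  rw [commutator_le]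
  intro g hg g' hg'
  obtain ⟨p, hp, k, hk, rfl⟩ := P_form hg
  obtain ⟨p', hp', k', hk', rfl⟩ := P_form hg'
  have hc := E.T_comm k hk.1 k' hk'.1
  have hc' : k * k' * k⁻¹ = k' := by rw [hc]; group
  have e : ⁅p * k, p' * k'⁆ = p * (k * p' * k⁻¹) * ((k * k' * k⁻¹) * p⁻¹ * k'⁻¹) * p'⁻¹ := by
    rw [commutatorElement_def]; group
  rw [e, hc']
  exact mul_mem (mul_mem (mul_mem hp (T_P0 hk.1 hp')) (T_P0 hk'.1 (inv_mem hp))) (inv_mem hp')

variable (E) in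
/-- The facts on `A` (`A = PSU₄(q)`, `C(t) ∩ C(A) = ⟨t⟩`). -/
structure AIn (A : Subgroup G) : Prop where
  braid : Braid E
  P_le : P E ≤ A
  norm : ∀ c, c * E.t = E.t * c → ∀ a ∈ A, c * a * c⁻¹ ∈ A
  perf : ∀ R : Subgroup G, ⁅R, R⁆ = R → (∀ g ∈ R, g * E.t = E.t * g) → R ≤ A
  cent : ∀ a ∈ A, ∀ c, c ≠ 0 → a * E.xz c = E.xz c * a → a ∈ P E

variable {A : Subgroup G}

/-- **The mover normalises `⟨t⟩ X_z`.** -/
theorem mem_normalizer [Finite F] [Finite G] (hA : AIn E A) {n : G} {c : B.K} (hc : c ≠ 0)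
    (h1 : n * E.t * n⁻¹ = E.xz c * E.t) (h2 : n * E.xz c * n⁻¹ = E.xz c) :
    n ∈ normalizer (TZ E.toWEnv : Set G) := by
  have Pt : ∀ g ∈ P E, g * E.t = E.t * g := fun g hg => ((pre hA.braid).P_t hg).symm
  have Pz : ∀ g ∈ P E, ∀ x, g * E.xz x = E.xz x * g := fun g hg x => ((pre hA.braid).P_z hg x).symm
  have h3 := normP0 h1 h2 (P0_perf hA.braid) (fun g hg => Pt g (P0_le hg)) (fun g hg => Pz g (P0_le hg) c) (by
    intro R hR hRt hRv
    have h4 : R ≤ P E := fun g hg => hA.cent g (hA.perf R hR hRt hg) c hc (hRv g hg)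
    rw [← hR]
    exact (commutator_mono h4 h4).trans P_comm)
  have h4 : n ∈ normalizer (P0 E : Set G) := mem_normalizer_of_conj_le h3
  apply mem_normalizer_of_conj_le
  -- `TZ = C(t) ∩ C(xz c) ∩ C(P₀)`
  intro g hg
  have hgt : g * E.t = E.t * g ∧ g * E.xz c = E.xz c * g ∧ ∀ p ∈ P0 E, g * p = p * g := by
    obtain ⟨x, rfl | rfl⟩ := hg
    · refine ⟨(E.t_z x).symm, ?_, fun p hp => (Pz p (P0_le hp) x).symm⟩
      rw [← E.xz_add, ← E.xz_add, add_comm]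
    · refine ⟨?_, ?_, ?_⟩
      · rw [mul_assoc, E.t_sq, mul_one, ← mul_assoc, E.t_z, mul_assoc, E.t_sq, mul_one]
      · rw [mul_assoc, E.t_z, ← mul_assoc, ← mul_assoc, ← E.xz_add, ← E.xz_add, add_comm]
      · intro p hp
        rw [mul_assoc, ← Pt p (P0_le hp), ← mul_assoc, ← Pz p (P0_le hp) x, mul_assoc]
  obtain ⟨g1, g2, g3⟩ := hgt
  obtain ⟨k1, k2⟩ := conj_mem_cent h1 h2 g1 g2
  have k3 : ∀ p ∈ P0 E, (n * g * n⁻¹) * p = p * (n * g * n⁻¹) := by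
    intro p hp
    have h5 := g3 _ (conj_inv_mem_of_mem_normalizer h4 hp)
    calc n * g * n⁻¹ * p = n * (g * (n⁻¹ * p * n)) * n⁻¹ := by group
      _ = _ := by rw [h5]; group
  have hQ : ∀ q ∈ Q1 E, (n * g * n⁻¹) * q = q * (n * g * n⁻¹) := fun q hq =>
    k3 q (U_le ((pre hA.braid).Q1_le hq))
  obtain ⟨q, hq, h6⟩ := (pre hA.braid).cent_t _ k1 hQ
  have h7 : ∀ x ∈ Q1 E, q * x = x * q := by
    intro x hx
    rcases h6 with h6 | h6
    · rw [← h6]; exact hQ x hx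
    · have h8 : q = E.t * (n * g * n⁻¹) := by
        change n * g * n⁻¹ = E.t * q at h6
        rw [h6, ← mul_assoc, E.t_sq, one_mul]
      rw [h8, mul_assoc, hQ x hx, ← mul_assoc, ← Pt x (P0_le (U_le ((pre hA.braid).Q1_le hx))), mul_assoc]
  obtain ⟨x, hx⟩ := SeedU4.cent_U ((pre hA.braid).Q1_le hq) h7
  rw [hx] at h6
  rcases h6 with h6 | h6
  · exact ⟨x, Or.inl h6⟩
  · refine ⟨x, Or.inr ?_⟩
    change n * g * n⁻¹ = E.t * E.xz x at h6
    rw [h6, E.t_z]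

/-- **The seed from a mover.** -/
theorem exists_seed_of_mover [Finite F] [Finite G] (hA : AIn E A) {n : G} {c : B.K} (hc : c ≠ 0)
    (h1 : n * E.t * n⁻¹ = E.xz c * E.t) (h2 : n * E.xz c * n⁻¹ = E.xz c) :
    ∃ Sd : Seed E.toWEnv, (∀ y ∈ Sd.Y, ∀ g ∈ P E, y * g = g * y) ∧
      ∀ y ∈ Sd.Y, E.nb * y = y * E.nb := by
  have Pz : ∀ g ∈ P E, ∀ x, g * E.xz x = E.xz x * g := fun g hg x => ((pre hA.braid).P_z hg x).symm
  refine SeedU4.exists_seed hA.braid ?_ (mem_normalizer hA hc h1 h2) hc h1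
  intro d hd hdz g hg
  refine hA.cent _ (hA.norm d hd g (hA.P_le hg)) 1 one_ne_zero ?_
  have h3 : d⁻¹ * E.xz 1 * d = E.xz 1 := by rw [mul_assoc, ← hdz]; group
  calc d * g * d⁻¹ * E.xz 1 = d * (g * (d⁻¹ * E.xz 1 * d)) * d⁻¹ := by group
    _ = d * (E.xz 1 * g) * d⁻¹ := by rw [h3, Pz g hg]
    _ = (d * E.xz 1) * g * d⁻¹ := by group
    _ = _ := by rw [hdz]; group

end U4

end Cfsg.Agent.StdRank2.UFour.Mover
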