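import Cfsg.Agent.StdRank2.UFour.Field

/-!
# Field lemmas for the seed of `U₄(q)`, `U₅(q)`

`V` is an `F`-space of dimension at most one (`U₄`: `V = 0`, `U₅`: `V = F`). An additive map of
`F × V × F` (the coordinates of `Q₁/Z`) commuting with the torus of the Levi factor and acting trivially on
the two outer parts is `(s, v, y) ↦ (s, l v, y)`.
-/

set_option autoImplicit false

namespace Cfsg.Agent.StdRank2.UFour.SeedField

variable {F : Type*} [Field F] [CharP F 2] (B : Bar F)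

theorem exists_good (h : ∃ k : B.K, k ≠ 0 ∧ k ≠ 1) : ∃ u : F, u ≠ 0 ∧ u ≠ 1 ∧ u * u + u + 1 ≠ 0 := by
  obtain ⟨k, hk0, hk1⟩ := h
  have h2 : ∀ a : F, a + a = 0 := fun a => CharTwo.add_self_eq_zero a
  have hk0' : (k : F) ≠ 0 := fun h => hk0 (Subtype.ext h)
  have hk1' : (k : F) ≠ 1 := fun h => hk1 (Subtype.ext h)
  by_cases hk : (k : F) * k + k + 1 = 0
  · obtain ⟨u, hu⟩ := B.ne
    have huK : u ∉ B.K := fun h => hu h
    refine ⟨u, ?_, ?_, ?_⟩
    · rintro rfl; exact huK (zero_mem _)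
    · rintro rfl; exact huK (one_mem _)
    · intro h
      have h3 : (u + k) * (u + k + 1) = 0 := by
        linear_combination h + hk + h2 (u * k) - h2 1
      rcases mul_eq_zero.1 h3 with h4 | h4
      · apply huK
        have : u = k := by linear_combination h4 - h2 (k : F)
        rw [this]; exact k.2
      · apply huK
        have : u = ((k + 1 : B.K) : F) := by
          change u = (k : F) + 1
          linear_combination h4 - h2 (k : F) - h2 1
        rw [this]; exact (k + 1 : B.K).2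
  · exact ⟨k, hk0', hk1', hk⟩

/-- A map with `g (μ x) = (bar μ)⁻¹ g x` is zero. -/
theorem inv_semi (hK : ∃ k : B.K, k ≠ 0 ∧ k ≠ 1) {g : F → F} (hg : ∀ x y, g (x + y) = g x + g y)
    (h : ∀ μ : F, μ ≠ 0 → ∀ x, g (μ * x) = (B.s μ)⁻¹ * g x) (x : F) : g x = 0 := by
  obtain ⟨u, hu0, hu1, hu⟩ := exists_good B hK
  have h2 : ∀ a : F, a + a = 0 := fun a => CharTwo.add_self_eq_zero a
  have hs0 : B.s u ≠ 0 := (map_ne_zero_iff B.s B.s.injective).2 hu0
  have hu1' : u + 1 ≠ 0 := fun h => hu1 (by linear_combination h - h2 1)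
  have e1 := h _ hs0 x
  rw [B.invol] at e1
  have hs1 : B.s u + 1 ≠ 0 := by
    intro h3
    have h4 : B.s (u + 1) = 0 := by rw [map_add, map_one]; exact h3
    exact hu1' ((map_eq_zero_iff B.s B.s.injective).1 h4)
  have e2 := h _ hs1 x
  rw [map_add, B.invol, map_one, add_mul, one_mul, hg, e1] at e2
  have e3 : (u * u + u + 1) * g x = 0 := by
    have e4 : (u + 1) * u * (u⁻¹ * g x + g x) = (u + 1) * u * ((u + 1)⁻¹ * g x) := by rw [e2]
    have e5 : u * u⁻¹ = 1 := mul_inv_cancel₀ hu0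
    have e6 : (u + 1) * (u + 1)⁻¹ = 1 := mul_inv_cancel₀ hu1'
    linear_combination e4 - (u + 1) * g x * e5 + u * g x * e6
  rcases mul_eq_zero.1 e3 with h3 | h3
  · exact absurd h3 hu
  · exact h3

variable {V : Type*} [AddCommGroup V] [Module F V]

include B in
/-- An additive map commuting with all `μ / bar μ` is linear. -/
theorem linear {f : V → V} (hf : ∀ x y, f (x + y) = f x + f y) {chi : F → F}
    (hchi : ∀ μ, μ ≠ 0 → chi μ = B.s μ / μ ∨ chi μ = μ / B.s μ)
    (h : ∀ μ, μ ≠ 0 → ∀ w, f (chi μ • w) = chi μ • f w) (a : F) (w : V) : f (a • w) = a • f w := by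
  have h2 : ∀ a : F, a + a = 0 := fun a => CharTwo.add_self_eq_zero a
  have f0 : f 0 = 0 := by
    have := hf 0 0
    rw [add_zero] at this
    exact left_eq_add.1 this
  have hs0 : ∀ μ : F, μ ≠ 0 → B.s μ ≠ 0 := fun μ hμ => (map_ne_zero_iff B.s B.s.injective).2 hμ
  -- the subfield of the scalars commuting with `f`
  let R : F → Prop := fun a => ∀ w, f (a • w) = a • f w
  have radd : ∀ a b, R a → R b → R (a + b) := by
    intro a b ha hb w
    rw [add_smul, hf, ha w, hb w, add_smul]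
  have rmul : ∀ a b, R a → R b → R (a * b) := by
    intro a b ha hb w
    rw [mul_smul, ha, hb, mul_smul]
  have rone : R 1 := fun w => by rw [one_smul, one_smul]
  have rinv : ∀ a, R a → R a⁻¹ := by
    intro a ha w
    by_cases h0 : a = 0
    · rw [h0, inv_zero, zero_smul, zero_smul, f0]
    · have h1 := ha (a⁻¹ • w)
      rw [smul_smul, mul_inv_cancel₀ h0, one_smul] at h1
      rw [h1, smul_smul, inv_mul_cancel₀ h0, one_smul]
  have rq : ∀ μ, μ ≠ 0 → R (μ / B.s μ) := by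
    intro μ hμ
    have h1 : R (chi μ) := h μ hμ
    rcases hchi μ hμ with h3 | h3
    · have h4 := rinv _ h1
      rw [h3, inv_div] at h4
      exact h4
    · rwa [h3] at h1
  -- elements outside `K`
  have rout : ∀ x : F, B.s x ≠ x → R (B.s x) := by
    intro x hx
    have hx0 : x ≠ 0 := by rintro rfl; exact hx (map_zero _)
    have hx1 : x + 1 ≠ 0 := by
      intro h3
      apply hx
      have : x = 1 := by linear_combination h3 - h2 1
      rw [this, map_one]
    have hs1 := hs0 _ hx1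
    have hsx := hs0 _ hx0
    have r1 := rq x hx0
    have r2 := rq (x + 1) hx1
    rw [map_add, map_one] at r2 hs1
    have hd : x / B.s x + (x + 1) / (B.s x + 1) ≠ 0 := by
      intro h3
      apply hx
      rw [div_add_div _ _ hsx hs1, div_eq_zero_iff] at h3
      rcases h3 with h3 | h3
      · linear_combination h3 - h2 x - h2 (x * B.s x)
      · exact absurd h3 (mul_ne_zero hsx hs1)
    have r3 : R (((x + 1) / (B.s x + 1) + 1) * (x / B.s x + (x + 1) / (B.s x + 1))⁻¹) :=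
      rmul _ _ (radd _ _ r2 rone) (rinv _ (radd _ _ r1 r2))
    have e : ((x + 1) / (B.s x + 1) + 1) * (x / B.s x + (x + 1) / (B.s x + 1))⁻¹ = B.s x := by
      rw [mul_inv_eq_iff_eq_mul₀ hd, mul_add, mul_div_cancel₀ _ hsx]
      have e1 : (B.s x + 1) * (B.s x + 1)⁻¹ = 1 := mul_inv_cancel₀ hs1
      rw [div_eq_mul_inv]
      linear_combination (x + 1) * e1 + h2 1 - h2 (B.s x * (x + 1) * (B.s x + 1)⁻¹)
    rwa [e] at r3
  have rout' : ∀ x : F, B.s x ≠ x → R x := by
    intro x hx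
    have h3 := rout (B.s x) (by rw [B.invol]; exact fun h => hx h.symm)
    rwa [B.invol] at h3
  obtain ⟨y, hy⟩ := B.ne
  have ry := rout' y hy
  by_cases ha : B.s a = a
  · have h3 : R (a + y) := by
      apply rout'
      rw [map_add, ha]
      exact fun h => hy (add_left_cancel h)
    have h4 := radd _ _ h3 ry
    rw [add_assoc, h2, add_zero] at h4
    exact h4 w
  · exact rout' a ha w

theorem V_add_self (F : Type*) [Field F] [CharP F 2] {V : Type*} [AddCommGroup V] [Module F V]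
    (w : V) : w + w = 0 := by
  have h1 := two_smul F w
  rw [← h1, CharTwo.two_eq_zero, zero_smul]

/-- **The shape of an equivariant map of `Q₁/Z`**. -/
theorem diag (hK : ∃ k : B.K, k ≠ 0 ∧ k ≠ 1) {chi : F → F}
    (hchi : ∀ μ, μ ≠ 0 → chi μ = B.s μ / μ ∨ chi μ = μ / B.s μ)
    (Φ : F × V × F → F × V × F) (hadd : ∀ p q, Φ (p + q) = Φ p + Φ q)
    (hequiv : ∀ μ, μ ≠ 0 → ∀ p, Φ (μ * p.1, chi μ • p.2.1, (B.s μ)⁻¹ * p.2.2) =
      (μ * (Φ p).1, chi μ • (Φ p).2.1, (B.s μ)⁻¹ * (Φ p).2.2))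
    (ha : ∀ s, (Φ (s, 0, 0)).1 = s) (hc : ∀ y, (Φ (0, 0, y)).2.2 = y) (hinj : ∀ p, Φ p = 0 → p = 0)
    (hV : ∃ e : V, ∀ w, ∃ a : F, w = a • e) :
    ∃ l : F, l ≠ 0 ∧ ∀ p, Φ p = (p.1, l • p.2.1, p.2.2) := by
  have h2 : ∀ a : F, a + a = 0 := fun a => CharTwo.add_self_eq_zero a
  have hV2 : ∀ w : V, w + w = 0 := V_add_self F
  obtain ⟨k, hk0, hk1⟩ := hK
  have hk0' : (k : F) ≠ 0 := fun h => hk0 (Subtype.ext h)
  have hk1' : (k : F) + 1 ≠ 0 := fun h => hk1 (Subtype.ext (by
    change (k : F) = 1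
    linear_combination h - h2 1))
  have hki' : (k : F)⁻¹ + 1 ≠ 0 := by
    intro h
    apply hk1'
    have e : (k : F) * (k : F)⁻¹ = 1 := mul_inv_cancel₀ hk0'
    linear_combination (k : F) * h - e
  have hks : B.s (k : F) = k := k.2
  have chik : chi (k : F) = 1 := by
    rcases hchi _ hk0' with h | h
    · rw [h, hks, div_self hk0']
    · rw [h, hks, div_self hk0']
  have equivk := hequiv (k : F) hk0'
  simp only [chik, hks, one_smul] at equivk
  -- the first part
  have p1 : ∀ s, Φ (s, 0, 0) = (s, 0, 0) := by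
    intro s
    have a2 : ∀ s, (Φ (s, 0, 0)).2.1 = 0 := by
      intro s
      have h3 : ∀ s, (Φ ((k : F) * s, 0, 0)).2.1 = (Φ (s, 0, 0)).2.1 := by
        intro s
        have := equivk (s, 0, 0)
        simp only [mul_zero] at this
        rw [this]
      have h4 := hadd ((k : F) * (((k : F) + 1)⁻¹ * s), 0, 0) (((k : F) + 1)⁻¹ * s, 0, 0)
      have e : (((k : F) * (((k : F) + 1)⁻¹ * s), (0 : V), (0 : F)) : F × V × F) +
          (((k : F) + 1)⁻¹ * s, 0, 0) = (s, 0, 0) := by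
        refine Prod.ext ?_ (Prod.ext ?_ ?_)
        · change (k : F) * (((k : F) + 1)⁻¹ * s) + ((k : F) + 1)⁻¹ * s = s
          have e1 : ((k : F) + 1) * ((k : F) + 1)⁻¹ = 1 := mul_inv_cancel₀ hk1'
          linear_combination s * e1
        · simp
        · simp
      rw [e] at h4
      rw [h4]
      change (Φ ((k : F) * (((k : F) + 1)⁻¹ * s), 0, 0)).2.1 + (Φ (((k : F) + 1)⁻¹ * s, 0, 0)).2.1 = 0
      rw [h3, hV2]
    have a3 : ∀ s, (Φ (s, 0, 0)).2.2 = 0 := by
      refine inv_semi B ⟨k, hk0, hk1⟩ (g := fun s => (Φ (s, 0, 0)).2.2) ?_ ?_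
      · intro x y
        have := hadd (x, 0, 0) (y, 0, 0)
        have e : ((x, 0, 0) : F × V × F) + (y, 0, 0) = (x + y, 0, 0) := by
          refine Prod.ext rfl (Prod.ext ?_ ?_) <;> simp
        rw [e] at this
        change (Φ (x + y, 0, 0)).2.2 = (Φ (x, 0, 0)).2.2 + (Φ (y, 0, 0)).2.2
        rw [this]; rfl
      · intro μ hμ x
        have := hequiv μ hμ (x, 0, 0)
        simp only [mul_zero, smul_zero] at this
        change (Φ (μ * x, 0, 0)).2.2 = (B.s μ)⁻¹ * (Φ (x, 0, 0)).2.2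
        rw [this]
    exact Prod.ext (ha s) (Prod.ext (a2 s) (a3 s))
  -- the third part
  have p3 : ∀ y, Φ (0, 0, y) = (0, 0, y) := by
    intro y
    have a1 : ∀ y, (Φ (0, 0, y)).1 = 0 := by
      refine inv_semi B ⟨k, hk0, hk1⟩ (g := fun y => (Φ (0, 0, y)).1) ?_ ?_
      · intro x y
        have := hadd (0, 0, x) (0, 0, y)
        have e : ((0, 0, x) : F × V × F) + (0, 0, y) = (0, 0, x + y) := by
          refine Prod.ext ?_ (Prod.ext ?_ rfl) <;> simp
        rw [e] at this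
        change (Φ (0, 0, x + y)).1 = (Φ (0, 0, x)).1 + (Φ (0, 0, y)).1
        rw [this]; rfl
      · intro μ hμ x
        have hs : B.s μ ≠ 0 := (map_ne_zero_iff B.s B.s.injective).2 hμ
        have := hequiv (B.s μ)⁻¹ (inv_ne_zero hs) (0, 0, x)
        simp only [mul_zero, smul_zero, map_inv₀, B.invol, inv_inv] at this
        change (Φ (0, 0, μ * x)).1 = (B.s μ)⁻¹ * (Φ (0, 0, x)).1
        rw [this]
    have a2 : ∀ y, (Φ (0, 0, y)).2.1 = 0 := by
      intro s
      have h3 : ∀ s, (Φ (0, 0, (k : F)⁻¹ * s)).2.1 = (Φ (0, 0, s)).2.1 := by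
        intro s
        have := equivk (0, 0, s)
        simp only [mul_zero] at this
        rw [this]
      have h4 := hadd (0, 0, (k : F)⁻¹ * (((k : F)⁻¹ + 1)⁻¹ * s)) (0, 0, ((k : F)⁻¹ + 1)⁻¹ * s)
      have e : (((0 : F), (0 : V), (k : F)⁻¹ * (((k : F)⁻¹ + 1)⁻¹ * s)) : F × V × F) +
          (0, 0, ((k : F)⁻¹ + 1)⁻¹ * s) = (0, 0, s) := by
        refine Prod.ext ?_ (Prod.ext ?_ ?_)
        · simp
        · simp
        · change (k : F)⁻¹ * (((k : F)⁻¹ + 1)⁻¹ * s) + ((k : F)⁻¹ + 1)⁻¹ * s = s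
          have e1 : ((k : F)⁻¹ + 1) * ((k : F)⁻¹ + 1)⁻¹ = 1 := mul_inv_cancel₀ hki'
          linear_combination s * e1
      rw [e] at h4
      rw [h4]
      change (Φ (0, 0, (k : F)⁻¹ * (((k : F)⁻¹ + 1)⁻¹ * s))).2.1 +
        (Φ (0, 0, ((k : F)⁻¹ + 1)⁻¹ * s)).2.1 = 0
      rw [h3, hV2]
    exact Prod.ext (a1 y) (Prod.ext (a2 y) (hc y))
  -- the middle part
  have p2 : ∀ v, Φ (0, v, 0) = (0, (Φ (0, v, 0)).2.1, 0) := by
    intro v
    have := equivk (0, v, 0)
    simp only [mul_zero] at this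
    have e1 := congrArg Prod.fst this
    have e3 := congrArg (fun p => p.2.2) this
    simp only at e1 e3
    refine Prod.ext ?_ (Prod.ext rfl ?_)
    · change (Φ (0, v, 0)).1 = 0
      have : ((k : F) + 1) * (Φ (0, v, 0)).1 = 0 := by
        linear_combination h2 (Φ (0, v, 0)).1 - e1
      exact (mul_eq_zero.1 this).resolve_left hk1'
    · change (Φ (0, v, 0)).2.2 = 0
      have : ((k : F)⁻¹ + 1) * (Φ (0, v, 0)).2.2 = 0 := by
        linear_combination h2 (Φ (0, v, 0)).2.2 - e3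
      exact (mul_eq_zero.1 this).resolve_left hki'
  have lin : ∀ (a : F) (w : V), (Φ (0, a • w, 0)).2.1 = a • (Φ (0, w, 0)).2.1 := by
    refine linear B (f := fun w => (Φ (0, w, 0)).2.1) ?_ hchi ?_
    · intro x y
      have := hadd (0, x, 0) (0, y, 0)
      have e : ((0, x, 0) : F × V × F) + (0, y, 0) = (0, x + y, 0) := by
        refine Prod.ext ?_ (Prod.ext rfl ?_) <;> simp
      rw [e] at this
      change (Φ (0, x + y, 0)).2.1 = (Φ (0, x, 0)).2.1 + (Φ (0, y, 0)).2.1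
      rw [this]; rfl
    · intro μ hμ w
      have := hequiv μ hμ (0, w, 0)
      simp only [mul_zero] at this
      change (Φ (0, chi μ • w, 0)).2.1 = chi μ • (Φ (0, w, 0)).2.1
      rw [this]
  have split : ∀ p, Φ p = Φ (p.1, 0, 0) + Φ (0, p.2.1, 0) + Φ (0, 0, p.2.2) := by
    intro p
    rw [← hadd, ← hadd]
    congr 1
    refine Prod.ext ?_ (Prod.ext ?_ ?_) <;> simp
  obtain ⟨e, he⟩ := hV
  by_cases he0 : e = 0
  · have hV0 : ∀ w : V, w = 0 := by
      intro w
      obtain ⟨a, ha⟩ := he w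
      rw [ha, he0, smul_zero]
    refine ⟨1, one_ne_zero, fun p => ?_⟩
    rw [split, p1, p3, p2]
    refine Prod.ext ?_ (Prod.ext ?_ ?_)
    · simp
    · exact (hV0 _).trans (hV0 _).symm
    · simp
  · obtain ⟨l, hl⟩ := he (Φ (0, e, 0)).2.1
    refine ⟨l, ?_, fun p => ?_⟩
    · rintro rfl
      rw [zero_smul] at hl
      have h3 := p2 e
      rw [hl] at h3
      have h4 := hinj _ h3
      exact he0 (congrArg (fun p => p.2.1) h4)
    · obtain ⟨a, ha⟩ := he p.2.1
      rw [split, p1, p3, p2, ha, lin, hl]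
      refine Prod.ext ?_ (Prod.ext ?_ ?_)
      · simp
      · simp [smul_smul, mul_comm]
      · simp

end Cfsg.Agent.StdRank2.UFour.SeedField
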