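import Cfsg.Agent.StdRank2.UFour.Env
import Cfsg.Agent.StdRank2.UFour.SeedField
import Cfsg.Agent.StdEven.Syl
import Cfsg.Agent.Solvable.SchurZassenhausConj
import Mathlib.FieldTheory.Finite.Basic

/-!
# The seed of the growth for `U₄(q)` and `U₅(q)`, `q ≥ 4` even

`SeedEnv E V`: `P = Q₁ L` (a normal subgroup of the centraliser of `⟨t⟩ X_z` generated by elements of odd order),
`Q₁ = O₂(P)`, `U` a Sylow 2-subgroup of `P`, the torus `Hp` of `N_P(U) = U Hp`; coordinates `(pa, pv, pc) : Q₁/Z → F × V × F` with `V = 0` (`U₄`) or `V = F`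
(`U₅`).

`SeedEnv.exists_seed`: an element `n` normalising `P` with `n t n⁻¹ = z t ≠ t`, `z ∈ X_z`, gives a `Seed E`.

Proof. We may take `n` in `N(U) ∩ N(Hp)`. It acts on `X_z` semilinearly, so that `m = n h n⁻¹ h⁻¹ h'` (`h, h'` in the
torus, trivial on `X_a`) centralises `X_z`, `Hp` and `X_a` modulo `C(X_c)`. By weights `m` acts on `Q₁/Z` as
`(1, l, 1)`, so an odd power of `m` centralises `Q₁/Z`, then `Q₁`, then `P`.
-/

set_option autoImplicit false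
set_option linter.unusedSectionVars false

namespace Cfsg.Agent.StdRank2.UFour.Seeding

open Subgroup
open Cfsg.Agent.StdEven.Syl

variable {F : Type*} [Field F] [CharP F 2] {B : Bar F} {G : Type*} [Group G]

/-- weights of an element of the torus of the Levi factor: `μ` on `X_a`, `bar μ⁻¹` on `X_c`, `chi μ` on `V`. -/
structure Wt {V : Type*} [AddCommGroup V] [Module F V] (E : WEnv B G) (xv : V → G) (chi : F → F)
    (k : G) (μ : F) : Prop where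
  a : ∀ s, k * E.xa s * k⁻¹ = E.xa (μ * s)
  c : ∀ y, k * E.xc y * k⁻¹ = E.xc ((B.s μ)⁻¹ * y)
  v : ∀ v, ∃ x, k * xv v * k⁻¹ = E.xz x * xv (chi μ • v)

/-- The data of `C(t)` needed for the seed. -/
structure SeedEnv (E : WEnv B G) (V : Type*) [AddCommGroup V] [Module F V] where
  P : Subgroup G
  Q1 : Subgroup G
  U : Subgroup G
  Hp : Subgroup G
  nb : G
  chi : F → F
  xv : V → G
  pa : G → F
  pv : G → V
  pc : G → F
  chi_eq : ∀ μ, μ ≠ 0 → chi μ = B.s μ / μ ∨ chi μ = μ / B.s μ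
  V_gen : ∃ e : V, ∀ w, ∃ a : F, w = a • e
  P_odd : P ≤ closure {g | g ∈ P ∧ ∃ m, Odd m ∧ g ^ m = 1}
  P_t : ∀ g ∈ P, E.t * g = g * E.t
  P_z : ∀ g ∈ P, ∀ x, E.xz x * g = g * E.xz x
  T_P : ∀ k ∈ E.T, ∀ g ∈ P, k * g * k⁻¹ ∈ P
  cent_P : ∀ c, c * E.t = E.t * c → (∀ g ∈ P, c * g = g * c) →
    ∃ x, c = E.xz x ∨ c = E.t * E.xz x
  U_syl : IsSyl U P
  nb_mem : nb ∈ P
  U_inf : ∀ g ∈ U, nb⁻¹ * g * nb ∈ U → g ∈ Q1
  Q1_le : Q1 ≤ U
  Q1_P : ∀ p ∈ P, ∀ g ∈ Q1, p * g * p⁻¹ ∈ Q1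
  T_U : ∀ k ∈ E.T, ∀ g ∈ U, k * g * k⁻¹ ∈ U
  U_form : ∀ g ∈ U, ∃ q ∈ E.Q, ∃ s, g = q * E.xa s
  Q_le : E.Q ≤ U
  a_mem : ∀ s, E.xa s ∈ Q1
  c_mem : ∀ y, E.xc y ∈ Q1
  v_mem : ∀ v, xv v ∈ Q1
  v_Q : ∀ v, xv v ∈ E.Q
  D_char : ∀ g ∈ Q1, (∀ u ∈ U, ∃ x, g * u * g⁻¹ = E.xz x * u) → ∃ x y, g = E.xz x * E.xc y
  cent_Q1 : ∀ g ∈ P, (∀ x ∈ Q1, g * x = x * g) → ∃ x, g = E.xz x
  Hp_T : Hp ≤ E.T
  Hp_P : Hp ≤ P
  Hp_act : ∀ k ∈ Hp, ∃ μ, μ ≠ 0 ∧ Wt E xv chi k μ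
  Hp_onto : ∀ μ, μ ≠ 0 → ∃ k ∈ Hp, Wt E xv chi k μ
  borel : ∀ g ∈ P, (∀ u ∈ U, g * u * g⁻¹ ∈ U) → ∃ u ∈ U, ∃ k ∈ Hp, g = u * k
  pa_mul : ∀ g ∈ Q1, ∀ k ∈ Q1, pa (g * k) = pa g + pa k
  pv_mul : ∀ g ∈ Q1, ∀ k ∈ Q1, pv (g * k) = pv g + pv k
  pc_mul : ∀ g ∈ Q1, ∀ k ∈ Q1, pc (g * k) = pc g + pc k
  ker : ∀ g ∈ Q1, pa g = 0 → pv g = 0 → pc g = 0 → ∃ x, g = E.xz x
  pa_z : ∀ x, pa (E.xz x) = 0
  pv_z : ∀ x, pv (E.xz x) = 0
  pc_z : ∀ x, pc (E.xz x) = 0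
  pa_a : ∀ s, pa (E.xa s) = s
  pv_a : ∀ s, pv (E.xa s) = 0
  pc_a : ∀ s, pc (E.xa s) = 0
  pa_v : ∀ v, pa (xv v) = 0
  pv_v : ∀ v, pv (xv v) = v
  pc_v : ∀ v, pc (xv v) = 0
  pa_c : ∀ y, pa (E.xc y) = 0
  pv_c : ∀ y, pv (E.xc y) = 0
  pc_c : ∀ y, pc (E.xc y) = y

namespace SeedEnv

variable {E : WEnv B G} {V : Type*} [AddCommGroup V] [Module F V] (S : SeedEnv E V)

/-! ### The trace form and the root group `Z` -/

theorem tr_nondeg {s : F} (h : ∀ y, B.tr (s * B.s y) = 0) : s = 0 := by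
  by_contra hs
  obtain ⟨x, hx⟩ := B.tr_form_surj hs 1
  have h1 := h x
  rw [← B.tr_s, map_mul, B.invol, mul_comm, hx] at h1
  exact one_ne_zero h1

theorem xz_inj {x y : B.K} (h : E.xz x = E.xz y) : x = y := by
  have h1 : E.w (x, 0, 0) = E.w (y, 0, 0) := by rw [E.w_z, E.w_z, h]
  exact congrArg Prod.fst (E.w_injective h1)

theorem K_ne (E : WEnv B G) : ∃ k : B.K, k ≠ 0 ∧ k ≠ 1 := ⟨E.lam, E.lam.ne_zero, E.lam_ne⟩

theorem z_mem (x : B.K) : E.xz x ∈ S.U := S.Q_le (E.z_mem x)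

theorem U_le : S.U ≤ S.P := S.U_syl.le

theorem Q1_le_P : S.Q1 ≤ S.P := S.Q1_le.trans S.U_le

theorem z_mem_P (x : B.K) : E.xz x ∈ S.P := S.U_le (S.z_mem x)

theorem z_mem_Q1 (x : B.K) : E.xz x ∈ S.Q1 := by
  apply S.U_inf _ (S.z_mem x)
  have h1 : S.nb⁻¹ * E.xz x * S.nb = E.xz x := by
    rw [mul_assoc, S.P_z _ S.nb_mem, ← mul_assoc, inv_mul_cancel, one_mul]
  rw [h1]; exact S.z_mem x

/-! ### Coordinates -/

/-- the coordinates of an element of `Q₁`. -/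
def co (g : G) : F × V × F := (S.pa g, S.pv g, S.pc g)

/-- the standard element with given coordinates. -/
def st (p : F × V × F) : G := E.xa p.1 * S.xv p.2.1 * E.xc p.2.2

theorem st_mem (p : F × V × F) : S.st p ∈ S.Q1 :=
  mul_mem (mul_mem (S.a_mem _) (S.v_mem _)) (S.c_mem _)

theorem co_mul {g k : G} (hg : g ∈ S.Q1) (hk : k ∈ S.Q1) : S.co (g * k) = S.co g + S.co k := by
  unfold co
  rw [S.pa_mul _ hg _ hk, S.pv_mul _ hg _ hk, S.pc_mul _ hg _ hk]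
  rfl

theorem co_z (x : B.K) : S.co (E.xz x) = 0 := by
  unfold co; rw [S.pa_z, S.pv_z, S.pc_z]; rfl

theorem co_one : S.co 1 = 0 := by rw [← E.xz_zero, S.co_z]

theorem co_st (p : F × V × F) : S.co (S.st p) = p := by
  unfold st
  rw [S.co_mul (mul_mem (S.a_mem _) (S.v_mem _)) (S.c_mem _), S.co_mul (S.a_mem _) (S.v_mem _)]
  unfold co
  rw [S.pa_a, S.pv_a, S.pc_a, S.pa_v, S.pv_v, S.pc_v, S.pa_c, S.pv_c, S.pc_c]
  refine Prod.ext ?_ (Prod.ext ?_ ?_) <;> simp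

theorem co_inv {g : G} (hg : g ∈ S.Q1) : S.co g⁻¹ = - S.co g := by
  have h := S.co_mul (inv_mem hg) hg
  rw [inv_mul_cancel, S.co_one] at h
  exact eq_neg_of_add_eq_zero_left h.symm

theorem ker' {g : G} (hg : g ∈ S.Q1) (h : S.co g = 0) : ∃ x, g = E.xz x :=
  S.ker g hg (congrArg Prod.fst h) (congrArg (fun p => p.2.1) h) (congrArg (fun p => p.2.2) h)

theorem eq_of_co {g k : G} (hg : g ∈ S.Q1) (hk : k ∈ S.Q1) (h : S.co g = S.co k) :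
    ∃ x, g = E.xz x * k := by
  obtain ⟨x, hx⟩ := S.ker' (mul_mem hg (inv_mem hk)) (by
    rw [S.co_mul hg (inv_mem hk), S.co_inv hk, h, add_neg_cancel])
  exact ⟨x, by rw [← hx]; group⟩

theorem form {g : G} (hg : g ∈ S.Q1) : ∃ x, g = E.xz x * S.st (S.co g) :=
  S.eq_of_co hg (S.st_mem _) (S.co_st _).symm

theorem co_z_mul (x : B.K) {g : G} (hg : g ∈ S.Q1) : S.co (E.xz x * g) = S.co g := by
  rw [S.co_mul (S.z_mem_Q1 x) hg, S.co_z, zero_add]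

/-- conjugation of `X_c` by an element of `Q X_a`. -/
theorem conj_c_form {q : G} (hq : q ∈ E.Q) (s y : F) :
    (q * E.xa s) * E.xc y * (q * E.xa s)⁻¹ = E.xz (B.tr (s * B.s y)) * E.xc y := by
  have e : (q * E.xa s) * E.xc y * (q * E.xa s)⁻¹ = q * (E.xa s * E.xc y * (E.xa s)⁻¹) * q⁻¹ := by
    group
  rw [e, E.a_c, ← mul_assoc, ← E.z_Q _ q hq, mul_assoc (E.xz _), ← E.c_Q _ q hq]
  group

/-- conjugation of `X_c` by an element of `Q₁`. -/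
theorem conj_c {g : G} (hg : g ∈ S.Q1) (y : F) :
    g * E.xc y * g⁻¹ = E.xz (B.tr (S.pa g * B.s y)) * E.xc y := by
  obtain ⟨q, hq, s, rfl⟩ := S.U_form _ (S.Q1_le hg)
  rw [conj_c_form hq]
  congr 3
  -- the coordinate of `q * xa s`
  have hqm : q ∈ S.Q1 := by
    have := mul_mem hg (inv_mem (S.a_mem s))
    rwa [mul_inv_cancel_right] at this
  have h1 : S.pa q = 0 := by
    apply tr_nondeg (B := B)
    intro y
    obtain ⟨x, hx⟩ := S.form hqm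
    have h2 : q * E.xc y * q⁻¹ = E.xc y := by rw [← E.c_Q y q hq]; group
    have h3 : E.xz x * S.st (S.co q) =
        (E.xz x * (E.xa (S.pa q) * S.xv (S.pv q) * (E.xa (S.pa q))⁻¹)) *
          (E.xa (S.pa q) * E.xc (S.pc q) * (E.xa (S.pa q))⁻¹) * E.xa (S.pa q) := by
      unfold st co; group
    -- use conj on the explicit form
    have h4 : q * E.xc y * q⁻¹ = E.xz x * (E.xa (S.pa q) * (S.xv (S.pv q) * (E.xc (S.pc q) *
        E.xc y * (E.xc (S.pc q))⁻¹) * (S.xv (S.pv q))⁻¹) * (E.xa (S.pa q))⁻¹) * (E.xz x)⁻¹ := by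
      conv_lhs => rw [hx]
      unfold st co; group
    have h5 : E.xc (S.pc q) * E.xc y * (E.xc (S.pc q))⁻¹ = E.xc y := by
      rw [← E.c_Q y _ (E.c_mem _)]; group
    have h6 : S.xv (S.pv q) * E.xc y * (S.xv (S.pv q))⁻¹ = E.xc y := by
      rw [← E.c_Q y _ (S.v_Q _)]; group
    rw [h5, h6, E.a_c, h2] at h4
    have h7 : E.xz x * (E.xz (B.tr (S.pa q * B.s y)) * E.xc y) * (E.xz x)⁻¹ =
        E.xz (B.tr (S.pa q * B.s y)) * E.xc y := by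
      rw [← mul_assoc, ← E.xz_add, add_comm, E.xz_add, mul_assoc (E.xz _), E.z_c]; group
    rw [h7] at h4
    have h8 : E.xz (B.tr (S.pa q * B.s y)) = E.xz 0 := by
      rw [E.xz_zero]
      exact (left_eq_mul.1 (show E.xc y = E.xc y * E.xz (B.tr (S.pa q * B.s y)) by
        rw [← E.z_c]; exact h4))
    exact xz_inj h8
  rw [S.pa_mul _ hqm _ (S.a_mem s), h1, S.pa_a, zero_add]

theorem pa_eq_zero {g : G} (hg : g ∈ S.Q1) (h : ∀ y, g * E.xc y = E.xc y * g) : S.pa g = 0 := by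
  apply tr_nondeg (B := B)
  intro y
  have h1 := S.conj_c hg y
  rw [h y, mul_inv_cancel_right] at h1
  have h2 : E.xz (B.tr (S.pa g * B.s y)) = E.xz 0 := by
    rw [E.xz_zero]; exact right_eq_mul.1 h1
  exact xz_inj h2

theorem comm_c {g : G} (hg : g ∈ S.Q1) (h : S.pa g = 0) (y : F) : g * E.xc y = E.xc y * g := by
  have h1 := S.conj_c hg y
  have h2 : B.tr (S.pa g * B.s y) = 0 := by rw [h, zero_mul, B.tr_zero]
  rw [h2, E.xz_zero, one_mul] at h1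
  exact mul_inv_eq_iff_eq_mul.1 h1

/-! ### The normaliser `N(P) ∩ N(U) ∩ N(Hp)` -/

/-- The elements normalising `P`, `U` and `Hp`. -/
def N : Subgroup G :=
  normalizer (S.P : Set G) ⊓ normalizer (S.U : Set G) ⊓ normalizer (S.Hp : Set G)

variable {S}

theorem N_P {n : G} (hn : n ∈ S.N) {g : G} (hg : g ∈ S.P) : n * g * n⁻¹ ∈ S.P :=
  conj_mem_of_mem_normalizer hn.1.1 hg

theorem N_U {n : G} (hn : n ∈ S.N) {g : G} (hg : g ∈ S.U) : n * g * n⁻¹ ∈ S.U :=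
  conj_mem_of_mem_normalizer hn.1.2 hg

theorem N_H {n : G} (hn : n ∈ S.N) {g : G} (hg : g ∈ S.Hp) : n * g * n⁻¹ ∈ S.Hp :=
  conj_mem_of_mem_normalizer hn.2 hg

theorem N_P' {n : G} (hn : n ∈ S.N) {g : G} (hg : g ∈ S.P) : n⁻¹ * g * n ∈ S.P :=
  conj_inv_mem_of_mem_normalizer hn.1.1 hg

theorem N_U' {n : G} (hn : n ∈ S.N) {g : G} (hg : g ∈ S.U) : n⁻¹ * g * n ∈ S.U :=
  conj_inv_mem_of_mem_normalizer hn.1.2 hg

theorem N_Q1 {n : G} (hn : n ∈ S.N) {g : G} (hg : g ∈ S.Q1) : n * g * n⁻¹ ∈ S.Q1 := by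
  apply S.U_inf _ (N_U hn (S.Q1_le hg))
  have h1 := S.Q1_P _ (N_P' hn (inv_mem S.nb_mem)) _ hg
  have h2 := N_U hn (S.Q1_le h1)
  have e : n * (n⁻¹ * S.nb⁻¹ * n * g * (n⁻¹ * S.nb⁻¹ * n)⁻¹) * n⁻¹ =
      S.nb⁻¹ * (n * g * n⁻¹) * S.nb := by group
  rwa [e] at h2

theorem N_Q1' {n : G} (hn : n ∈ S.N) {g : G} (hg : g ∈ S.Q1) : n⁻¹ * g * n ∈ S.Q1 := by
  have := N_Q1 (inv_mem hn) hg
  rwa [inv_inv] at this

theorem N_z {n : G} (hn : n ∈ S.N) (x : B.K) : ∃ y, n * E.xz x * n⁻¹ = E.xz y := by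
  apply S.cent_Q1 _ (N_P hn (S.z_mem_P x))
  intro g hg
  have h1 := S.P_z _ (S.Q1_le_P (N_Q1' hn hg)) x
  calc n * E.xz x * n⁻¹ * g = n * (E.xz x * (n⁻¹ * g * n)) * n⁻¹ := by group
    _ = g * (n * E.xz x * n⁻¹) := by rw [h1]; group

theorem c_form {q : G} (hq : q ∈ E.Q) (s y : F) :
    E.xc y * (q * E.xa s) * (E.xc y)⁻¹ = E.xz (B.tr (s * B.s y)) * (q * E.xa s) := by
  have h1 := conj_c_form (E := E) hq s y
  have h2 : (q * E.xa s) * E.xc y = E.xz (B.tr (s * B.s y)) * E.xc y * (q * E.xa s) :=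
    mul_inv_eq_iff_eq_mul.1 h1
  have h3 : E.xc y * (q * E.xa s) = E.xz (B.tr (s * B.s y)) * ((q * E.xa s) * E.xc y) := by
    rw [h2]
    calc E.xc y * (q * E.xa s) = E.xz (B.tr (s * B.s y)) * E.xz (B.tr (s * B.s y)) *
          (E.xc y * (q * E.xa s)) := by rw [E.xz_sq, one_mul]
      _ = _ := by group
  rw [h3]; group

theorem N_c {n : G} (hn : n ∈ S.N) (y : F) : ∃ x y', n * E.xc y * n⁻¹ = E.xz x * E.xc y' := by
  apply S.D_char _ (N_Q1 hn (S.c_mem y))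
  intro u hu
  obtain ⟨q, hq, s, h1⟩ := S.U_form _ (N_U' hn hu)
  obtain ⟨x, hx⟩ := N_z hn (B.tr (s * B.s y))
  refine ⟨x, ?_⟩
  have h2 := c_form (E := E) hq s y
  rw [← h1] at h2
  calc n * E.xc y * n⁻¹ * u * (n * E.xc y * n⁻¹)⁻¹
      = n * (E.xc y * (n⁻¹ * u * n) * (E.xc y)⁻¹) * n⁻¹ := by group
    _ = (n * E.xz (B.tr (s * B.s y)) * n⁻¹) * u := by rw [h2]; group
    _ = E.xz x * u := by rw [hx]

theorem N_pa {n : G} (hn : n ∈ S.N) {g : G} (hg : g ∈ S.Q1) (h : S.pa g = 0) :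
    S.pa (n * g * n⁻¹) = 0 := by
  apply S.pa_eq_zero (N_Q1 hn hg)
  intro y
  obtain ⟨x, y', h1⟩ := N_c (inv_mem hn) y
  rw [inv_inv] at h1
  have h2 : g * (E.xz x * E.xc y') = (E.xz x * E.xc y') * g := by
    rw [← mul_assoc, ← S.P_z _ (S.Q1_le_P hg), mul_assoc, S.comm_c hg h, mul_assoc]
  rw [← h1] at h2
  calc n * g * n⁻¹ * E.xc y = n * (g * (n⁻¹ * E.xc y * n)) * n⁻¹ := by group
    _ = E.xc y * (n * g * n⁻¹) := by rw [h2]; group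

theorem N_pa_congr {n : G} (hn : n ∈ S.N) {g k : G} (hg : g ∈ S.Q1) (hk : k ∈ S.Q1)
    (h : S.pa g = S.pa k) : S.pa (n * g * n⁻¹) = S.pa (n * k * n⁻¹) := by
  have h1 : S.pa (g * k⁻¹) = 0 := by
    have h3 := congrArg Prod.fst (S.co_inv hk)
    have h4 : S.pa k⁻¹ = - S.pa k := h3
    rw [S.pa_mul _ hg _ (inv_mem hk), h4, h, add_neg_cancel]
  have h2 := N_pa hn (mul_mem hg (inv_mem hk)) h1
  have e : n * g * n⁻¹ = (n * (g * k⁻¹) * n⁻¹) * (n * k * n⁻¹) := by group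
  rw [e, S.pa_mul _ (N_Q1 hn (mul_mem hg (inv_mem hk))) _ (N_Q1 hn hk), h2, zero_add]

/-- the basic relation between the actions on `X_a`, `X_c`, `Z`. -/
theorem N_rel {n : G} (hn : n ∈ S.N) {s y y' : F} {x z : B.K}
    (hy : n * E.xc y * n⁻¹ = E.xz x * E.xc y') (hz : n * E.xz (B.tr (s * B.s y)) * n⁻¹ = E.xz z) :
    z = B.tr (S.pa (n * E.xa s * n⁻¹) * B.s y') := by
  have h1 := S.conj_c (N_Q1 hn (S.a_mem s)) y'
  have h2 := E.a_c s y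
  have h3 : n * E.xa s * n⁻¹ * (E.xz x * E.xc y') * (n * E.xa s * n⁻¹)⁻¹ =
      E.xz z * (E.xz x * E.xc y') := by
    rw [← hy, ← hz]
    calc n * E.xa s * n⁻¹ * (n * E.xc y * n⁻¹) * (n * E.xa s * n⁻¹)⁻¹
        = n * (E.xa s * E.xc y * (E.xa s)⁻¹) * n⁻¹ := by group
      _ = _ := by rw [h2]; group
  have h4 : n * E.xa s * n⁻¹ * (E.xz x * E.xc y') * (n * E.xa s * n⁻¹)⁻¹ =
      E.xz x * (n * E.xa s * n⁻¹ * E.xc y' * (n * E.xa s * n⁻¹)⁻¹) := by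
    have h5 := S.P_z _ (S.Q1_le_P (N_Q1 hn (S.a_mem s))) x
    rw [← mul_assoc (n * E.xa s * n⁻¹), ← h5]; group
  rw [h4, h1] at h3
  have h6 : E.xz (B.tr (S.pa (n * E.xa s * n⁻¹) * B.s y')) * (E.xz x * E.xc y') =
      E.xz z * (E.xz x * E.xc y') := by
    rw [← h3, ← mul_assoc, ← mul_assoc, ← E.xz_add, ← E.xz_add, add_comm]
  exact (xz_inj (mul_right_cancel h6)).symm

end SeedEnv

end Cfsg.Agent.StdRank2.UFour.Seeding
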