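import Cfsg.Agent.StdRank2.UFour.SeedMove

/-!
# The seed, part 3: `m` centralises `P`, and the seed of the growth

`exists_seed`: from an element normalising `P` and moving `t` to `z t`, `z ∈ X_z`.
`normP_of_perfect`: the subgroup `P` is normalised by `N(⟨t⟩ X_z)` if it contains all perfect subgroups of
`C(⟨t⟩ X_z)`.
-/

set_option autoImplicit false
set_option linter.unusedSectionVars false

namespace Cfsg.Agent.StdRank2.UFour.SeedEnd

open Subgroup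
open Cfsg.Agent.StdEven.Syl
open Cfsg.Agent.StdRank2.UFour.Seeding Cfsg.Agent.StdRank2.UFour.Seeding.SeedEnv
open Cfsg.Agent.StdRank2.UFour.SeedMove

variable {F : Type*} [Field F] [CharP F 2] {B : Bar F} {G : Type*} [Group G]
variable {E : WEnv B G} {V : Type*} [AddCommGroup V] [Module F V] (S : SeedEnv E V)

/-! ### The action of an element of `N` on the coordinates -/

/-- the action of `Hp` on the coordinates. -/
theorem co_conj_H {k : G} (hk : k ∈ S.Hp) {μ : F} (hw : Wt E S.xv S.chi k μ) {g : G} (hg : g ∈ S.Q1) :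
    S.co (k * g * k⁻¹) =
      (μ * (S.co g).1, S.chi μ • (S.co g).2.1, (B.s μ)⁻¹ * (S.co g).2.2) := by
  obtain ⟨x, hx⟩ := S.form hg
  obtain ⟨x1, hx1⟩ := hw.v (S.pv g)
  have hz : k * E.xz x * k⁻¹ = E.xz x := by
    rw [← S.P_z _ (S.Hp_P hk)]; group
  have m1 := S.a_mem (μ * S.pa g)
  have m3 := S.v_mem (S.chi μ • S.pv g)
  have e2 : k * g * k⁻¹ = E.xz x * (E.xz x1 * S.st (μ * S.pa g, S.chi μ • S.pv g, (B.s μ)⁻¹ * S.pc g)) := by
    have e3 : k * g * k⁻¹ = E.xz x * (E.xa (μ * S.pa g) * (E.xz x1 * S.xv (S.chi μ • S.pv g)) *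
        E.xc ((B.s μ)⁻¹ * S.pc g)) := by
      rw [← hw.a, ← hw.c, ← hx1]
      conv_rhs => rw [← hz]
      conv_lhs => rw [hx]
      unfold st co
      group
    rw [e3]
    unfold st
    rw [← mul_assoc (E.xa _), ← Q1_Z_of S m1 x1]
    simp only [mul_assoc]
  rw [e2, S.co_z_mul _ (mul_mem (S.z_mem_Q1 _) (S.st_mem _)), S.co_z_mul _ (S.st_mem _), S.co_st]
  rfl

theorem exists_odd [Finite F] (E : WEnv B G) : Odd (Nat.card F - 1) := by
  have : Fact (Nat.Prime 2) := ⟨Nat.prime_two⟩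
  have := Fintype.ofFinite F
  obtain ⟨n, hp, hn⟩ := FiniteField.card F 2
  rw [Nat.card_eq_fintype_card, hn]
  have h1 : Even (2 ^ (n : ℕ)) := (Nat.even_pow.2 ⟨even_two, n.pos.ne'⟩)
  have h2 : 1 ≤ 2 ^ (n : ℕ) := Nat.one_le_two_pow
  exact Nat.Even.sub_odd h2 h1 odd_one

/-- The centralising power of `m`. -/
theorem exists_central [Finite G] [Finite F] {m : G} (hm : m ∈ S.N) (hH : ∀ k ∈ S.Hp, m * k = k * m)
    (hz : ∀ x, m * E.xz x = E.xz x * m) (ha : ∀ g ∈ S.Q1, S.pa (m * g * m⁻¹) = S.pa g)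
    (hc : ∀ y, ∃ x, m * E.xc y * m⁻¹ = E.xz x * E.xc y) {d : B.K}
    (ht : m * E.t * m⁻¹ = E.xz d * E.t) :
    ∃ m' ∈ S.N, (∀ k ∈ S.Hp, m' * k = k * m') ∧ (∀ x, m' * E.xz x = E.xz x * m') ∧
      (∀ g ∈ S.Q1, ∃ x, m' * g * m'⁻¹ = E.xz x * g) ∧ m' * E.t * m'⁻¹ = E.xz d * E.t := by
  have hmz : ∀ x, m * E.xz x * m⁻¹ = E.xz x := fun x => mul_inv_eq_iff_eq_mul.2 (hz x)
  -- the induced map of the coordinates
  let Φ : F × V × F → F × V × F := fun p => S.co (m * S.st p * m⁻¹)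
  have key : ∀ g ∈ S.Q1, S.co (m * g * m⁻¹) = Φ (S.co g) := by
    intro g hg
    obtain ⟨x, hx⟩ := S.form hg
    have e : m * g * m⁻¹ = E.xz x * (m * S.st (S.co g) * m⁻¹) := by
      conv_lhs => rw [hx]
      rw [← mul_assoc, hz]; group
    rw [e, S.co_z_mul _ (N_Q1 hm (S.st_mem _))]
  have hadd : ∀ p q, Φ (p + q) = Φ p + Φ q := by
    intro p q
    have h1 : S.co (S.st p * S.st q) = p + q := by
      rw [S.co_mul (S.st_mem p) (S.st_mem q), S.co_st, S.co_st]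
    rw [← h1, ← key _ (mul_mem (S.st_mem p) (S.st_mem q))]
    have e : m * (S.st p * S.st q) * m⁻¹ = (m * S.st p * m⁻¹) * (m * S.st q * m⁻¹) := by group
    rw [e, S.co_mul (N_Q1 hm (S.st_mem p)) (N_Q1 hm (S.st_mem q))]
  have hequiv : ∀ μ, μ ≠ 0 → ∀ p, Φ (μ * p.1, S.chi μ • p.2.1, (B.s μ)⁻¹ * p.2.2) =
      (μ * (Φ p).1, S.chi μ • (Φ p).2.1, (B.s μ)⁻¹ * (Φ p).2.2) := by
    intro μ hμ p
    obtain ⟨k, hk, hw⟩ := S.Hp_onto μ hμ
    have hkN : k ∈ S.N := T_le_N S (S.Hp_T hk)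
    have h1 := co_conj_H S hk hw (S.st_mem p)
    rw [S.co_st] at h1
    rw [← h1, ← key _ (N_Q1 hkN (S.st_mem p))]
    have e : m * (k * S.st p * k⁻¹) * m⁻¹ = k * (m * S.st p * m⁻¹) * k⁻¹ := by
      have h2 := hH k hk
      have h3 : k⁻¹ * m⁻¹ = m⁻¹ * k⁻¹ := by rw [← mul_inv_rev, h2, mul_inv_rev]
      calc m * (k * S.st p * k⁻¹) * m⁻¹ = (m * k) * S.st p * (k⁻¹ * m⁻¹) := by group
        _ = _ := by rw [h2, h3]; group
    rw [e]
    exact co_conj_H S hk hw (N_Q1 hm (S.st_mem p))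
  have ha' : ∀ s, (Φ (s, 0, 0)).1 = s := by
    intro s
    have h1 := ha _ (S.st_mem (s, 0, 0))
    have h2 : S.pa (S.st (s, 0, 0)) = s := congrArg Prod.fst (S.co_st (s, 0, 0))
    rw [h2] at h1
    exact h1
  have hc' : ∀ y, (Φ (0, 0, y)).2.2 = y := by
    intro y
    have h1 : S.co (E.xc y) = (0, 0, y) := by
      unfold co; rw [S.pa_c, S.pv_c, S.pc_c]
    obtain ⟨x, hx⟩ := hc y
    rw [← h1, ← key _ (S.c_mem y), hx, S.co_z_mul _ (S.c_mem y), h1]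
  have hinj : ∀ p, Φ p = 0 → p = 0 := by
    intro p hp
    obtain ⟨x, hx⟩ := S.ker' (N_Q1 hm (S.st_mem p)) hp
    have h1 : S.st p = E.xz x := by
      have : S.st p = m⁻¹ * E.xz x * m := by rw [← hx]; group
      rw [this, mul_assoc, ← hz, inv_mul_cancel_left]
    rw [← S.co_st p, h1, S.co_z]
  obtain ⟨l, hl, hΦ⟩ := SeedField.diag B (K_ne E) S.chi_eq Φ hadd hequiv ha' hc' hinj S.V_gen
  -- powers
  have hpow : ∀ (j : ℕ) (g : G), g ∈ S.Q1 → S.co (m ^ j * g * (m ^ j)⁻¹) =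
      ((S.co g).1, l ^ j • (S.co g).2.1, (S.co g).2.2) := by
    intro j
    induction j with
    | zero =>
      intro g _
      rw [pow_zero, pow_zero, one_smul, one_mul, inv_one, mul_one]
    | succ j ih =>
      intro g hg
      have e : m ^ (j + 1) * g * (m ^ (j + 1))⁻¹ = m * (m ^ j * g * (m ^ j)⁻¹) * m⁻¹ := by
        rw [pow_succ']; group
      rw [e, key _ (N_Q1 (pow_mem hm j) hg), ih g hg, hΦ, smul_smul, ← pow_succ']
  have hl1 : l ^ (Nat.card F - 1) = 1 := by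
    have := Fintype.ofFinite F
    rw [Nat.card_eq_fintype_card]
    exact FiniteField.pow_card_sub_one_eq_one l hl
  obtain ⟨r, hr⟩ := exists_odd (F := F) E
  refine ⟨m ^ (Nat.card F - 1), pow_mem hm _, ?_, ?_, ?_, ?_⟩
  · intro k hk
    exact (Commute.pow_left (hH k hk) _).eq
  · intro x
    exact (Commute.pow_left (hz x) _).eq
  · intro g hg
    refine S.eq_of_co (N_Q1 (pow_mem hm _) hg) hg ?_
    rw [hpow _ g hg, hl1, one_smul]
  · have h2 : m ^ 2 * E.t * (m ^ 2)⁻¹ = E.t := by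
      have e : m ^ 2 * E.t * (m ^ 2)⁻¹ = m * (m * E.t * m⁻¹) * m⁻¹ := by rw [pow_two]; group
      rw [e, ht]
      have e2 : m * (E.xz d * E.t) * m⁻¹ = (m * E.xz d * m⁻¹) * (m * E.t * m⁻¹) := by group
      rw [e2, hmz, ht, ← mul_assoc, E.xz_sq, one_mul]
    have h3 : ∀ j : ℕ, m ^ (2 * j) * E.t * (m ^ (2 * j))⁻¹ = E.t := by
      intro j
      rw [pow_mul]
      have h4 : Commute (m ^ 2) E.t := mul_inv_eq_iff_eq_mul.1 h2
      rw [(h4.pow_left j).eq]; group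
    rw [hr, pow_succ']
    have e : m * m ^ (2 * r) * E.t * (m * m ^ (2 * r))⁻¹ = m * (m ^ (2 * r) * E.t * (m ^ (2 * r))⁻¹) * m⁻¹ := by
      group
    rw [e, h3, ht]

/-- there is a torus element moving everything in `Q₁/Z`. -/
theorem exists_moving (B : Bar F) : ∃ μ : F, μ ≠ 0 ∧ μ ≠ 1 ∧ B.s μ ≠ μ := by
  obtain ⟨x, hx⟩ := B.ne
  refine ⟨x, ?_, ?_, hx⟩
  · rintro rfl; exact hx (map_zero _)
  · rintro rfl; exact hx (map_one _)

/-- `m'` centralises `Q₁`. -/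
theorem comm_Q1 [Finite G] {m : G} (hm : m ∈ S.N) (hH : ∀ k ∈ S.Hp, m * k = k * m)
    (hz : ∀ x, m * E.xz x = E.xz x * m) (hq : ∀ g ∈ S.Q1, ∃ x, m * g * m⁻¹ = E.xz x * g) :
    ∀ g ∈ S.Q1, m * g = g * m := by
  have h2 : ∀ a : F, a + a = 0 := fun a => CharTwo.add_self_eq_zero a
  have hV2 : ∀ w : V, w + w = 0 := SeedField.V_add_self F
  intro g hg
  obtain ⟨μ, hμ, hμ1, hμs⟩ := exists_moving B
  obtain ⟨k, hk, hw⟩ := S.Hp_onto μ hμ
  have hsμ : B.s μ ≠ 0 := (map_ne_zero_iff B.s B.s.injective).2 hμ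
  have n1 : μ + 1 ≠ 0 := fun h => hμ1 (by linear_combination h - h2 1)
  have n2 : S.chi μ + 1 ≠ 0 := by
    intro h
    have h3 : S.chi μ = 1 := by linear_combination h - h2 1
    rcases S.chi_eq μ hμ with h4 | h4
    · rw [h4, div_eq_one_iff_eq hμ] at h3
      exact hμs h3
    · rw [h4, div_eq_one_iff_eq hsμ] at h3
      exact hμs h3.symm
  have n3 : (B.s μ)⁻¹ + 1 ≠ 0 := by
    intro h
    have h3 : (B.s μ)⁻¹ = 1 := by linear_combination h - h2 1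
    have h4 : B.s μ = 1 := inv_eq_one.1 h3
    apply hμ1
    rw [← B.invol μ, h4, map_one]
  -- `g' = st (...)` with `k g' k⁻¹ = z g g'`
  let p : F × V × F := ((μ + 1)⁻¹ * (S.co g).1, (S.chi μ + 1)⁻¹ • (S.co g).2.1,
    ((B.s μ)⁻¹ + 1)⁻¹ * (S.co g).2.2)
  have hkN : k ∈ S.N := T_le_N S (S.Hp_T hk)
  have h3 : S.co (k * S.st p * k⁻¹) = S.co (g * S.st p) := by
    rw [co_conj_H S hk hw (S.st_mem p), S.co_mul hg (S.st_mem p), S.co_st]
    refine Prod.ext ?_ (Prod.ext ?_ ?_)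
    · change μ * ((μ + 1)⁻¹ * (S.co g).1) = (S.co g).1 + (μ + 1)⁻¹ * (S.co g).1
      have e : (μ + 1) * (μ + 1)⁻¹ = 1 := mul_inv_cancel₀ n1
      linear_combination (S.co g).1 * e - h2 ((μ + 1)⁻¹ * (S.co g).1)
    · change S.chi μ • ((S.chi μ + 1)⁻¹ • (S.co g).2.1) =
        (S.co g).2.1 + (S.chi μ + 1)⁻¹ • (S.co g).2.1
      have e : (S.chi μ + 1) • ((S.chi μ + 1)⁻¹ • (S.co g).2.1) = (S.co g).2.1 := by
        rw [smul_smul, mul_inv_cancel₀ n2, one_smul]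
      rw [add_smul, one_smul] at e
      calc S.chi μ • ((S.chi μ + 1)⁻¹ • (S.co g).2.1)
          = (S.chi μ • ((S.chi μ + 1)⁻¹ • (S.co g).2.1) + (S.chi μ + 1)⁻¹ • (S.co g).2.1) +
            (S.chi μ + 1)⁻¹ • (S.co g).2.1 := by rw [add_assoc, hV2, add_zero]
        _ = _ := by rw [e]
    · change (B.s μ)⁻¹ * (((B.s μ)⁻¹ + 1)⁻¹ * (S.co g).2.2) =
        (S.co g).2.2 + ((B.s μ)⁻¹ + 1)⁻¹ * (S.co g).2.2
      have e : ((B.s μ)⁻¹ + 1) * ((B.s μ)⁻¹ + 1)⁻¹ = 1 := mul_inv_cancel₀ n3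
      linear_combination (S.co g).2.2 * e - h2 (((B.s μ)⁻¹ + 1)⁻¹ * (S.co g).2.2)
  obtain ⟨x, hx⟩ := S.eq_of_co (N_Q1 hkN (S.st_mem p)) (mul_mem hg (S.st_mem p)) h3
  -- `m` acts on `st p` by `z1`, on `g` by `z2`
  obtain ⟨z1, hz1⟩ := hq _ (S.st_mem p)
  obtain ⟨z2, hz2⟩ := hq g hg
  have c1 : m * (k * S.st p * k⁻¹) * m⁻¹ = E.xz z1 * (k * S.st p * k⁻¹) := by
    have h4 := hH k hk
    have h5 : k⁻¹ * m⁻¹ = m⁻¹ * k⁻¹ := by rw [← mul_inv_rev, h4, mul_inv_rev]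
    calc m * (k * S.st p * k⁻¹) * m⁻¹ = (m * k) * S.st p * (k⁻¹ * m⁻¹) := by group
      _ = k * (m * S.st p * m⁻¹) * k⁻¹ := by rw [h4, h5]; group
      _ = (k * E.xz z1) * S.st p * k⁻¹ := by rw [hz1]; group
      _ = _ := by rw [← S.P_z _ (S.Hp_P hk)]; group
  have c2 : m * (E.xz x * (g * S.st p)) * m⁻¹ = E.xz (z2 + z1) * (E.xz x * (g * S.st p)) := by
    calc m * (E.xz x * (g * S.st p)) * m⁻¹ = (m * E.xz x) * (g * S.st p) * m⁻¹ := by group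
      _ = E.xz x * (m * g * m⁻¹) * (m * S.st p * m⁻¹) := by rw [hz]; group
      _ = E.xz x * E.xz z2 * (g * E.xz z1) * S.st p := by rw [hz1, hz2]; group
      _ = (E.xz x * (E.xz z2 * E.xz z1)) * g * S.st p := by rw [← Q1_Z_of S hg z1]; group
      _ = ((E.xz z2 * E.xz z1) * E.xz x) * g * S.st p := by
          rw [← E.xz_add, ← E.xz_add, ← E.xz_add, add_comm x]
      _ = _ := by rw [E.xz_add]; group
  rw [hx, c2] at c1
  have h6 := mul_right_cancel c1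
  have h7 := xz_inj h6
  have h8 : z2 = 0 := by linear_combination h7
  rw [h8, E.xz_zero, one_mul] at hz2
  exact mul_inv_eq_iff_eq_mul.1 hz2

/-- an element normalising `P` and centralising `Q₁` centralises `P`. -/
theorem comm_P {m : G} (hP : ∀ g ∈ S.P, m * g * m⁻¹ ∈ S.P) (hQ : ∀ g ∈ S.Q1, m * g = g * m) :
    ∀ g ∈ S.P, m * g = g * m := by
  have h1 : ∀ p ∈ S.P, ∃ x, m * p * m⁻¹ * p⁻¹ = E.xz x := by
    intro p hp
    apply S.cent_Q1 _ (mul_mem (hP p hp) (inv_mem hp))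
    intro g hg
    have h2 : p⁻¹ * g * p ∈ S.Q1 := by
      have := S.Q1_P _ (inv_mem hp) _ hg
      rwa [inv_inv] at this
    have h3 := hQ _ h2
    have h4 : m⁻¹ * (p⁻¹ * g * p) = (p⁻¹ * g * p) * m⁻¹ := by
      calc m⁻¹ * (p⁻¹ * g * p) = m⁻¹ * ((p⁻¹ * g * p) * m) * m⁻¹ := by group
        _ = _ := by rw [← h3]; group
    calc m * p * m⁻¹ * p⁻¹ * g = m * p * (m⁻¹ * (p⁻¹ * g * p)) * p⁻¹ := by group
      _ = (m * g) * p * m⁻¹ * p⁻¹ := by rw [h4]; group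
      _ = _ := by rw [hQ g hg]; group
  have h2 : S.P ≤ centralizer ({m} : Set G) := by
    refine S.P_odd.trans ?_
    rw [Subgroup.closure_le]
    rintro g ⟨hg, k, hk, hgk⟩
    obtain ⟨x, hx⟩ := h1 g hg
    have e : m * g * m⁻¹ = E.xz x * g := by rw [← hx]; group
    have h3 : (m * g * m⁻¹) ^ k = 1 := by rw [conj_pow, hgk, mul_one, mul_inv_cancel]
    have hc : Commute (E.xz x) g := S.P_z g hg x
    rw [e, hc.mul_pow, hgk, mul_one] at h3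
    obtain ⟨r, rfl⟩ := hk
    have h4 : E.xz x = 1 := by
      rw [pow_succ, pow_mul, pow_two, E.xz_sq, one_pow, one_mul] at h3
      exact h3
    rw [h4, one_mul] at e
    rw [SetLike.mem_coe, mem_centralizer_singleton_iff]
    exact (mul_inv_eq_iff_eq_mul.1 e).symm
  intro g hg
  exact (mem_centralizer_singleton_iff.1 (h2 hg)).symm

/-- **The seed.** -/
theorem exists_seed' [Finite G] [Finite F] {n₀ : G} (hn : ∀ g ∈ S.P, n₀ * g * n₀⁻¹ ∈ S.P) {c : B.K}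
    (hc : c ≠ 0) (ht : n₀ * E.t * n₀⁻¹ = E.xz c * E.t) :
    ∃ Sd : Seed E, ∀ y ∈ Sd.Y, ∀ g ∈ S.P, y * g = g * y := by
  obtain ⟨n, hn1, hn2⟩ := exists_mem_N S hn ht
  obtain ⟨m, hm, hH, hz, ha, hcc, d, hd, hmt⟩ := exists_m S hn1 hc hn2
  obtain ⟨m', hm', hH', hz', hq', hmt'⟩ := exists_central S hm hH hz ha hcc hmt
  have hP' := comm_P S (fun g hg => N_P hm' hg) (comm_Q1 S hm' hH' hz' hq')
  have fixz : ∀ p ∈ S.P, ∀ x, p * E.xz x * p⁻¹ = E.xz x := by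
    intro p hp x
    rw [← S.P_z p hp]; group
  let Y : Subgroup G :=
    { carrier := {y | (∀ g ∈ S.P, y * g = g * y) ∧ ∃ c, y * E.t * y⁻¹ = E.xz c * E.t}
      mul_mem' := by
        rintro a b ⟨ha1, ca, ha2⟩ ⟨hb1, cb, hb2⟩
        refine ⟨fun g hg => by rw [mul_assoc, hb1 g hg, ← mul_assoc, ha1 g hg, mul_assoc],
          cb + ca, ?_⟩
        have e : a * b * E.t * (a * b)⁻¹ = a * (b * E.t * b⁻¹) * a⁻¹ := by group
        rw [e, hb2]
        have e2 : a * (E.xz cb * E.t) * a⁻¹ = (a * E.xz cb) * a⁻¹ * (a * E.t * a⁻¹) := by group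
        rw [e2, ha2, ha1 _ (S.z_mem_P cb), mul_inv_cancel_right, ← mul_assoc, ← E.xz_add]
      one_mem' := ⟨fun g _ => by group, 0, by rw [E.xz_zero]; group⟩
      inv_mem' := by
        rintro a ⟨ha1, ca, ha2⟩
        have h1 : ∀ g ∈ S.P, a⁻¹ * g = g * a⁻¹ := by
          intro g hg
          calc a⁻¹ * g = a⁻¹ * (g * a) * a⁻¹ := by group
            _ = g * a⁻¹ := by rw [← ha1 g hg]; group
        refine ⟨h1, ca, ?_⟩
        have h2 : a⁻¹ * (E.xz ca * E.t) * a = E.t := by rw [← ha2]; group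
        have h3 : a⁻¹ * (E.xz ca * E.t) * a = (a⁻¹ * E.xz ca) * a * (a⁻¹ * E.t * a) := by group
        rw [h3, h1 _ (S.z_mem_P ca), inv_mul_cancel_right] at h2
        calc a⁻¹ * E.t * a⁻¹⁻¹ = E.xz ca * (E.xz ca * (a⁻¹ * E.t * a)) := by
              rw [← mul_assoc (E.xz ca), E.xz_sq, one_mul, inv_inv]
          _ = _ := by rw [h2] }
  have hYT : ∀ g ∈ E.T, ∀ y ∈ Y, g * y * g⁻¹ ∈ Y := by
    rintro g hg y ⟨hy1, cy, hy2⟩
    constructor
    · intro p hp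
      have h1 : g⁻¹ * p * g ∈ S.P := by
        have := S.T_P _ (inv_mem hg) p hp
        rwa [inv_inv] at this
      have h2 := hy1 _ h1
      calc g * y * g⁻¹ * p = g * (y * (g⁻¹ * p * g)) * g⁻¹ := by group
        _ = _ := by rw [h2]; group
    · have h1 := E.T_t g hg
      have h2 : g⁻¹ * E.t = E.t * g⁻¹ := (E.T_t _ (inv_mem hg)).symm
      obtain ⟨μ, ν, -, -, -, hz⟩ := E.T_act g hg
      refine ⟨B.nm μ * ν * cy, ?_⟩
      calc g * y * g⁻¹ * E.t * (g * y * g⁻¹)⁻¹ = g * y * (g⁻¹ * E.t) * g * y⁻¹ * g⁻¹ := by group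
        _ = g * (y * E.t * y⁻¹) * g⁻¹ := by rw [h2]; group
        _ = (g * E.xz cy * g⁻¹) * (g * E.t) * g⁻¹ := by rw [hy2]; group
        _ = _ := by rw [hz, ← h1]; group
  refine ⟨{
    Y := Y
    t_mem := ⟨fun g hg => S.P_t g hg, 0, by rw [E.xz_zero]; group⟩
    z_mem := fun x => ⟨fun g hg => S.P_z g hg x, 0, by rw [← E.t_z, E.xz_zero]; group⟩
    Q_comm := fun y hy g hg => hy.1 g (S.U_le (S.Q_le hg))
    a_comm := fun y hy s => hy.1 _ (S.Q1_le_P (S.a_mem s))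
    conj_t := fun y hy => hy.2
    onto := ?_
    cent := fun y hy hyt => S.cent_P y hyt hy.1
    conj_T := hYT }, fun y hy g hg => hy.1 g hg⟩
  intro e
  by_cases he : e = 0
  · exact ⟨1, one_mem _, by rw [he, E.xz_zero]; group⟩
  · have hmY : m' ∈ Y := ⟨hP', d, hmt'⟩
    let ν : B.Kˣ := Units.mk0 (e * d⁻¹) (mul_ne_zero he (inv_ne_zero hd))
    refine ⟨_, hYT _ (E.h_mem 1 ν) _ hmY, ?_⟩
    have h1 := E.T_t _ (E.h_mem 1 ν)
    have h2 : (E.h 1 ν)⁻¹ * E.t = E.t * (E.h 1 ν)⁻¹ := (E.T_t _ (inv_mem (E.h_mem 1 ν))).symm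
    calc E.h 1 ν * m' * (E.h 1 ν)⁻¹ * E.t * (E.h 1 ν * m' * (E.h 1 ν)⁻¹)⁻¹
        = E.h 1 ν * m' * ((E.h 1 ν)⁻¹ * E.t) * E.h 1 ν * m'⁻¹ * (E.h 1 ν)⁻¹ := by group
      _ = E.h 1 ν * (m' * E.t * m'⁻¹) * (E.h 1 ν)⁻¹ := by rw [h2]; group
      _ = (E.h 1 ν * E.xz d * (E.h 1 ν)⁻¹) * (E.h 1 ν * E.t) * (E.h 1 ν)⁻¹ := by rw [hmt']; group
      _ = E.xz (B.nm ((1 : Fˣ) : F) * ν * d) * E.t := by rw [E.h_z, ← h1]; group
      _ = E.xz e * E.t := by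
          congr 2
          rw [Units.val_one, B.nm_one, one_mul]
          change e * d⁻¹ * d = e
          rw [mul_assoc, inv_mul_cancel₀ hd, mul_one]

theorem exists_seed [Finite G] [Finite F] {n₀ : G} (hn : ∀ g ∈ S.P, n₀ * g * n₀⁻¹ ∈ S.P) {c : B.K}
    (hc : c ≠ 0) (ht : n₀ * E.t * n₀⁻¹ = E.xz c * E.t) : Nonempty (Seed E) := by
  obtain ⟨Sd, -⟩ := exists_seed' S hn hc ht
  exact ⟨Sd⟩

/-- If `P` contains all perfect subgroups centralising `⟨t⟩ X_z`, it is normalised by `N(⟨t⟩ X_z)`. -/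
theorem normP_of_perfect (hperf : ⁅S.P, S.P⁆ = S.P)
    (h : ∀ R : Subgroup G, ⁅R, R⁆ = R → (∀ g ∈ R, E.t * g = g * E.t) →
      (∀ g ∈ R, ∀ x, E.xz x * g = g * E.xz x) → R ≤ S.P)
    {n : G} (hn1 : ∃ x, n⁻¹ * E.t * n = E.xz x ∨ n⁻¹ * E.t * n = E.xz x * E.t)
    (hn2 : ∀ y, ∃ x, n⁻¹ * E.xz y * n = E.xz x ∨ n⁻¹ * E.xz y * n = E.xz x * E.t) :
    ∀ g ∈ S.P, n * g * n⁻¹ ∈ S.P := by
  have comm : ∀ a : G, (∃ x, n⁻¹ * a * n = E.xz x ∨ n⁻¹ * a * n = E.xz x * E.t) →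
      ∀ g ∈ S.P, a * (n * g * n⁻¹) = (n * g * n⁻¹) * a := by
    rintro a ⟨x, hx⟩ g hg
    have h1 : (n⁻¹ * a * n) * g = g * (n⁻¹ * a * n) := by
      rcases hx with hx | hx
      · rw [hx, S.P_z g hg]
      · rw [hx, mul_assoc, S.P_t g hg, ← mul_assoc, S.P_z g hg, mul_assoc]
    calc a * (n * g * n⁻¹) = n * ((n⁻¹ * a * n) * g) * n⁻¹ := by group
      _ = _ := by rw [h1]; group
  have h1 := h (S.P.map (MulAut.conj n).toMonoidHom) (by
    rw [← Subgroup.map_commutator, hperf]) (by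
    rintro _ ⟨g, hg, rfl⟩
    exact comm _ hn1 g hg) (by
    rintro _ ⟨g, hg, rfl⟩ y
    exact comm _ (hn2 y) g hg)
  intro g hg
  exact h1 (conj_mem_map n hg)

end Cfsg.Agent.StdRank2.UFour.SeedEnd
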