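import Cfsg.Agent.StdRank2.UFour.Seed

/-!
# The seed, part 2: an element `m` centralising `X_z` and the torus `Hp`, and moving `t`
-/

set_option autoImplicit false
set_option linter.unusedSectionVars false

namespace Cfsg.Agent.StdRank2.UFour.SeedMove

open Subgroup
open scoped Pointwise
open Cfsg.Agent.StdEven.Syl
open Cfsg.Agent.StdRank2.UFour.Seeding Cfsg.Agent.StdRank2.UFour.Seeding.SeedEnv

variable {F : Type*} [Field F] [CharP F 2] {B : Bar F} {G : Type*} [Group G]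
variable {E : WEnv B G} {V : Type*} [AddCommGroup V] [Module F V] (S : SeedEnv E V)

/-! ### Choosing `n` in the normaliser of `U` and `Hp` -/

theorem odd_of_pow {H : Subgroup G} [Finite G] (h : ∀ g ∈ H, ∃ m, Odd m ∧ g ^ m = 1) :
    Odd (Nat.card H) := by
  by_contra hcon
  rw [Nat.not_odd_iff_even] at hcon
  have : Fact (Nat.Prime 2) := ⟨Nat.prime_two⟩
  obtain ⟨x, hx⟩ := exists_prime_orderOf_dvd_card' (G := H) 2 hcon.two_dvd
  obtain ⟨m, hm, h1⟩ := h x.1 x.2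
  have h2 : x ^ m = 1 := Subtype.ext h1
  have h3 := orderOf_dvd_of_pow_eq_one h2
  rw [hx] at h3
  rw [← Nat.not_even_iff_odd] at hm
  exact hm (even_iff_two_dvd.2 h3)

theorem exists_mul_mem_N [Finite G] {n₀ : G} (hn : ∀ g ∈ S.P, n₀ * g * n₀⁻¹ ∈ S.P) :
    ∃ p ∈ S.P, p * n₀ ∈ S.N := by
  have : Fact (Nat.Prime 2) := ⟨Nat.prime_two⟩
  have hn₀ : n₀ ∈ normalizer (S.P : Set G) := mem_normalizer_of_conj_le hn
  -- Sylow
  obtain ⟨p, hp, hpU⟩ := S.U_syl.exists_conj (X := S.U.map (MulAut.conj n₀).toMonoidHom)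
    (isPGroup_map S.U_syl.two n₀) (by
      rintro _ ⟨x, hx, rfl⟩
      exact hn x (S.U_le hx))
  have hpP : p ∈ normalizer (S.P : Set G) := Subgroup.le_normalizer hp
  have h1P : p * n₀ ∈ normalizer (S.P : Set G) := mul_mem hpP hn₀
  have h1U : p * n₀ ∈ normalizer (S.U : Set G) := by
    apply mem_normalizer_of_conj_le
    intro x hx
    have := hpU _ (conj_mem_map n₀ hx)
    have e : p * n₀ * x * (p * n₀)⁻¹ = p * (n₀ * x * n₀⁻¹) * p⁻¹ := by group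
    rwa [e]
  have hex : ∃ n₁, n₁ = p * n₀ := ⟨_, rfl⟩
  obtain ⟨n₁, hn₁⟩ := hex
  rw [← hn₁] at h1P h1U
  clear hpU hpP hn₀
  -- the Borel subgroup of `P`
  let B1 : Subgroup G := S.P ⊓ normalizer (S.U : Set G)
  have hUB : S.U ≤ B1 := le_inf S.U_le Subgroup.le_normalizer
  have hHU : S.Hp ≤ normalizer (S.U : Set G) := fun k hk =>
    mem_normalizer_of_conj_le (S.T_U k (S.Hp_T hk))
  have hHB : S.Hp ≤ B1 := le_inf S.Hp_P hHU
  let N' : Subgroup B1 := S.U.subgroupOf B1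
  have : N'.Normal := by
    constructor
    rintro ⟨x, hx⟩ hx' ⟨g, hg⟩
    rw [mem_subgroupOf] at hx' ⊢
    exact conj_mem_of_mem_normalizer hg.2 hx'
  let H : Subgroup B1 := S.Hp.subgroupOf B1
  have hK1 : S.Hp.map (MulAut.conj n₁).toMonoidHom ≤ B1 := by
    rintro _ ⟨k, hk, rfl⟩
    refine ⟨conj_mem_of_mem_normalizer h1P (S.Hp_P hk), ?_⟩
    have h3 : n₁ * k * n₁⁻¹ ∈ normalizer (S.U : Set G) := mul_mem (mul_mem h1U (hHU hk)) (inv_mem h1U)
    exact h3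
  let K : Subgroup B1 := (S.Hp.map (MulAut.conj n₁).toMonoidHom).subgroupOf B1
  have hodd : Odd (Nat.card S.Hp) := odd_of_pow fun g hg => E.T_odd g (S.Hp_T hg)
  have hN'2 : IsPGroup 2 N' := S.U_syl.two.comap_subtype
  have cardH : Nat.card H = Nat.card S.Hp := Nat.card_congr (Subgroup.subgroupOfEquivOfLe hHB).toEquiv
  have cardK : Nat.card K = Nat.card S.Hp := by
    rw [Nat.card_congr (Subgroup.subgroupOfEquivOfLe hK1).toEquiv]
    exact (Nat.card_congr (S.Hp.equivMapOfInjective (MulAut.conj n₁).toMonoidHom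
      (MulAut.conj n₁).injective).toEquiv).symm
  have hcop0 : (Nat.card N').Coprime (Nat.card S.Hp) := by
    obtain ⟨k, hk⟩ := IsPGroup.iff_card.1 hN'2
    rw [hk]
    exact Nat.Coprime.pow_left k (Nat.coprime_two_left.2 hodd)
  have hH : IsComplement' N' H := by
    apply Subgroup.isComplement'_of_disjoint_and_mul_eq_univ
    · rw [disjoint_iff, eq_bot_iff]
      intro x hx
      have h3 : Nat.card (N' ⊓ H : Subgroup B1) = 1 := by
        apply Nat.eq_one_of_dvd_coprimes hcop0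
        · exact Subgroup.card_dvd_of_le inf_le_left
        · rw [← cardH]; exact Subgroup.card_dvd_of_le inf_le_right
      have h4 : (N' ⊓ H : Subgroup B1) = ⊥ := Subgroup.card_eq_one.1 h3
      rwa [h4] at hx
    · apply Set.eq_univ_of_forall
      rintro ⟨x, hx⟩
      obtain ⟨u, hu, k, hk, e⟩ := S.borel x hx.1 (fun u hu => conj_mem_of_mem_normalizer hx.2 hu)
      exact ⟨⟨u, hUB hu⟩, mem_subgroupOf.2 hu, ⟨k, hHB hk⟩, mem_subgroupOf.2 hk, Subtype.ext e.symm⟩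
  have hind : Nat.card S.Hp = N'.index := by rw [← cardH]; exact hH.card_right
  have hcop : (Nat.card N').Coprime N'.index := by rw [← hind]; exact hcop0
  have hK : IsComplement' N' K :=
    Cfsg.Agent.Solvable.SchurZassenhausConj.isComplement'_of_card_eq_index N' K hcop (by
      rw [cardK, hind])
  have hsolv : Group.IsSolvable N' := by
    have : Group.IsNilpotent N' := hN'2.isNilpotent
    infer_instance
  obtain ⟨⟨g, hg⟩, hgK⟩ := Cfsg.Agent.Solvable.SchurZassenhausConj.conj_of_solvable N' hcop (Or.inl hsolv)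
    K H hK hH
  have hgU : g ∈ normalizer (S.U : Set G) := hg.2
  have hgP : g ∈ normalizer (S.P : Set G) := Subgroup.le_normalizer hg.1
  refine ⟨g * p, mul_mem hg.1 hp, ?_⟩
  rw [mul_assoc, ← hn₁]
  refine ⟨⟨mul_mem hgP h1P, mul_mem hgU h1U⟩, ?_⟩
  apply mem_normalizer_of_conj_le
  intro k hk
  have h2 : (⟨n₁ * k * n₁⁻¹, hK1 (conj_mem_map n₁ hk)⟩ : B1) ∈ K :=
    mem_subgroupOf.2 (conj_mem_map n₁ hk)
  have h3 : MulAut.conj (⟨g, hg⟩ : B1) • (⟨n₁ * k * n₁⁻¹, hK1 (conj_mem_map n₁ hk)⟩ : B1) ∈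
      MulAut.conj (⟨g, hg⟩ : B1) • K := Subgroup.smul_mem_pointwise_smul _ _ _ h2
  rw [hgK] at h3
  have h4 := mem_subgroupOf.1 h3
  have e : g * n₁ * k * (g * n₁)⁻¹ = g * (n₁ * k * n₁⁻¹) * g⁻¹ := by group
  rw [e]
  exact h4

theorem exists_mem_N [Finite G] {n₀ : G} (hn : ∀ g ∈ S.P, n₀ * g * n₀⁻¹ ∈ S.P) {c : B.K}
    (ht : n₀ * E.t * n₀⁻¹ = E.xz c * E.t) : ∃ n ∈ S.N, n * E.t * n⁻¹ = E.xz c * E.t := by
  -- elements of `P` fix `t` and `Z`
  have fixP : ∀ p ∈ S.P, p * (E.xz c * E.t) * p⁻¹ = E.xz c * E.t := by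
    intro p hp
    rw [← mul_assoc, ← S.P_z _ hp, mul_assoc (E.xz c), ← S.P_t _ hp]; group
  obtain ⟨p, hp, hpn⟩ := exists_mul_mem_N S hn
  refine ⟨p * n₀, hpn, ?_⟩
  have e : (p * n₀) * E.t * (p * n₀)⁻¹ = p * (n₀ * E.t * n₀⁻¹) * p⁻¹ := by group
  rw [e, ht, fixP p hp]

/-! ### Elements of `T` -/

theorem T_le_N [Finite G] : E.T ≤ S.N := by
  intro k hk
  refine ⟨⟨mem_normalizer_of_conj_le (S.T_P k hk), mem_normalizer_of_conj_le (S.T_U k hk)⟩,
    mem_normalizer_of_conj_le fun g hg => ?_⟩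
  rw [E.T_comm k hk g (S.Hp_T hg), mul_inv_cancel_right]
  exact hg

theorem Q1_Z_of {g : G} (hg : g ∈ S.Q1) (x : B.K) : E.xz x * g = g * E.xz x :=
  S.P_z _ (S.Q1_le_P hg) x

/-- the torus elements `h 1 ν` act trivially on the first coordinate. -/
theorem pa_h [Finite G] (ν : B.Kˣ) {g : G} (hg : g ∈ S.Q1) :
    S.pa (E.h 1 ν * g * (E.h 1 ν)⁻¹) = S.pa g := by
  have hN : E.h 1 ν ∈ S.N := T_le_N S (E.h_mem 1 ν)
  rw [N_pa_congr hN hg (S.a_mem (S.pa g)) (S.pa_a _).symm, E.h_a, S.pa_a]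
  simp

/-! ### Semilinearity -/

theorem zeta_add {n : G} {f : B.K → B.K} (hf : ∀ x, n * E.xz x * n⁻¹ = E.xz (f x)) (x y : B.K) :
    f (x + y) = f x + f y := by
  apply xz_inj (E := E)
  rw [← hf, E.xz_add, E.xz_add, ← hf, ← hf]; group

/-- the action of `n ∈ N` on `X_a` is semilinear for the torus. -/
theorem tau {n : G} (hn : n ∈ S.N) {μ : F} (hμ : μ ≠ 0) : ∃ τ : F, τ ≠ 0 ∧
    ∀ s, S.pa (n * E.xa (μ * s) * n⁻¹) = τ * S.pa (n * E.xa s * n⁻¹) := by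
  obtain ⟨k, hk, hw⟩ := S.Hp_onto μ hμ
  obtain ⟨τ, hτ, hw'⟩ := S.Hp_act _ (N_H hn hk)
  refine ⟨τ, hτ, fun s => ?_⟩
  rw [← hw.a]
  have e : n * (k * E.xa s * k⁻¹) * n⁻¹ = (n * k * n⁻¹) * (n * E.xa s * n⁻¹) * (n * k * n⁻¹)⁻¹ := by
    group
  rw [e]
  obtain ⟨x, hx⟩ := S.form (N_Q1 hn (S.a_mem s))
  set g := n * E.xa s * n⁻¹ with hg
  have hgm : g ∈ S.Q1 := N_Q1 hn (S.a_mem s)
  set k' := n * k * n⁻¹ with hk'
  have hk'H : k' ∈ S.Hp := N_H hn hk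
  have hz : k' * E.xz x * k'⁻¹ = E.xz x := by
    rw [← S.P_z _ (S.Hp_P hk'H)]; group
  obtain ⟨x1, hx1⟩ := hw'.v (S.pv g)
  have e2 : k' * g * k'⁻¹ = E.xz x * (E.xa (τ * S.pa g) * (E.xz x1 * S.xv (S.chi τ • S.pv g)) *
      E.xc ((B.s τ)⁻¹ * S.pc g)) := by
    rw [← hw'.a, ← hw'.c, ← hx1, ← hz]
    conv_lhs => rw [hx]
    unfold st co
    group
  rw [e2]
  have m1 := S.a_mem (τ * S.pa g)
  have m2 := S.z_mem_Q1 x1
  have m3 := S.v_mem (S.chi τ • S.pv g)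
  have m4 := S.c_mem ((B.s τ)⁻¹ * S.pc g)
  rw [S.pa_mul _ (S.z_mem_Q1 x) _ (mul_mem (mul_mem m1 (mul_mem m2 m3)) m4),
    S.pa_mul _ (mul_mem m1 (mul_mem m2 m3)) _ m4, S.pa_mul _ m1 _ (mul_mem m2 m3),
    S.pa_mul _ m2 _ m3, S.pa_z, S.pa_z, S.pa_v, S.pa_c, S.pa_a]
  ring

/-- an element of `N` trivial on `Z` and on the first coordinate is trivial on `X_c` modulo `Z`. -/
theorem triv_c {m : G} (hm : m ∈ S.N) (hmz : ∀ x, m * E.xz x * m⁻¹ = E.xz x)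
    (hma : ∀ g ∈ S.Q1, S.pa (m * g * m⁻¹) = S.pa g) (y : F) :
    ∃ x, m * E.xc y * m⁻¹ = E.xz x * E.xc y := by
  obtain ⟨x, y', hy⟩ := N_c hm y
  refine ⟨x, ?_⟩
  have hyy : y' = y := by
    have h5 : ∀ s, B.tr (s * B.s y) = B.tr (s * B.s y') := by
      intro s
      have h6 := N_rel hm (s := s) hy (hmz _)
      rwa [hma _ (S.a_mem s), S.pa_a] at h6
    have h7 : y + y' = 0 := by
      apply tr_nondeg (B := B)
      intro s
      rw [← B.tr_s, map_mul, B.invol, mul_comm, map_add, mul_add, B.tr_add, h5, B.K_add_self]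
    have h8 : y' + y' = 0 := CharTwo.add_self_eq_zero y'
    linear_combination h8 - h7
  rw [hy, hyy]

/-- `n ∈ N` acts semilinearly on `Z`, for the scalar `lam`. -/
theorem semi {n : G} (hn : n ∈ S.N) {f : B.K → B.K} (hf : ∀ x, n * E.xz x * n⁻¹ = E.xz (f x)) :
    ∃ l : B.K, l ≠ 0 ∧ ∀ x, f ((E.lam : B.K) * x) = l * f x := by
  have h2 : ∀ a : F, a + a = 0 := fun a => CharTwo.add_self_eq_zero a
  have f_inj : ∀ x, f x = 0 → x = 0 := by
    intro x hx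
    have h1 := hf x
    rw [hx, E.xz_zero, mul_inv_eq_one, mul_eq_left] at h1
    rw [← E.xz_zero] at h1
    exact xz_inj h1
  have f0 : f 0 = 0 := by
    have := zeta_add hf 0 0
    rw [add_zero] at this
    exact left_eq_add.1 this
  -- the actions on `X_a` and `X_c`
  let ν : F → F := fun s => S.pa (n * E.xa s * n⁻¹)
  choose x0 ga hga using fun y => N_c hn y
  have rel : ∀ s y, f (B.tr (s * B.s y)) = B.tr (ν s * B.s (ga y)) := fun s y =>
    N_rel hn (hga y) (hf _)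
  have ν_add : ∀ s s', ν (s + s') = ν s + ν s' := by
    intro s s'
    change S.pa (n * E.xa (s + s') * n⁻¹) = S.pa (n * E.xa s * n⁻¹) + S.pa (n * E.xa s' * n⁻¹)
    rw [← S.pa_mul _ (N_Q1 hn (S.a_mem s)) _ (N_Q1 hn (S.a_mem s')), E.xa_add]
    congr 1; group
  have hν : ∀ s, ν s = 0 → s = 0 := by
    intro s hs
    apply tr_nondeg (B := B)
    intro y
    apply f_inj
    rw [rel, hs, zero_mul, B.tr_zero]
  -- the torus
  have hτ : ∀ μ : F, μ ≠ 0 → ∃ τ : F, τ ≠ 0 ∧ ∀ s, ν (μ * s) = τ * ν s := fun μ hμ => tau S hn hμ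
  -- `e = ν 1 · bar (ga 1)` is in `K`
  have hν1 : ν 1 ≠ 0 := fun h => one_ne_zero (hν 1 h)
  have hg1 : ga 1 ≠ 0 := by
    intro h
    obtain ⟨x, hx⟩ := B.tr_surj 1
    have h1 := rel x 1
    rw [map_one, mul_one, hx, h, map_zero, mul_zero, B.tr_zero] at h1
    exact one_ne_zero (f_inj _ h1)
  have hgs : B.s (ga 1) ≠ 0 := (map_ne_zero_iff B.s B.s.injective).2 hg1
  have trK : ∀ k : B.K, B.tr (ν k * B.s (ga 1)) = 0 := by
    intro k
    rw [← rel, map_one, mul_one, B.tr_K, f0]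
  have tr0 : ∀ x : F, B.tr x = 0 → x ∈ B.K := by
    intro x hx
    have h1 : x + B.s x = 0 := congrArg Subtype.val hx
    rw [B.mem_K]
    linear_combination h1 - h2 x
  obtain ⟨τ, hτ0, hτl⟩ := hτ (E.lam : B.K) (fun h => E.lam.ne_zero (Subtype.ext h))
  have he : ν 1 * B.s (ga 1) ∈ B.K := tr0 _ (by
    have := trK 1
    simpa using this)
  have hτK : τ ∈ B.K := by
    have h1 := trK (E.lam : B.K)
    have h3 : ν ((E.lam : B.K) : F) = τ * ν 1 := by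
      have := hτl 1
      rwa [mul_one] at this
    rw [h3] at h1
    have h4 := tr0 _ h1
    have h5 : τ = (τ * ν 1 * B.s (ga 1)) * (ν 1 * B.s (ga 1))⁻¹ := by
      field_simp
    rw [h5]
    exact mul_mem h4 (inv_mem he)
  refine ⟨⟨τ, hτK⟩, fun h => hτ0 (congrArg Subtype.val h), fun x => ?_⟩
  obtain ⟨s, rfl⟩ := B.tr_surj x
  have h6 : (E.lam : B.K) * B.tr s = B.tr (((E.lam : B.K) : F) * s * B.s 1) := by
    rw [map_one, mul_one, B.tr_K_mul]
  have h7 : B.tr s = B.tr (s * B.s 1) := by rw [map_one, mul_one]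
  rw [h6, rel, hτl]
  conv_rhs => rw [h7, rel]
  rw [mul_assoc]
  exact B.tr_K_mul _ ⟨τ, hτK⟩

/-- **The element `m`.** -/
theorem exists_m [Finite G] {n : G} (hn : n ∈ S.N) {c : B.K} (hc : c ≠ 0)
    (ht : n * E.t * n⁻¹ = E.xz c * E.t) :
    ∃ m ∈ S.N, (∀ k ∈ S.Hp, m * k = k * m) ∧ (∀ x, m * E.xz x = E.xz x * m) ∧
      (∀ g ∈ S.Q1, S.pa (m * g * m⁻¹) = S.pa g) ∧
      (∀ y, ∃ x, m * E.xc y * m⁻¹ = E.xz x * E.xc y) ∧
      ∃ d, d ≠ 0 ∧ m * E.t * m⁻¹ = E.xz d * E.t := by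
  choose f hf using fun x => N_z hn x
  choose f' hf' using fun x => N_z (inv_mem hn) x
  simp only [inv_inv] at hf'
  obtain ⟨l, hl, hfl⟩ := semi S hn hf
  have fadd := zeta_add hf
  have f_inj : ∀ x, f x = 0 → x = 0 := by
    intro x hx
    have h1 := hf x
    rw [hx, E.xz_zero, mul_inv_eq_one, mul_eq_left] at h1
    rw [← E.xz_zero] at h1
    exact xz_inj h1
  have ff' : ∀ x, f (f' x) = x := by
    intro x
    apply xz_inj (E := E)
    rw [← hf, ← hf']; group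
  set h := E.h 1 E.lam with hh
  have hhT : h ∈ E.T := E.h_mem _ _
  have hz : ∀ x, h * E.xz x * h⁻¹ = E.xz ((E.lam : B.K) * x) := by
    intro x
    rw [hh, E.h_z]; simp [B.nm_one]
  -- the correcting element
  let ν : B.Kˣ := E.lam * (Units.mk0 l hl)⁻¹
  set h' := E.h 1 ν with hh'
  have hh'T : h' ∈ E.T := E.h_mem _ _
  have hz' : ∀ x, h' * E.xz x * h'⁻¹ = E.xz ((E.lam : B.K) * l⁻¹ * x) := by
    intro x
    rw [hh', E.h_z]; simp [B.nm_one, ν]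
  have hinvN : h ∈ S.N := T_le_N S hhT
  have hinvN' : h' ∈ S.N := T_le_N S hh'T
  have hmN : n * h * n⁻¹ * h⁻¹ * h' ∈ S.N :=
    mul_mem (mul_mem (mul_mem (mul_mem hn hinvN) (inv_mem hn)) (inv_mem hinvN)) hinvN'
  -- conjugation formulas for `h⁻¹`
  have hzi : ∀ x, h⁻¹ * E.xz x * h = E.xz ((E.lam : B.K)⁻¹ * x) := by
    intro x
    have h1 := hz ((E.lam : B.K)⁻¹ * x)
    rw [← mul_assoc, mul_inv_cancel₀ E.lam.ne_zero, one_mul] at h1
    rw [← h1]; group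
  have hmz : ∀ x, (n * h * n⁻¹ * h⁻¹ * h') * E.xz x * (n * h * n⁻¹ * h⁻¹ * h')⁻¹ = E.xz x := by
    intro x
    have e : (n * h * n⁻¹ * h⁻¹ * h') * E.xz x * (n * h * n⁻¹ * h⁻¹ * h')⁻¹ =
        n * (h * (n⁻¹ * (h⁻¹ * (h' * E.xz x * h'⁻¹) * h) * n) * h⁻¹) * n⁻¹ := by group
    rw [e, hz', hzi, hf', hz, hf, hfl, ff']
    congr 1
    have := E.lam.ne_zero
    field_simp
  have hma : ∀ g ∈ S.Q1,
      S.pa ((n * h * n⁻¹ * h⁻¹ * h') * g * (n * h * n⁻¹ * h⁻¹ * h')⁻¹) = S.pa g := by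
    intro g hg
    have e : (n * h * n⁻¹ * h⁻¹ * h') * g * (n * h * n⁻¹ * h⁻¹ * h')⁻¹ =
        n * (h * (n⁻¹ * (h⁻¹ * (h' * g * h'⁻¹) * h) * n) * h⁻¹) * n⁻¹ := by group
    rw [e]
    have m1 : h' * g * h'⁻¹ ∈ S.Q1 := N_Q1 hinvN' hg
    have m2 : h⁻¹ * (h' * g * h'⁻¹) * h ∈ S.Q1 := N_Q1' hinvN m1
    have m3 : n⁻¹ * (h⁻¹ * (h' * g * h'⁻¹) * h) * n ∈ S.Q1 := N_Q1' hn m2
    have p1 : S.pa (h' * g * h'⁻¹) = S.pa g := pa_h S ν hg
    have p2 : S.pa (h⁻¹ * (h' * g * h'⁻¹) * h) = S.pa g := by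
      have h5 := pa_h S E.lam m2
      rw [← hh] at h5
      have e2 : h * (h⁻¹ * (h' * g * h'⁻¹) * h) * h⁻¹ = h' * g * h'⁻¹ := by group
      rw [e2, p1] at h5
      exact h5.symm
    have p3 := pa_h S E.lam m3
    rw [← hh] at p3
    rw [N_pa_congr hn (N_Q1 hinvN m3) m3 p3, ← p2]
    congr 1; group
  refine ⟨n * h * n⁻¹ * h⁻¹ * h', hmN, ?_, ?_, hma, ?_, ?_⟩
  · intro k hk
    have hkT := S.Hp_T hk
    have c1 : h' * k = k * h' := E.T_comm _ hh'T _ hkT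
    have c2 : h⁻¹ * k = k * h⁻¹ := E.T_comm _ (inv_mem hhT) _ hkT
    have hk' : n⁻¹ * k * n ∈ S.Hp := by
      have := N_H (inv_mem hn) hk
      rwa [inv_inv] at this
    have c3 : h * (n⁻¹ * k * n) = (n⁻¹ * k * n) * h := E.T_comm _ hhT _ (S.Hp_T hk')
    calc n * h * n⁻¹ * h⁻¹ * h' * k = n * h * n⁻¹ * h⁻¹ * (h' * k) := by group
      _ = n * h * n⁻¹ * (h⁻¹ * k) * h' := by rw [c1]; group
      _ = n * (h * (n⁻¹ * k * n)) * n⁻¹ * h⁻¹ * h' := by rw [c2]; group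
      _ = k * (n * h * n⁻¹ * h⁻¹ * h') := by rw [c3]; group
  · intro x
    exact mul_inv_eq_iff_eq_mul.1 (hmz x)
  · exact triv_c S hmN hmz hma
  · -- `t`
    have t1 : h' * E.t * h'⁻¹ = E.t := by rw [← E.T_t _ hh'T]; group
    have t2 : h⁻¹ * E.t * h = E.t := by
      have := E.T_t _ hhT
      rw [mul_assoc, this]; group
    have t3 : n⁻¹ * E.t * n = E.xz (f' c) * E.t := by
      have h5 := hf' c
      have h6 : n⁻¹ * (E.xz c * E.t) * n = E.t := by rw [← ht]; group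
      have h7 : n⁻¹ * (E.xz c * E.t) * n = (n⁻¹ * E.xz c * n) * (n⁻¹ * E.t * n) := by group
      rw [h7, h5] at h6
      calc n⁻¹ * E.t * n = E.xz (f' c) * (E.xz (f' c) * (n⁻¹ * E.t * n)) := by
            rw [← mul_assoc, E.xz_sq, one_mul]
        _ = _ := by rw [h6]
    have hf'c : f' c ≠ 0 := by
      intro h5
      apply hc
      rw [← ff' c, h5]
      have := fadd 0 0
      rw [add_zero] at this
      exact left_eq_add.1 this
    have t4 : h * (E.xz (f' c) * E.t) * h⁻¹ = E.xz ((E.lam : B.K) * f' c) * E.t := by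
      have : h * (E.xz (f' c) * E.t) * h⁻¹ = (h * E.xz (f' c) * h⁻¹) * (h * E.t * h⁻¹) := by group
      rw [this, hz, ← E.T_t _ hhT]; group
    have t5 : n * (E.xz ((E.lam : B.K) * f' c) * E.t) * n⁻¹ = E.xz (l * c + c) * E.t := by
      have : n * (E.xz ((E.lam : B.K) * f' c) * E.t) * n⁻¹ =
          (n * E.xz ((E.lam : B.K) * f' c) * n⁻¹) * (n * E.t * n⁻¹) := by group
      rw [this, hf, hfl, ff', ht, ← mul_assoc, ← E.xz_add]
    refine ⟨l * c + c, ?_, ?_⟩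
    · intro h5
      have h6 : f ((E.lam : B.K) * f' c + f' c) = 0 := by
        rw [fadd, hfl, ff', h5]
      have h7 := f_inj _ h6
      have h8 : ((E.lam : B.K) + 1) * f' c = 0 := by linear_combination h7
      rcases mul_eq_zero.1 h8 with h9 | h9
      · apply E.lam_ne
        have h10 : (1 : B.K) + 1 = 0 := B.K_add_self 1
        linear_combination h9 - h10
      · exact hf'c h9
    · have e : (n * h * n⁻¹ * h⁻¹ * h') * E.t * (n * h * n⁻¹ * h⁻¹ * h')⁻¹ =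
          n * (h * (n⁻¹ * (h⁻¹ * (h' * E.t * h'⁻¹) * h) * n) * h⁻¹) * n⁻¹ := by group
      rw [e, t1, t2, t3, t4, t5]

end Cfsg.Agent.StdRank2.UFour.SeedMove
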