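import Cfsg.Agent.StdRank2.UFour.SeedPre

/-!
# The seed, part 5: the odd elements of `C(⟨t⟩ X_z)` (type `U₄(q)`)

`odd_mem`: if `P` is normal in `C(⟨t⟩ X_z)` and the elements of `N` which centralise `⟨t⟩ X_z` and are trivial on
`X_a` modulo `C(X_c)` are in `⟨t⟩ P`, then the elements of odd order of `C(⟨t⟩ X_z)` are in `P`; so `N(⟨t⟩ X_z)`
normalises `P`.
-/

set_option autoImplicit false
set_option linter.unusedSectionVars false

namespace Cfsg.Agent.StdRank2.UFour.SeedOdd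

open Subgroup
open Cfsg.Agent.StdEven.Syl
open Cfsg.Agent.StdRank2.UFour.Seeding Cfsg.Agent.StdRank2.UFour.Seeding.SeedEnv
open Cfsg.Agent.StdRank2.UFour.SeedMove

variable {F : Type*} [Field F] [CharP F 2] {B : Bar F} {G : Type*} [Group G]

/-- the group `⟨t⟩ X_z`. -/
def TZ (E : WEnv B G) : Subgroup G where
  carrier := {g | ∃ x, g = E.xz x ∨ g = E.xz x * E.t}
  mul_mem' := by
    rintro _ _ ⟨x, rfl | rfl⟩ ⟨y, rfl | rfl⟩
    · exact ⟨x + y, Or.inl (by rw [E.xz_add])⟩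
    · exact ⟨x + y, Or.inr (by rw [E.xz_add]; group)⟩
    · refine ⟨x + y, Or.inr ?_⟩
      rw [E.xz_add, mul_assoc, E.t_z]; group
    · refine ⟨x + y, Or.inl ?_⟩
      have h1 := E.t_z y
      rw [E.xz_add, mul_assoc, ← mul_assoc E.t, h1, mul_assoc (E.xz y), E.t_sq, mul_one]
  one_mem' := ⟨0, Or.inl E.xz_zero.symm⟩
  inv_mem' := by
    rintro _ ⟨x, rfl | rfl⟩
    · exact ⟨x, Or.inl (WEnv.inv_of_sq (E.xz_sq x))⟩
    · refine ⟨x, Or.inr ?_⟩
      rw [mul_inv_rev, E.t_inv, WEnv.inv_of_sq (E.xz_sq x), E.t_z]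

theorem mem_TZ {E : WEnv B G} {g : G} : g ∈ TZ E ↔ ∃ x, g = E.xz x ∨ g = E.xz x * E.t := Iff.rfl

theorem t_mem (E : WEnv B G) : E.t ∈ TZ E := ⟨0, Or.inr (by rw [E.xz_zero, one_mul])⟩

theorem z_mem' (E : WEnv B G) (x : B.K) : E.xz x ∈ TZ E := ⟨x, Or.inl rfl⟩

variable {E : WEnv B G} {V : Type*} [AddCommGroup V] [Module F V] (S : SeedEnv E V)

/-- The square of an element of `N` centralising `Z` acts as a scalar on `X_a`. -/
theorem scalar {n : G} (hn : n ∈ S.N) (hz : ∀ x, n * E.xz x * n⁻¹ = E.xz x) :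
    ∃ a : F, a ≠ 0 ∧ ∀ g ∈ S.Q1, S.pa (n * (n * g * n⁻¹) * n⁻¹) = a * S.pa g := by
  have h2 : ∀ a : F, a + a = 0 := fun a => CharTwo.add_self_eq_zero a
  let ν : F → F := fun s => S.pa (n * E.xa s * n⁻¹)
  have hν : ∀ g ∈ S.Q1, S.pa (n * g * n⁻¹) = ν (S.pa g) := fun g hg =>
    N_pa_congr hn hg (S.a_mem _) (S.pa_a _).symm
  choose x0 ga hga using fun y => N_c hn y
  have rel : ∀ s y, B.tr (s * B.s y) = B.tr (ν s * B.s (ga y)) := fun s y =>
    N_rel hn (hga y) (hz _)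
  have ν_add : ∀ s s', ν (s + s') = ν s + ν s' := by
    intro s s'
    change S.pa (n * E.xa (s + s') * n⁻¹) = S.pa (n * E.xa s * n⁻¹) + S.pa (n * E.xa s' * n⁻¹)
    rw [← S.pa_mul _ (N_Q1 hn (S.a_mem s)) _ (N_Q1 hn (S.a_mem s')), E.xa_add]
    congr 1; group
  have hν0 : ∀ s, ν s = 0 → s = 0 := by
    intro s hs
    apply tr_nondeg (B := B)
    intro y
    rw [rel, hs, zero_mul, B.tr_zero]
  have hτ : ∀ μ : F, μ ≠ 0 → ∃ τ : F, τ ≠ 0 ∧ ∀ s, ν (μ * s) = τ * ν s := fun μ hμ => tau S hn hμ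
  have ha : ν 1 ≠ 0 := fun h => one_ne_zero (hν0 1 h)
  -- the automorphism `σ`
  let σ : F → F := fun x => ν x * (ν 1)⁻¹
  have hνσ : ∀ x, ν x = σ x * ν 1 := by
    intro x
    change ν x = ν x * (ν 1)⁻¹ * ν 1
    rw [mul_assoc, inv_mul_cancel₀ ha, mul_one]
  have σ_add : ∀ x y, σ (x + y) = σ x + σ y := by
    intro x y
    change ν (x + y) * (ν 1)⁻¹ = ν x * (ν 1)⁻¹ + ν y * (ν 1)⁻¹
    rw [ν_add, add_mul]
  have ν_zero : ν 0 = 0 := by
    have := ν_add 0 0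
    rw [add_zero] at this
    exact left_eq_add.1 this
  have σ_mul : ∀ x y, σ (x * y) = σ x * σ y := by
    intro x y
    by_cases hx : x = 0
    · subst hx
      change ν (0 * y) * (ν 1)⁻¹ = ν 0 * (ν 1)⁻¹ * σ y
      rw [zero_mul, ν_zero]; ring
    · obtain ⟨τ, hτ0, hτl⟩ := hτ x hx
      have e1 : σ x = τ := by
        change ν x * (ν 1)⁻¹ = τ
        have := hτl 1
        rw [mul_one] at this
        rw [this, mul_assoc, mul_inv_cancel₀ ha, mul_one]
      rw [e1]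
      change ν (x * y) * (ν 1)⁻¹ = τ * (ν y * (ν 1)⁻¹)
      rw [hτl, mul_assoc]
  -- `σ` is trivial on `K`
  have tr0 : ∀ x : F, B.tr x = 0 → x ∈ B.K := by
    intro x hx
    have h1 : x + B.s x = 0 := congrArg Subtype.val hx
    rw [B.mem_K]
    linear_combination h1 - h2 x
  have trK : ∀ k : B.K, B.tr (ν k * B.s (ga 1)) = 0 := by
    intro k
    rw [← rel, map_one, mul_one, B.tr_K]
  have he : ν 1 * B.s (ga 1) ∈ B.K := tr0 _ (by
    have := trK 1
    simpa using this)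
  have hg1 : ga 1 ≠ 0 := by
    intro h
    obtain ⟨x, hx⟩ := B.tr_surj 1
    have h1 := rel x 1
    rw [map_one, mul_one, hx, h, map_zero, mul_zero, B.tr_zero] at h1
    exact one_ne_zero h1
  have hgs : B.s (ga 1) ≠ 0 := (map_ne_zero_iff B.s B.s.injective).2 hg1
  have σ_K : ∀ k : B.K, σ k = k := by
    intro k
    by_cases hk : k = 0
    · subst hk
      change ν ((0 : B.K) : F) * (ν 1)⁻¹ = ((0 : B.K) : F)
      have : ((0 : B.K) : F) = 0 := rfl
      rw [this, ν_zero, zero_mul]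
    have hk' : (k : F) ≠ 0 := fun h => hk (Subtype.ext h)
    obtain ⟨τ, hτ0, hτl⟩ := hτ k hk'
    have e1 : σ k = τ := by
      change ν k * (ν 1)⁻¹ = τ
      have := hτl 1
      rw [mul_one] at this
      rw [this, mul_assoc, mul_inv_cancel₀ ha, mul_one]
    have hτK : τ ∈ B.K := by
      have h1 := trK k
      have h3 : ν (k : F) = τ * ν 1 := by
        have := hτl 1
        rwa [mul_one] at this
      rw [h3] at h1
      have h4 := tr0 _ h1
      have h5 : τ = (τ * ν 1 * B.s (ga 1)) * (ν 1 * B.s (ga 1))⁻¹ := by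
        field_simp
      rw [h5]
      exact mul_mem h4 (inv_mem he)
    obtain ⟨s, hs⟩ := B.tr_surj 1
    have h6 := rel (k * s) 1
    rw [hτl, map_one, mul_one, B.tr_K_mul, hs, mul_one, mul_assoc] at h6
    have h7 : B.tr (τ * (ν s * B.s (ga 1))) = (⟨τ, hτK⟩ : B.K) * B.tr (ν s * B.s (ga 1)) :=
      B.tr_K_mul _ ⟨τ, hτK⟩
    rw [h7, ← rel, map_one, mul_one, hs, mul_one] at h6
    rw [e1, h6]
  have σσ : ∀ x, σ (σ x) = x := by
    intro x
    have h3 : x * x + ((B.tr x : B.K) : F) * x + ((B.nm x : B.K) : F) = 0 := by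
      rw [B.coe_tr, B.coe_nm]
      linear_combination h2 (x * x) + h2 (x * B.s x)
    have h4 := congrArg σ h3
    rw [σ_add, σ_add, σ_mul, σ_mul, σ_K, σ_K] at h4
    have σ0 : σ 0 = 0 := σ_K 0
    rw [σ0, B.coe_tr, B.coe_nm] at h4
    have h5 : (σ x + x) * (σ x + B.s x) = 0 := by linear_combination h4
    rcases mul_eq_zero.1 h5 with h6 | h6
    · have h7 : σ x = x := by linear_combination h6 - h2 x
      rw [h7, h7]
    · have h7 : σ x = B.s x := by linear_combination h6 - h2 (B.s x)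
      have h8 : B.s x = x + ((B.tr x : B.K) : F) := by
        rw [B.coe_tr]; linear_combination -(h2 x)
      rw [h7]
      conv_lhs => rw [h8]
      rw [σ_add, σ_K, h7, B.coe_tr]
      linear_combination h2 (B.s x)
  refine ⟨σ (ν 1) * ν 1, ?_, fun g hg => ?_⟩
  · apply mul_ne_zero _ ha
    intro h
    have := σσ (ν 1)
    rw [h, show σ 0 = 0 from σ_K 0] at this
    exact ha this.symm
  · rw [hν _ (N_Q1 hn hg), hν _ hg, hνσ, hνσ (S.pa g), σ_mul, σσ]
    ring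

/-- the elements of odd order of `C(⟨t⟩ Z)` are in `P`. -/
theorem odd_mem [Finite G]
    (normP : ∀ c, c * E.t = E.t * c → (∀ x, c * E.xz x = E.xz x * c) → ∀ g ∈ S.P, c * g * c⁻¹ ∈ S.P)
    (hcent : ∀ m ∈ S.N, m * E.t = E.t * m → (∀ x, m * E.xz x = E.xz x * m) →
      (∀ g ∈ S.Q1, S.pa (m * g * m⁻¹) = S.pa g) →
      (∀ y, ∃ x, m * E.xc y * m⁻¹ = E.xz x * E.xc y) → m ∈ S.P ∨ E.t * m ∈ S.P)
    {g : G} {k : ℕ} (hk : Odd k) (hgk : g ^ k = 1) (hgt : g * E.t = E.t * g)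
    (hgz : ∀ x, g * E.xz x = E.xz x * g) : g ∈ S.P := by
  obtain ⟨p, hp, hn⟩ := exists_mul_mem_N S (normP g hgt hgz)
  have hpt : p * E.t = E.t * p := (S.P_t p hp).symm
  have hpz : ∀ x, p * E.xz x = E.xz x * p := fun x => (S.P_z p hp x).symm
  have hnt : (p * g) * E.t = E.t * (p * g) := by rw [mul_assoc, hgt, ← mul_assoc, hpt, mul_assoc]
  have hnz : ∀ x, (p * g) * E.xz x = E.xz x * (p * g) := fun x => by
    rw [mul_assoc, hgz, ← mul_assoc, hpz, mul_assoc]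
  obtain ⟨a, ha, hsc⟩ := scalar S hn (fun x => mul_inv_eq_iff_eq_mul.2 (hnz x))
  obtain ⟨l, hl, hw⟩ := S.Hp_onto a⁻¹ (inv_ne_zero ha)
  have hlP : l ∈ S.P := S.Hp_P hl
  have hlN : l ∈ S.N := T_le_N S (S.Hp_T hl)
  set n := p * g with hndef
  have hmN : l * (n * n) ∈ S.N := mul_mem hlN (mul_mem hn hn)
  have hlt : l * E.t = E.t * l := (S.P_t l hlP).symm
  have hlz : ∀ x, l * E.xz x = E.xz x * l := fun x => (S.P_z l hlP x).symm
  have hmt : l * (n * n) * E.t = E.t * (l * (n * n)) := by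
    rw [mul_assoc, mul_assoc n, hnt, ← mul_assoc n, hnt, mul_assoc E.t n n, ← mul_assoc l, hlt]
    group
  have hmz : ∀ x, l * (n * n) * E.xz x = E.xz x * (l * (n * n)) := by
    intro x
    rw [mul_assoc, mul_assoc n, hnz, ← mul_assoc n, hnz, mul_assoc (E.xz x) n n, ← mul_assoc l, hlz]
    group
  have hma : ∀ q ∈ S.Q1, S.pa (l * (n * n) * q * (l * (n * n))⁻¹) = S.pa q := by
    intro q hq
    have e : l * (n * n) * q * (l * (n * n))⁻¹ = l * (n * (n * q * n⁻¹) * n⁻¹) * l⁻¹ := by group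
    have m1 : n * (n * q * n⁻¹) * n⁻¹ ∈ S.Q1 := N_Q1 hn (N_Q1 hn hq)
    have h1 := SeedEnd.co_conj_H S hl hw m1
    have h2 : S.pa (l * (n * (n * q * n⁻¹) * n⁻¹) * l⁻¹) = a⁻¹ * S.pa (n * (n * q * n⁻¹) * n⁻¹) :=
      congrArg Prod.fst h1
    rw [e, h2, hsc q hq, ← mul_assoc, inv_mul_cancel₀ ha, one_mul]
  have hmc := triv_c S hmN (fun x => mul_inv_eq_iff_eq_mul.2 (hmz x)) hma
  have h1 := hcent _ hmN hmt hmz hma hmc
  -- `g * g ∈ ⟨t⟩ P`
  have hpg : g * p * g⁻¹ ∈ S.P := normP g hgt hgz p hp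
  have e : g * g = (l * p * (g * p * g⁻¹))⁻¹ * (l * (n * n)) := by rw [hndef]; group
  have hq : l * p * (g * p * g⁻¹) ∈ S.P := mul_mem (mul_mem hlP hp) hpg
  have h2 : g * g ∈ S.P ∨ E.t * (g * g) ∈ S.P := by
    rcases h1 with h1 | h1
    · left; rw [e]; exact mul_mem (inv_mem hq) h1
    · right
      rw [e, ← mul_assoc, S.P_t _ (inv_mem hq), mul_assoc]
      exact mul_mem (inv_mem hq) h1
  -- `g ∈ ⟨t⟩ P`
  obtain ⟨r, rfl⟩ := hk
  have e2 : g = (g * g) ^ (r + 1) := by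
    have h3 : (g * g) ^ (r + 1) = g ^ (2 * r + 1) * g := by
      rw [← pow_two, ← pow_mul, ← pow_succ]; congr 1
    rw [h3, hgk, one_mul]
  have htg : Commute E.t (g * g) := by
    have : Commute E.t g := hgt.symm
    exact this.mul_right this
  have h3 : g ∈ S.P ∨ E.t * g ∈ S.P := by
    rcases h2 with h2 | h2
    · left; rw [e2]; exact pow_mem h2 _
    · have h4 := pow_mem h2 (r + 1)
      rw [htg.mul_pow, ← e2] at h4
      rcases Nat.even_or_odd (r + 1) with ⟨c, hc⟩ | ⟨c, hc⟩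
      · left
        rw [hc, ← two_mul, pow_mul, pow_two, E.t_sq, one_pow, one_mul] at h4
        exact h4
      · right
        rw [hc, pow_succ, pow_mul, pow_two, E.t_sq, one_pow, one_mul] at h4
        exact h4
  rcases h3 with h3 | h3
  · exact h3
  · -- `t ∈ P`
    have h4 := pow_mem h3 (2 * r + 1)
    have hc : Commute E.t g := hgt.symm
    rw [hc.mul_pow, hgk, mul_one, pow_succ, pow_mul, pow_two, E.t_sq, one_pow, one_mul] at h4
    have h5 := mul_mem h4 h3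
    rwa [← mul_assoc, E.t_sq, one_mul] at h5

/-- so `N(⟨t⟩ Z)` normalises `P`. -/
theorem normP_of_odd [Finite G]
    (hodd : ∀ g : G, (∃ k, Odd k ∧ g ^ k = 1) → g * E.t = E.t * g →
      (∀ x, g * E.xz x = E.xz x * g) → g ∈ S.P)
    {n : G} (hn : n ∈ normalizer (TZ E : Set G)) : ∀ g ∈ S.P, n * g * n⁻¹ ∈ S.P := by
  have comm : ∀ a ∈ TZ E, ∀ g ∈ S.P, g * a = a * g := by
    rintro a ⟨x, rfl | rfl⟩ g hg
    · exact (S.P_z g hg x).symm
    · rw [← mul_assoc, ← S.P_z g hg x, mul_assoc, ← S.P_t g hg, mul_assoc]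
  have comm' : ∀ a ∈ TZ E, ∀ g ∈ S.P, (n * g * n⁻¹) * a = a * (n * g * n⁻¹) := by
    intro a ha g hg
    have h1 := comm _ (conj_inv_mem_of_mem_normalizer hn ha) g hg
    calc n * g * n⁻¹ * a = n * (g * (n⁻¹ * a * n)) * n⁻¹ := by group
      _ = _ := by rw [h1]; group
  have h1 : S.P ≤ S.P.comap (MulAut.conj n).toMonoidHom := by
    refine S.P_odd.trans ?_
    rw [Subgroup.closure_le]
    rintro g ⟨hg, k, hk, hgk⟩
    change n * g * n⁻¹ ∈ S.P
    refine hodd _ ⟨k, hk, ?_⟩ (comm' _ (t_mem E) g hg) (fun x => comm' _ (z_mem' E x) g hg)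
    rw [conj_pow, hgk, mul_one, mul_inv_cancel]
  exact fun g hg => h1 hg

end Cfsg.Agent.StdRank2.UFour.SeedOdd
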