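import Cfsg.Agent.StdRank2.UFour.SeedOdd

/-!
# The seed: perfect subgroups of `C(⟨t⟩ X_z)` are in `P`

`C(⟨t⟩ Z) / P` is soluble: Frattini and the action on `Q₁ / Z`.
-/

set_option autoImplicit false
set_option linter.unusedSectionVars false

namespace Cfsg.Agent.StdRank2.UFour.SeedSolv

open Subgroup
open Cfsg.Agent.StdEven.Syl
open Cfsg.Agent.StdRank2.UFour.Seeding Cfsg.Agent.StdRank2.UFour.Seeding.SeedEnv
open Cfsg.Agent.StdRank2.UFour.SeedMove Cfsg.Agent.StdRank2.UFour.SeedEnd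
open Cfsg.Agent.StdRank2.UFour.SeedOdd

variable {F : Type*} [Field F] [CharP F 2] {B : Bar F} {G : Type*} [Group G]

/-- If `R` is perfect, normalises `P` and `R ≤ P D`, `[D, D] ≤ D'`, then `R ≤ P D'`. -/
theorem perf_step {P R D D' : Subgroup G} (hR : ⁅R, R⁆ = R) (hP : ∀ c ∈ R, ∀ g ∈ P, c * g * c⁻¹ ∈ P)
    (hD : ∀ g ∈ R, ∃ p ∈ P, p * g ∈ D) (h : ∀ a ∈ D, ∀ b ∈ D, a * b * a⁻¹ * b⁻¹ ∈ D') :
    ∀ g ∈ R, ∃ p ∈ P, p * g ∈ D' := by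
  let X : Subgroup G :=
    { carrier := {g | g ∈ R ∧ ∃ p ∈ P, p * g ∈ D'}
      one_mem' := ⟨one_mem _, 1, one_mem _, by rw [mul_one]; exact one_mem _⟩
      mul_mem' := by
        rintro a b ⟨ha, p, hp, hpa⟩ ⟨hb, q, hq, hqb⟩
        refine ⟨mul_mem ha hb, p * (a * q * a⁻¹), mul_mem hp (hP a ha q hq), ?_⟩
        have e : p * (a * q * a⁻¹) * (a * b) = (p * a) * (q * b) := by group
        rw [e]; exact mul_mem hpa hqb
      inv_mem' := by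
        rintro a ⟨ha, p, hp, hpa⟩
        refine ⟨inv_mem ha, a⁻¹ * p⁻¹ * a⁻¹⁻¹, hP _ (inv_mem ha) _ (inv_mem hp), ?_⟩
        have e : a⁻¹ * p⁻¹ * a⁻¹⁻¹ * a⁻¹ = (p * a)⁻¹ := by group
        rw [e]; exact inv_mem hpa }
  have h1 : ⁅R, R⁆ ≤ X := by
    rw [Subgroup.commutator_le]
    intro a ha b hb
    obtain ⟨p, hp, hpa⟩ := hD a ha
    obtain ⟨q, hq, hqb⟩ := hD b hb
    rw [commutatorElement_def]
    refine ⟨mul_mem (mul_mem (mul_mem ha hb) (inv_mem ha)) (inv_mem hb),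
      p * (a * q * a⁻¹) * ((a * b * a⁻¹) * p⁻¹ * (a * b * a⁻¹)⁻¹) *
        ((a * b * a⁻¹ * b⁻¹) * q⁻¹ * (a * b * a⁻¹ * b⁻¹)⁻¹), ?_, ?_⟩
    · exact mul_mem (mul_mem (mul_mem hp (hP a ha q hq))
        (hP _ (mul_mem (mul_mem ha hb) (inv_mem ha)) _ (inv_mem hp)))
        (hP _ (mul_mem (mul_mem (mul_mem ha hb) (inv_mem ha)) (inv_mem hb)) _ (inv_mem hq))
    · have := h _ hpa _ hqb
      have e : p * (a * q * a⁻¹) * ((a * b * a⁻¹) * p⁻¹ * (a * b * a⁻¹)⁻¹) *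
        ((a * b * a⁻¹ * b⁻¹) * q⁻¹ * (a * b * a⁻¹ * b⁻¹)⁻¹) * (a * b * a⁻¹ * b⁻¹) =
          p * a * (q * b) * (p * a)⁻¹ * (q * b)⁻¹ := by group
      rw [e]; exact this
  rw [hR] at h1
  exact fun g hg => (h1 hg).2

variable {E : WEnv B G} {V : Type*} [AddCommGroup V] [Module F V] (S : SeedEnv E V)

/-- `N ∩ C(⟨t⟩ Z)`. -/
def D0 : Subgroup G where
  carrier := {n | n ∈ S.N ∧ n * E.t = E.t * n ∧ ∀ x, n * E.xz x = E.xz x * n}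
  one_mem' := ⟨one_mem _, by group, fun x => by group⟩
  mul_mem' := by
    rintro a b ⟨ha, hat, haz⟩ ⟨hb, hbt, hbz⟩
    refine ⟨mul_mem ha hb, ?_, fun x => ?_⟩
    · rw [mul_assoc, hbt, ← mul_assoc, hat, mul_assoc]
    · rw [mul_assoc, hbz, ← mul_assoc, haz, mul_assoc]
  inv_mem' := by
    rintro a ⟨ha, hat, haz⟩
    refine ⟨inv_mem ha, ?_, fun x => ?_⟩
    · exact ((show Commute a E.t from hat).inv_left).eq
    · exact ((show Commute a (E.xz x) from haz x).inv_left).eq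

variable {S}

theorem D0_z {n : G} (hn : n ∈ D0 S) (x : B.K) : n * E.xz x * n⁻¹ = E.xz x := by
  rw [hn.2.2]; group

/-- two conjugations -/
theorem pa_conj_inv {n : G} (hn : n ∈ S.N) {a : F} (ha : a ≠ 0)
    (h : ∀ g ∈ S.Q1, S.pa (n * g * n⁻¹) = a * S.pa g) {g : G} (hg : g ∈ S.Q1) :
    S.pa (n⁻¹ * g * n) = a⁻¹ * S.pa g := by
  have h1 := h _ (N_Q1' hn hg)
  have e : n * (n⁻¹ * g * n) * n⁻¹ = g := by group
  rw [e] at h1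
  rw [h1, ← mul_assoc, inv_mul_cancel₀ ha, one_mul]

variable (S)

/-- the elements of `D0` acting as scalars on `X_a`. -/
def D1 : Subgroup G where
  carrier := {n | n ∈ D0 S ∧ ∃ a : F, a ≠ 0 ∧ ∀ g ∈ S.Q1, S.pa (n * g * n⁻¹) = a * S.pa g}
  one_mem' := ⟨one_mem _, 1, one_ne_zero, fun g _ => by
    rw [one_mul, one_mul, inv_one, mul_one]⟩
  mul_mem' := by
    rintro m n ⟨hm, a, ha, hma⟩ ⟨hn, b, hb, hnb⟩
    refine ⟨mul_mem hm hn, a * b, mul_ne_zero ha hb, fun g hg => ?_⟩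
    have e : m * n * g * (m * n)⁻¹ = m * (n * g * n⁻¹) * m⁻¹ := by group
    rw [e, hma _ (N_Q1 hn.1 hg), hnb g hg, mul_assoc]
  inv_mem' := by
    rintro m ⟨hm, a, ha, hma⟩
    refine ⟨inv_mem hm, a⁻¹, inv_ne_zero ha, fun g hg => ?_⟩
    rw [inv_inv]
    exact pa_conj_inv hm.1 ha hma hg

/-- the elements of `D0` trivial on `X_a`. -/
def D2 : Subgroup G where
  carrier := {n | n ∈ D0 S ∧ ∀ g ∈ S.Q1, S.pa (n * g * n⁻¹) = S.pa g}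
  one_mem' := ⟨one_mem _, fun g _ => by rw [one_mul, inv_one, mul_one]⟩
  mul_mem' := by
    rintro m n ⟨hm, hma⟩ ⟨hn, hnb⟩
    refine ⟨mul_mem hm hn, fun g hg => ?_⟩
    have e : m * n * g * (m * n)⁻¹ = m * (n * g * n⁻¹) * m⁻¹ := by group
    rw [e, hma _ (N_Q1 hn.1 hg), hnb g hg]
  inv_mem' := by
    rintro m ⟨hm, hma⟩
    refine ⟨inv_mem hm, fun g hg => ?_⟩
    rw [inv_inv]
    have h1 := hma _ (N_Q1' hm.1 hg)
    have e : m * (m⁻¹ * g * m) * m⁻¹ = g := by group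
    rw [e] at h1
    exact h1.symm

/-- the elements of `D0` trivial on `Q₁ / Z`. -/
def D3 : Subgroup G where
  carrier := {n | n ∈ D0 S ∧ ∀ g ∈ S.Q1, ∃ x, n * g * n⁻¹ = E.xz x * g}
  one_mem' := ⟨one_mem _, fun g _ => ⟨0, by rw [E.xz_zero]; group⟩⟩
  mul_mem' := by
    rintro m n ⟨hm, hma⟩ ⟨hn, hnb⟩
    refine ⟨mul_mem hm hn, fun g hg => ?_⟩
    obtain ⟨x, hx⟩ := hnb g hg
    obtain ⟨y, hy⟩ := hma g hg
    refine ⟨x + y, ?_⟩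
    have e : m * n * g * (m * n)⁻¹ = m * (n * g * n⁻¹) * m⁻¹ := by group
    rw [e, hx, ← mul_assoc, hm.2.2, mul_assoc, mul_assoc, ← mul_assoc m, hy, E.xz_add, mul_assoc]
  inv_mem' := by
    rintro m ⟨hm, hma⟩
    refine ⟨inv_mem hm, fun g hg => ?_⟩
    obtain ⟨y, hy⟩ := hma g hg
    refine ⟨y, ?_⟩
    have h1 : g = E.xz y * (m * g * m⁻¹) := by rw [hy, ← mul_assoc, E.xz_sq, one_mul]
    have h2 : m⁻¹ * E.xz y = E.xz y * m⁻¹ := ((show Commute m (E.xz y) from hm.2.2 y).inv_left).eq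
    calc m⁻¹ * g * m⁻¹⁻¹ = m⁻¹ * (E.xz y * (m * g * m⁻¹)) * m := by rw [← h1, inv_inv]
      _ = (m⁻¹ * E.xz y) * m * g * (m⁻¹ * m) := by group
      _ = _ := by rw [h2]; group

variable {S}

/-- `[D0, D0] ≤ D1`. -/
theorem comm_D0 {a b : G} (ha : a ∈ D0 S) (hb : b ∈ D0 S) : a * b * a⁻¹ * b⁻¹ ∈ D1 S := by
  have sq : ∀ n ∈ D0 S, n * n ∈ D1 S := by
    intro n hn
    obtain ⟨c, hc, h⟩ := scalar S hn.1 (D0_z hn)
    refine ⟨mul_mem hn hn, c, hc, fun g hg => ?_⟩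
    have e : n * n * g * (n * n)⁻¹ = n * (n * g * n⁻¹) * n⁻¹ := by group
    rw [e, h g hg]
  have e : a * b * a⁻¹ * b⁻¹ = ((a * b) * (a * b)) * ((b⁻¹ * a⁻¹ * b) * (b⁻¹ * a⁻¹ * b)) *
      (b⁻¹ * b⁻¹) := by group
  rw [e]
  exact mul_mem (mul_mem (sq _ (mul_mem ha hb)) (sq _ (mul_mem (mul_mem (inv_mem hb) (inv_mem ha)) hb)))
    (sq _ (inv_mem hb))

/-- `[D1, D1] ≤ D2`. -/
theorem comm_D1 {a b : G} (ha : a ∈ D1 S) (hb : b ∈ D1 S) : a * b * a⁻¹ * b⁻¹ ∈ D2 S := by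
  obtain ⟨ha, c, hc, h1⟩ := ha
  obtain ⟨hb, d, hd, h2⟩ := hb
  refine ⟨mul_mem (mul_mem (mul_mem ha hb) (inv_mem ha)) (inv_mem hb), fun g hg => ?_⟩
  have e : a * b * a⁻¹ * b⁻¹ * g * (a * b * a⁻¹ * b⁻¹)⁻¹ =
      a * (b * (a⁻¹ * (b⁻¹ * g * b) * a) * b⁻¹) * a⁻¹ := by group
  have m1 := N_Q1' hb.1 hg
  have m2 := N_Q1' ha.1 m1
  rw [e, h1 _ (N_Q1 hb.1 m2), h2 _ m2, pa_conj_inv ha.1 hc h1 m1, pa_conj_inv hb.1 hd h2 hg]
  field_simp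

/-- the elements of `D2` commute with `Hp`. -/
theorem D2_H (hf : ∀ k ∈ S.Hp, (∀ s, k * E.xa s * k⁻¹ = E.xa s) → k = 1) {m k : G} (hm : m ∈ D2 S)
    (hk : k ∈ S.Hp) : m * k = k * m := by
  have hmN := hm.1.1
  have hk' := N_H hmN hk
  obtain ⟨μ, hμ, hw⟩ := S.Hp_act k hk
  obtain ⟨μ', hμ', hw'⟩ := S.Hp_act _ hk'
  have hkN : k⁻¹ ∈ S.Hp := inv_mem hk
  -- the weights agree
  have h1 : μ' = μ := by
    have h2 : S.pa ((m * k * m⁻¹) * E.xa 1 * (m * k * m⁻¹)⁻¹) = μ' := by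
      rw [hw'.a, mul_one, S.pa_a]
    have m1 := N_Q1' hmN (S.a_mem 1)
    have e : (m * k * m⁻¹) * E.xa 1 * (m * k * m⁻¹)⁻¹ = m * (k * (m⁻¹ * E.xa 1 * m) * k⁻¹) * m⁻¹ := by
      group
    have m2 := S.Q1_P _ (S.Hp_P hk) _ m1
    rw [e, hm.2 _ m2] at h2
    have h3 : S.pa (k * (m⁻¹ * E.xa 1 * m) * k⁻¹) = μ * S.pa (m⁻¹ * E.xa 1 * m) :=
      congrArg Prod.fst (co_conj_H S hk hw m1)
    have h4 := hm.2 _ m1
    have e2 : m * (m⁻¹ * E.xa 1 * m) * m⁻¹ = E.xa 1 := by group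
    rw [e2, S.pa_a] at h4
    rw [h3, ← h4, mul_one] at h2
    exact h2.symm
  have h2 : (m * k * m⁻¹) * k⁻¹ = 1 := by
    apply hf _ (mul_mem hk' hkN)
    intro s
    have h3 : k⁻¹ * E.xa s * k = E.xa (μ⁻¹ * s) := by
      have h4 : E.xa s = k * E.xa (μ⁻¹ * s) * k⁻¹ := by
        rw [hw.a, ← mul_assoc, mul_inv_cancel₀ hμ, one_mul]
      rw [h4]; group
    have e : (m * k * m⁻¹) * k⁻¹ * E.xa s * ((m * k * m⁻¹) * k⁻¹)⁻¹ =
        (m * k * m⁻¹) * (k⁻¹ * E.xa s * k) * (m * k * m⁻¹)⁻¹ := by group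
    rw [e, h3, hw'.a, h1, ← mul_assoc, mul_inv_cancel₀ hμ, one_mul]
  calc m * k = ((m * k * m⁻¹) * k⁻¹) * k * m := by group
    _ = _ := by rw [h2, one_mul]

/-- the shape of the action of `D2` on `Q₁ / Z`. -/
theorem act_diag [Finite G] {m : G} (hm : m ∈ S.N) (hH : ∀ k ∈ S.Hp, m * k = k * m)
    (hz : ∀ x, m * E.xz x = E.xz x * m) (ha : ∀ g ∈ S.Q1, S.pa (m * g * m⁻¹) = S.pa g)
    (hc : ∀ y, ∃ x, m * E.xc y * m⁻¹ = E.xz x * E.xc y) :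
    ∃ l : F, l ≠ 0 ∧ ∀ g ∈ S.Q1, S.co (m * g * m⁻¹) = ((S.co g).1, l • (S.co g).2.1, (S.co g).2.2) := by
  -- the induced map of the coordinates
  let Φ : F × V × F → F × V × F := fun p => S.co (m * S.st p * m⁻¹)
  have key : ∀ g ∈ S.Q1, S.co (m * g * m⁻¹) = Φ (S.co g) := by
    intro g hg
    obtain ⟨x, hx⟩ := S.form hg
    have e : m * g * m⁻¹ = E.xz x * (m * S.st (S.co g) * m⁻¹) := by
      conv_lhs => rw [hx]
      rw [← mul_assoc, hz]; group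
    rw [e, S.co_z_mul _ (N_Q1 hm (S.st_mem _))]
  have hadd : ∀ p q, Φ (p + q) = Φ p + Φ q := by
    intro p q
    have h1 : S.co (S.st p * S.st q) = p + q := by
      rw [S.co_mul (S.st_mem p) (S.st_mem q), S.co_st, S.co_st]
    rw [← h1, ← key _ (mul_mem (S.st_mem p) (S.st_mem q))]
    have e : m * (S.st p * S.st q) * m⁻¹ = (m * S.st p * m⁻¹) * (m * S.st q * m⁻¹) := by group
    rw [e, S.co_mul (N_Q1 hm (S.st_mem p)) (N_Q1 hm (S.st_mem q))]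
  have hequiv : ∀ μ, μ ≠ 0 → ∀ p, Φ (μ * p.1, S.chi μ • p.2.1, (B.s μ)⁻¹ * p.2.2) =
      (μ * (Φ p).1, S.chi μ • (Φ p).2.1, (B.s μ)⁻¹ * (Φ p).2.2) := by
    intro μ hμ p
    obtain ⟨k, hk, hw⟩ := S.Hp_onto μ hμ
    have hkN : k ∈ S.N := T_le_N S (S.Hp_T hk)
    have h1 := co_conj_H S hk hw (S.st_mem p)
    rw [S.co_st] at h1
    rw [← h1, ← key _ (N_Q1 hkN (S.st_mem p))]
    have e : m * (k * S.st p * k⁻¹) * m⁻¹ = k * (m * S.st p * m⁻¹) * k⁻¹ := by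
      have h2 := hH k hk
      have h3 : k⁻¹ * m⁻¹ = m⁻¹ * k⁻¹ := by rw [← mul_inv_rev, h2, mul_inv_rev]
      calc m * (k * S.st p * k⁻¹) * m⁻¹ = (m * k) * S.st p * (k⁻¹ * m⁻¹) := by group
        _ = _ := by rw [h2, h3]; group
    rw [e]
    exact co_conj_H S hk hw (N_Q1 hm (S.st_mem p))
  have ha' : ∀ s, (Φ (s, 0, 0)).1 = s := by
    intro s
    have h1 := ha _ (S.st_mem (s, 0, 0))
    have h2 : S.pa (S.st (s, 0, 0)) = s := congrArg Prod.fst (S.co_st (s, 0, 0))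
    rw [h2] at h1
    exact h1
  have hc' : ∀ y, (Φ (0, 0, y)).2.2 = y := by
    intro y
    have h1 : S.co (E.xc y) = (0, 0, y) := by
      unfold co; rw [S.pa_c, S.pv_c, S.pc_c]
    obtain ⟨x, hx⟩ := hc y
    rw [← h1, ← key _ (S.c_mem y), hx, S.co_z_mul _ (S.c_mem y), h1]
  have hinj : ∀ p, Φ p = 0 → p = 0 := by
    intro p hp
    obtain ⟨x, hx⟩ := S.ker' (N_Q1 hm (S.st_mem p)) hp
    have h1 : S.st p = E.xz x := by
      have : S.st p = m⁻¹ * E.xz x * m := by rw [← hx]; group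
      rw [this, mul_assoc, ← hz, inv_mul_cancel_left]
    rw [← S.co_st p, h1, S.co_z]
  obtain ⟨l, hl, hΦ⟩ := SeedField.diag B (K_ne E) S.chi_eq Φ hadd hequiv ha' hc' hinj S.V_gen
  exact ⟨l, hl, fun g hg => by rw [key g hg, hΦ]⟩

/-- `[D2, D2] ≤ D3`. -/
theorem comm_D2 [Finite G] (hf : ∀ k ∈ S.Hp, (∀ s, k * E.xa s * k⁻¹ = E.xa s) → k = 1) {a b : G}
    (ha : a ∈ D2 S) (hb : b ∈ D2 S) : a * b * a⁻¹ * b⁻¹ ∈ D3 S := by
  have act : ∀ m ∈ D2 S, ∃ l : F, l ≠ 0 ∧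
      ∀ g ∈ S.Q1, S.co (m * g * m⁻¹) = ((S.co g).1, l • (S.co g).2.1, (S.co g).2.2) := by
    intro m hm
    exact act_diag hm.1.1 (fun k hk => D2_H hf hm hk) hm.1.2.2 hm.2
      (triv_c S hm.1.1 (D0_z hm.1) hm.2)
  obtain ⟨l, -, h1⟩ := act a ha
  obtain ⟨l', -, h2⟩ := act b hb
  refine ⟨mul_mem (mul_mem (mul_mem ha.1 hb.1) (inv_mem ha.1)) (inv_mem hb.1), fun g hg => ?_⟩
  have m1 := N_Q1' hb.1.1 hg
  have m2 := N_Q1' ha.1.1 m1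
  refine S.eq_of_co (N_Q1 (mul_mem (mul_mem (mul_mem ha.1.1 hb.1.1) (inv_mem ha.1.1)) (inv_mem hb.1.1)) hg)
    hg ?_
  have e : a * b * a⁻¹ * b⁻¹ * g * (a * b * a⁻¹ * b⁻¹)⁻¹ =
      a * (b * (a⁻¹ * (b⁻¹ * g * b) * a) * b⁻¹) * a⁻¹ := by group
  have e2 : g = b * (a * (a⁻¹ * (b⁻¹ * g * b) * a) * a⁻¹) * b⁻¹ := by group
  rw [e, h1 _ (N_Q1 hb.1.1 m2), h2 _ m2]
  have h3 : S.co g = S.co (b * (a * (a⁻¹ * (b⁻¹ * g * b) * a) * a⁻¹) * b⁻¹) := congrArg S.co e2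
  rw [h3, h2 _ (N_Q1 ha.1.1 m2), h1 _ m2]
  simp only [smul_smul, mul_comm l l']

/-- **Perfect subgroups of `C(⟨t⟩ Z)` are in `P`.** -/
theorem perf_mem [Finite G]
    (normP : ∀ c, c * E.t = E.t * c → (∀ x, c * E.xz x = E.xz x * c) → ∀ g ∈ S.P, c * g * c⁻¹ ∈ S.P)
    (hf : ∀ k ∈ S.Hp, (∀ s, k * E.xa s * k⁻¹ = E.xa s) → k = 1)
    (hc : ∀ m, m * E.t = E.t * m → (∀ x, m * E.xz x = E.xz x * m) →
      (∀ g ∈ S.Q1, ∃ x, m * g * m⁻¹ = E.xz x * g) → ∃ g ∈ S.Q1, m = g ∨ m = E.t * g)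
    {R : Subgroup G} (hR : ⁅R, R⁆ = R) (hRt : ∀ g ∈ R, E.t * g = g * E.t)
    (hRz : ∀ g ∈ R, ∀ x, E.xz x * g = g * E.xz x) : R ≤ S.P := by
  have hP : ∀ c ∈ R, ∀ g ∈ S.P, c * g * c⁻¹ ∈ S.P := fun c hc g hg =>
    normP c (hRt c hc).symm (fun x => (hRz c hc x).symm) g hg
  have h0 : ∀ g ∈ R, ∃ p ∈ S.P, p * g ∈ D0 S := by
    intro g hg
    obtain ⟨p, hp, hn⟩ := exists_mul_mem_N S (hP g hg)
    refine ⟨p, hp, hn, ?_, fun x => ?_⟩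
    · rw [mul_assoc, ← hRt g hg, ← mul_assoc, ← S.P_t p hp, mul_assoc]
    · rw [mul_assoc, ← hRz g hg x, ← mul_assoc, ← S.P_z p hp x, mul_assoc]
  have h1 := perf_step hR hP h0 (D' := D1 S) fun a ha b hb => comm_D0 ha hb
  have h2 := perf_step hR hP h1 (D' := D2 S) fun a ha b hb => comm_D1 ha hb
  have h3 := perf_step hR hP h2 (D' := D3 S) fun a ha b hb => comm_D2 hf ha hb
  have h4 := perf_step hR hP h3 (D' := S.P) fun a ha b hb => by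
    obtain ⟨g, hg, h5⟩ := hc a ha.1.2.1 ha.1.2.2 ha.2
    obtain ⟨k, hk, h6⟩ := hc b hb.1.2.1 hb.1.2.2 hb.2
    have hg' := S.Q1_le_P hg
    have hk' := S.Q1_le_P hk
    have tg : ∀ x ∈ S.P, E.t * x = x * E.t := S.P_t
    have h7 : a * b * a⁻¹ * b⁻¹ = g * k * g⁻¹ * k⁻¹ := by
      have k1 := tg g hg'
      have k2 := tg k hk'
      have k3 : E.t * g⁻¹ = g⁻¹ * E.t := tg _ (inv_mem hg')
      have k4 : E.t * k⁻¹ = k⁻¹ * E.t := tg _ (inv_mem hk')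
      have ts := E.t_sq
      have ti := E.t_inv
      rcases h5 with rfl | rfl <;> rcases h6 with rfl | rfl
      · rfl
      · calc a * (E.t * k) * a⁻¹ * (E.t * k)⁻¹ = (a * E.t) * k * a⁻¹ * k⁻¹ * E.t⁻¹ := by group
          _ = E.t * a * k * a⁻¹ * k⁻¹ * E.t := by rw [← k1, ti]
          _ = E.t * (E.t * (a * k * a⁻¹ * k⁻¹)) := by
              rw [tg _ (mul_mem (mul_mem (mul_mem hg' hk') (inv_mem hg')) (inv_mem hk'))]; group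
          _ = _ := by rw [← mul_assoc, ts, one_mul]
      · calc E.t * g * b * (E.t * g)⁻¹ * b⁻¹ = E.t * (g * b * g⁻¹) * (E.t⁻¹ * b⁻¹) := by group
          _ = E.t * (g * b * g⁻¹) * (b⁻¹ * E.t) := by rw [ti, k4]
          _ = E.t * ((g * b * g⁻¹ * b⁻¹) * E.t) := by group
          _ = E.t * (E.t * (g * b * g⁻¹ * b⁻¹)) := by
              rw [tg _ (mul_mem (mul_mem (mul_mem hg' hk') (inv_mem hg')) (inv_mem hk'))]
          _ = _ := by rw [← mul_assoc, ts, one_mul]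
      · calc E.t * g * (E.t * k) * (E.t * g)⁻¹ * (E.t * k)⁻¹
            = E.t * (g * E.t) * k * g⁻¹ * (E.t⁻¹ * k⁻¹) * E.t⁻¹ := by group
          _ = E.t * (E.t * g) * k * g⁻¹ * (k⁻¹ * E.t) * E.t := by rw [ti, k1, k4]
          _ = (E.t * E.t) * (g * k * g⁻¹ * k⁻¹) * (E.t * E.t) := by group
          _ = _ := by rw [ts, one_mul, mul_one]
    rw [h7]
    exact mul_mem (mul_mem (mul_mem hg' hk') (inv_mem hg')) (inv_mem hk')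
  intro g hg
  obtain ⟨p, hp, h5⟩ := h4 g hg
  have := mul_mem (inv_mem hp) h5
  rwa [inv_mul_cancel_left] at this

end Cfsg.Agent.StdRank2.UFour.SeedSolv
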